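import Cfsg.Agent.Mo.E0

/-! Coset enumerations for the second normal form. -/

set_option autoImplicit false
set_option maxRecDepth 1000000
set_option maxHeartbeats 0
set_option Elab.async false

namespace CF.Mo
open CF.Comp

def wY : List ℕ := [7, 15, 8, 3, 7, 15, 8, 4, 7, 15, 8]
def cdI : List (List ℕ) := [[3, 5], [3, 5, 9], [4, 5, 11, 3], [1, 5, 1, 4, 11]]
def cdO : List (List (List ℕ × List ℕ)) := [[([1], [3, 1, 4, 9]), ([3], [11, 4]), ([5], [1, 5, 1, 3, 11]), ([7], [3, 1, 5, 7, 4])], [([1], [3, 1, 4, 9]), ([3], [11, 4]), ([5], [1, 5, 1, 3, 11]), ([7], [3, 5, 1, 7, 4])], [([1], [3, 1, 4]), ([3], [4]), ([5], [4, 5, 9]), ([7], [3, 7, 11, 4])], [([1], [3, 1, 4]), ([3], [4]), ([5], [4, 5, 9]), ([7], [3, 7, 4])]]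
noncomputable def X0 (u : List ℕ) : List (List ℕ) := [[15, 5, 15, 5, 9], [15, 7, 15, 7, 15, 7] ++ winv u]
noncomputable def XI (u e m : List ℕ) : List (List ℕ) := X0 u ++ [wY ++ winv (e ++ m)]
noncomputable def XO (u : List ℕ) (L : List (List ℕ × List ℕ)) : List (List ℕ) := X0 u ++ actR wY L

noncomputable def eCi0_c0 : BT (Bx Nat) := (BT.leaf (Bx.mk (nat_lit 0x80e8000000000277a800000000000000000000000000070dc0000000000000080de0000000000000000000000000000000060d10000000001c34c00000000000000000000000000050c90000060ca1432430c20c31040c50000050c51030c30c30830810c1000000000)))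
noncomputable def eCi0_c1 : BT (Bx Nat) := (BT.leaf (Bx.mk (nat_lit 0xf3af3a2c0b1eb5079941e52a2b981e86079d78aa5e2a4000000000d52000001651a58e64c8a400001a51c68e6d989e6627558a256284fbd5000018b903a260000072b4400006e24d789661431838b6942800005e239988d00001a9067211598886e21dd50474e0de1c2803040000)))
noncomputable def eCi0_c2 : BT (Bx Nat) := (BT.leaf (Bx.mk (nat_lit 0x634bc000000000000000000000000000000000000000000000000000000000000000000000000000000000000000000000000000000000001f68e75a6000007da31d6957da2800007da25d6910000200578015a005400002005280141f68475a21f68375a1a004780115e202803040000)))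
noncomputable def eCi0_c3 : BT (Bx Nat) := (BT.leaf (Bx.mk (nat_lit 0x5c9c4000000000000000000000000000000000000000000000000000000000000000000000000000000000000000000000000001e6d77c938000079b51f24c79b49f24a79b41f24900002005800002005500002005380145e6c77c911e6c57c90e004880119d2427c4040000)))
noncomputable def eCi0_c4 : BT (Bx Nat) := (BT.leaf (Bx.mk (nat_lit 0x5b5bc000055dc400000000000003cb98000054ba4000034b9ce76b0000000003d16c00000000000005d1757a1a59d7c000039d8d675e00001b71700000000000000000000000000065c41875100001c44e56831474d000012a8f6912587075dd21b70569d1995c47110de2c2803040000)))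
noncomputable def eCi0_c5 : BT (Bx Nat) := (BT.leaf (Bx.mk (nat_lit 0x7d29c00007d2940000000014c260000134b1630a000005b2aa00704b2b5f49800000000000001f49500001f49375279f49100001f4900000200630000200618017c00008017400008016e00597d221d48f00001f48675231f4857522a004e00002004b80125f482752120043803040000)))
noncomputable def eCi0_c6 : BT (Bx Nat) := (BT.leaf (Bx.mk (nat_lit 0x513a9f366413b4000044d940000000015367000017369801c5336c801bc000000000000000001e4df7cd55e4dd7cd4c00007cd4400007cd42006400002006280180000080178000080172005a79339f34800001e4cb7cd19e4c97cd16004f80136004c80129e4c37cd0a00447c5040000)))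
noncomputable def eCi0_c7 : BT (Bx Nat) := (BT.leaf (Bx.mk (nat_lit 0x28fc400000000000000000000003caa8eceb0000000000000000000000000003cf6c00000000000005cf7503e00000000000000000000000000000000000004de5400000000000000000000004cf3c00000000143cc58f2c000000001978800001b7866d815a3c470f0de282803040000)))
noncomputable def eCi0_c8 : BT (Bx Nat) := (BT.leaf (Bx.mk (nat_lit 0x376bc000000000000000000ba6a00000cc6800000000000000000000000000000000000046c7400004907c000000000000000000000045940000066d4d965262c558b1441f610b176263d4a4e0000000005502da98a0000167c87591d77c66191400006d00dd302803040000)))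
noncomputable def eCi0_c9 : BT (Bx Nat) := (BT.leaf (Bx.mk (nat_lit 0x803040000)))
noncomputable def eCi0_c10 : BT (Bx Nat) := (BT.leaf (Bx.mk (nat_lit 0x1f5a40000000007d681f59e7d675f59c7d66df59a7d666006e00002006d801b2006b00002006a801a600688019e00668019400000000000000000000000000000006a345a8100000000000000000006e72d954a6e525b8c66e015a5886961dd54371611f181802080000)))
noncomputable def eCi0_p : BT (Bx Nat) := (BT.leaf (Bx.mk (nat_lit 0x89c689858946790a788a784a780a778a774a770a76ca768a764a66066605658665856546654564c664c564466445640664055383538253425303530252835282524352424206420541c641864185414641453103310230c330c220862085104a00000000)))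
noncomputable def eCi0_e0 : BT Nat := (BT.node (nat_lit 384) (BT.node (nat_lit 72) (BT.node (nat_lit 68) (BT.node (nat_lit 66) (BT.leaf (nat_lit 2)) (BT.leaf (nat_lit 262146))) (BT.node (nat_lit 69) (BT.leaf (nat_lit 524290)) (BT.node (nat_lit 71) (BT.leaf (nat_lit 786434)) (BT.leaf (nat_lit 1048578))))) (BT.node (nat_lit 192) (BT.node (nat_lit 73) (BT.leaf (nat_lit 1310722)) (BT.node (nat_lit 128) (BT.leaf (nat_lit 1572866)) (BT.leaf (nat_lit 2857)))) (BT.node (nat_lit 256) (BT.leaf (nat_lit 2837)) (BT.node (nat_lit 320) (BT.leaf (nat_lit 1577)) (BT.leaf (nat_lit 1545)))))) (BT.node (nat_lit 896) (BT.node (nat_lit 640) (BT.node (nat_lit 512) (BT.leaf (nat_lit 3093)) (BT.node (nat_lit 576) (BT.leaf (nat_lit 3609)) (BT.leaf (nat_lit 1557)))) (BT.node (nat_lit 704) (BT.leaf (nat_lit 1561)) (BT.node (nat_lit 768) (BT.leaf (nat_lit 3097)) (BT.leaf (nat_lit 5385))))) (BT.node (nat_lit 2048) (BT.node (nat_lit 1344) (BT.leaf (nat_lit 6153)) (BT.node (nat_lit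 1536) (BT.leaf (nat_lit 8213)) (BT.leaf (nat_lit 9237)))) (BT.node (nat_lit 2304) (BT.leaf (nat_lit 11049)) (BT.node (nat_lit 2944) (BT.leaf (nat_lit 11817)) (BT.leaf (nat_lit 11013)))))))
noncomputable def eCi0_e : BT Nat := eCi0_e0
noncomputable def eCi0_cols : List (BT (Bx Nat)) := [eCi0_c0, eCi0_c1, eCi0_c2, eCi0_c3, eCi0_c4, eCi0_c5, eCi0_c6, eCi0_c7, eCi0_c8, eCi0_c9, eCi0_c10]
noncomputable def eCi0_ch (x j : Nat) : Bx Nat := chunkG eCi0_cols (nat_lit 1) x j
noncomputable def eCi0_L (x : Nat) : Bx (Nat → Nat) := lookG eCi0_ch (nat_lit 7) (nat_lit 127) (nat_lit 18) (nat_lit 262143) x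
noncomputable def eCi0_pc (_ j : Nat) : Bx Nat := eCi0_p.get j
noncomputable def eCi0_pb : Bx (Nat → Nat) := lookG eCi0_pc (nat_lit 7) (nat_lit 127) (nat_lit 16) (nat_lit 65535) (nat_lit 0)
noncomputable def eCi0_rots : BT CW := (BT.node (nat_lit 27) (BT.node (nat_lit 13) (BT.node (nat_lit 6) (BT.node (nat_lit 3) (BT.node (nat_lit 1) (BT.leaf ⟨[], (nat_lit 1000000), (nat_lit 0), (nat_lit 0), (nat_lit 0)⟩) (BT.node (nat_lit 2) (BT.leaf ⟨[], (nat_lit 1000000), (nat_lit 0), (nat_lit 0), (nat_lit 1)⟩) (BT.leaf ⟨[], (nat_lit 1000000), (nat_lit 0), (nat_lit 0), (nat_lit 2)⟩))) (BT.node (nat_lit 4) (BT.leaf ⟨[(nat_lit 3), (nat_lit 2)], (nat_lit 141), (nat_lit 1), (nat_lit 0), (nat_lit 3)⟩) (BT.node (nat_lit 5) (BT.leaf ⟨[(nat_lit 6), (nat_lit 5)], (nat_lit 139), (nat_lit 1), (nat_lit 0), (nat_lit 3)⟩) (BT.leaf ⟨[(nat_lit 10), (nat_lit 10)], (nat_lit 121), (nat_lit 0), (nat_lit 0), (nat_lit 3)⟩)))) (BT.node (nat_lit 9) (BT.node (nat_lit 7) (BT.leaf ⟨[(nat_lit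 1), (nat_lit 10), (nat_lit 1), (nat_lit 10)], (nat_lit 129), (nat_lit 1), (nat_lit 0), (nat_lit 4)⟩) (BT.node (nat_lit 8) (BT.leaf ⟨[(nat_lit 2), (nat_lit 10), (nat_lit 3), (nat_lit 10)], (nat_lit 130), (nat_lit 1), (nat_lit 0), (nat_lit 4)⟩) (BT.leaf ⟨[(nat_lit 3), (nat_lit 2)], (nat_lit 141), (nat_lit 1), (nat_lit 0), (nat_lit 4)⟩))) (BT.node (nat_lit 11) (BT.node (nat_lit 10) (BT.leaf ⟨[(nat_lit 7), (nat_lit 10), (nat_lit 7), (nat_lit 10)], (nat_lit 131), (nat_lit 1), (nat_lit 0), (nat_lit 4)⟩) (BT.leaf ⟨[(nat_lit 4), (nat_lit 10), (nat_lit 4), (nat_lit 7), (nat_lit 10)], (nat_lit 132), (nat_lit 1), (nat_lit 0), (nat_lit 4)⟩)) (BT.node (nat_lit 12) (BT.leaf ⟨[(nat_lit 8), (nat_lit 7), (nat_lit 1), (nat_lit 4), (nat_lit 1), (nat_lit 4)], (nat_lit 20), (nat_lit 4), (nat_lit 0), (nat_lit 4)⟩) (BT.leaf ⟨[(nat_lit 6), (nat_lit 5)], (nat_lit 139), (nat_lit 1), (nat_lit 0), (nat_lit 4)⟩))))) (BT.node (nat_lit 20) (BT.node (nat_lit 16) (BT.node (nat_lit 14)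 (BT.leaf ⟨[(nat_lit 1), (nat_lit 6), (nat_lit 1), (nat_lit 5)], (nat_lit 9), (nat_lit 2), (nat_lit 0), (nat_lit 4)⟩) (BT.node (nat_lit 15) (BT.leaf ⟨[(nat_lit 7), (nat_lit 6), (nat_lit 8), (nat_lit 5)], (nat_lit 13), (nat_lit 1), (nat_lit 0), (nat_lit 4)⟩) (BT.leaf ⟨[(nat_lit 8), (nat_lit 6), (nat_lit 7), (nat_lit 5), (nat_lit 7)], (nat_lit 17), (nat_lit 2), (nat_lit 0), (nat_lit 4)⟩))) (BT.node (nat_lit 18) (BT.node (nat_lit 17) (BT.leaf ⟨[(nat_lit 4), (nat_lit 6), (nat_lit 3), (nat_lit 8), (nat_lit 2), (nat_lit 5)], (nat_lit 22), (nat_lit 2), (nat_lit 0), (nat_lit 4)⟩) (BT.leaf ⟨[(nat_lit 5), (nat_lit 6)], (nat_lit 139), (nat_lit 0), (nat_lit 0), (nat_lit 4)⟩)) (BT.node (nat_lit 19) (BT.leaf ⟨[(nat_lit 6), (nat_lit 6), (nat_lit 6)], (nat_lit 148), (nat_lit 0), (nat_lit 0), (nat_lit 4)⟩) (BT.leaf ⟨[(nat_lit 1), (nat_lit 5), (nat_lit 1), (nat_lit 6)], (nat_lit 9), (nat_lit 0), (nat_lit 0), (nat_lit 4)⟩)))) (BT.node (nat_lit 23) (BT.node (nat_lit 21) (BT.leaf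 ⟨[(nat_lit 10), (nat_lit 6), (nat_lit 10), (nat_lit 6), (nat_lit 10), (nat_lit 1), (nat_lit 6)], (nat_lit 276), (nat_lit 2), (nat_lit 0), (nat_lit 4)⟩) (BT.node (nat_lit 22) (BT.leaf ⟨[(nat_lit 10), (nat_lit 10)], (nat_lit 121), (nat_lit 0), (nat_lit 0), (nat_lit 4)⟩) (BT.leaf ⟨[(nat_lit 4), (nat_lit 7), (nat_lit 10), (nat_lit 4), (nat_lit 10)], (nat_lit 132), (nat_lit 3), (nat_lit 0), (nat_lit 4)⟩))) (BT.node (nat_lit 25) (BT.node (nat_lit 24) (BT.leaf ⟨[(nat_lit 7), (nat_lit 3), (nat_lit 7), (nat_lit 2)], (nat_lit 11), (nat_lit 1), (nat_lit 0), (nat_lit 4)⟩) (BT.leaf ⟨[(nat_lit 8), (nat_lit 3), (nat_lit 5), (nat_lit 4), (nat_lit 7), (nat_lit 6), (nat_lit 2)], (nat_lit 27), (nat_lit 1), (nat_lit 0), (nat_lit 4)⟩)) (BT.node (nat_lit 26) (BT.leaf ⟨[(nat_lit 2), (nat_lit 3)], (nat_lit 141), (nat_lit 0), (nat_lit 0), (nat_lit 4)⟩) (BT.leaf ⟨[(nat_lit 3), (nat_lit 3), (nat_lit 3)], (nat_lit 147), (nat_lit 0), (nat_lit 0), (nat_lit 4)⟩)))))) (BT.node (nat_lit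 41) (BT.node (nat_lit 34) (BT.node (nat_lit 30) (BT.node (nat_lit 28) (BT.leaf ⟨[(nat_lit 4), (nat_lit 3), (nat_lit 4), (nat_lit 3)], (nat_lit 151), (nat_lit 0), (nat_lit 0), (nat_lit 4)⟩) (BT.node (nat_lit 29) (BT.leaf ⟨[(nat_lit 4), (nat_lit 4)], (nat_lit 1), (nat_lit 0), (nat_lit 0), (nat_lit 4)⟩) (BT.leaf ⟨[(nat_lit 7), (nat_lit 2), (nat_lit 7), (nat_lit 3)], (nat_lit 11), (nat_lit 3), (nat_lit 0), (nat_lit 4)⟩))) (BT.node (nat_lit 32) (BT.node (nat_lit 31) (BT.leaf ⟨[(nat_lit 8), (nat_lit 4), (nat_lit 8), (nat_lit 4)], (nat_lit 15), (nat_lit 1), (nat_lit 0), (nat_lit 4)⟩) (BT.leaf ⟨[(nat_lit 10), (nat_lit 3), (nat_lit 10), (nat_lit 2)], (nat_lit 130), (nat_lit 2), (nat_lit 0), (nat_lit 4)⟩)) (BT.node (nat_lit 33) (BT.leaf ⟨[(nat_lit 1), (nat_lit 3), (nat_lit 6), (nat_lit 2), (nat_lit 1), (nat_lit 3), (nat_lit 6), (nat_lit 2)], (nat_lit 176), (nat_lit 3), (nat_lit 0), (nat_lit 4)⟩) (BT.leaf ⟨[(nat_lit 1), (nat_lit 1)], (nat_lit 0), (nat_lit 0), (nat_lit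 0), (nat_lit 4)⟩)))) (BT.node (nat_lit 37) (BT.node (nat_lit 35) (BT.leaf ⟨[(nat_lit 10), (nat_lit 2), (nat_lit 10), (nat_lit 3)], (nat_lit 130), (nat_lit 0), (nat_lit 0), (nat_lit 4)⟩) (BT.node (nat_lit 36) (BT.leaf ⟨[(nat_lit 1), (nat_lit 3), (nat_lit 1), (nat_lit 3), (nat_lit 1), (nat_lit 3)], (nat_lit 162), (nat_lit 1), (nat_lit 0), (nat_lit 4)⟩) (BT.leaf ⟨[(nat_lit 10), (nat_lit 6), (nat_lit 3), (nat_lit 5), (nat_lit 10), (nat_lit 6), (nat_lit 4), (nat_lit 3), (nat_lit 5), (nat_lit 10), (nat_lit 6), (nat_lit 2), (nat_lit 5)], (nat_lit 134), (nat_lit 5), (nat_lit 0), (nat_lit 4)⟩))) (BT.node (nat_lit 39) (BT.node (nat_lit 38) (BT.leaf ⟨[(nat_lit 8), (nat_lit 5), (nat_lit 7), (nat_lit 6)], (nat_lit 13), (nat_lit 3), (nat_lit 0), (nat_lit 4)⟩) (BT.leaf ⟨[(nat_lit 10), (nat_lit 6), (nat_lit 2), (nat_lit 5), (nat_lit 10), (nat_lit 6), (nat_lit 3), (nat_lit 5), (nat_lit 10), (nat_lit 6), (nat_lit 4), (nat_lit 3), (nat_lit 5)], (nat_lit 134), (nat_lit 1),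 (nat_lit 0), (nat_lit 4)⟩)) (BT.node (nat_lit 40) (BT.leaf ⟨[(nat_lit 4), (nat_lit 5), (nat_lit 4), (nat_lit 1), (nat_lit 2), (nat_lit 8), (nat_lit 3), (nat_lit 6)], (nat_lit 32), (nat_lit 5), (nat_lit 0), (nat_lit 4)⟩) (BT.leaf ⟨[(nat_lit 8), (nat_lit 1), (nat_lit 8), (nat_lit 1)], (nat_lit 14), (nat_lit 1), (nat_lit 0), (nat_lit 4)⟩))))) (BT.node (nat_lit 48) (BT.node (nat_lit 44) (BT.node (nat_lit 42) (BT.leaf ⟨[(nat_lit 4), (nat_lit 8), (nat_lit 7), (nat_lit 1), (nat_lit 4), (nat_lit 1)], (nat_lit 20), (nat_lit 3), (nat_lit 0), (nat_lit 4)⟩) (BT.node (nat_lit 43) (BT.leaf ⟨[(nat_lit 1), (nat_lit 2), (nat_lit 6), (nat_lit 3), (nat_lit 1), (nat_lit 2), (nat_lit 6), (nat_lit 3)], (nat_lit 174), (nat_lit 3), (nat_lit 0), (nat_lit 4)⟩) (BT.leaf ⟨[(nat_lit 8), (nat_lit 8)], (nat_lit 3), (nat_lit 0), (nat_lit 0), (nat_lit 4)⟩))) (BT.node (nat_lit 46) (BT.node (nat_lit 45) (BT.leaf ⟨[(nat_lit 8), (nat_lit 2), (nat_lit 5), (nat_lit 4), (nat_lit 6), (nat_lit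 3)], (nat_lit 22), (nat_lit 5), (nat_lit 0), (nat_lit 4)⟩) (BT.leaf ⟨[(nat_lit 1), (nat_lit 2), (nat_lit 1), (nat_lit 2), (nat_lit 1), (nat_lit 2)], (nat_lit 19), (nat_lit 0), (nat_lit 0), (nat_lit 4)⟩)) (BT.node (nat_lit 47) (BT.leaf ⟨[(nat_lit 1), (nat_lit 8), (nat_lit 1), (nat_lit 8)], (nat_lit 14), (nat_lit 0), (nat_lit 0), (nat_lit 4)⟩) (BT.leaf ⟨[(nat_lit 5), (nat_lit 10), (nat_lit 5), (nat_lit 10), (nat_lit 5), (nat_lit 1), (nat_lit 10)], (nat_lit 133), (nat_lit 1), (nat_lit 0), (nat_lit 4)⟩)))) (BT.node (nat_lit 51) (BT.node (nat_lit 49) (BT.leaf ⟨[(nat_lit 8), (nat_lit 6), (nat_lit 1), (nat_lit 4), (nat_lit 1), (nat_lit 4), (nat_lit 5)], (nat_lit 24), (nat_lit 5), (nat_lit 0), (nat_lit 4)⟩) (BT.node (nat_lit 50) (BT.leaf ⟨[(nat_lit 5), (nat_lit 1), (nat_lit 6), (nat_lit 1)], (nat_lit 9), (nat_lit 1), (nat_lit 0), (nat_lit 4)⟩) (BT.leaf ⟨[(nat_lit 7), (nat_lit 7)], (nat_lit 2), (nat_lit 0), (nat_lit 0), (nat_lit 4)⟩))) (BT.node (nat_lit 53) (BT.node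 (nat_lit 52) (BT.leaf ⟨[(nat_lit 2), (nat_lit 5), (nat_lit 10), (nat_lit 6), (nat_lit 3), (nat_lit 5), (nat_lit 10), (nat_lit 6), (nat_lit 4), (nat_lit 3), (nat_lit 5), (nat_lit 10), (nat_lit 6)], (nat_lit 134), (nat_lit 3), (nat_lit 0), (nat_lit 4)⟩) (BT.leaf ⟨[(nat_lit 4), (nat_lit 3), (nat_lit 5), (nat_lit 10), (nat_lit 6), (nat_lit 2), (nat_lit 5), (nat_lit 10), (nat_lit 6), (nat_lit 3), (nat_lit 5), (nat_lit 10), (nat_lit 6)], (nat_lit 134), (nat_lit 11), (nat_lit 0), (nat_lit 4)⟩)) (BT.node (nat_lit 54) (BT.leaf ⟨[(nat_lit 8), (nat_lit 4), (nat_lit 2), (nat_lit 1), (nat_lit 6), (nat_lit 4), (nat_lit 7), (nat_lit 5), (nat_lit 2)], (nat_lit 186), (nat_lit 5), (nat_lit 0), (nat_lit 4)⟩) (BT.leaf ⟨[(nat_lit 0), (nat_lit 5), (nat_lit 2), (nat_lit 4), (nat_lit 7), (nat_lit 2), (nat_lit 8), (nat_lit 4), (nat_lit 6), (nat_lit 7)], (nat_lit 69), (nat_lit 8), (nat_lit 1), (nat_lit 4)⟩)))))))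
noncomputable def eCi0_hcs : List CW := [⟨[(nat_lit 1)], (nat_lit 0), (nat_lit 0), (nat_lit 0), (nat_lit 0)⟩, ⟨[(nat_lit 2)], (nat_lit 1), (nat_lit 0), (nat_lit 0), (nat_lit 0)⟩, ⟨[(nat_lit 4)], (nat_lit 2), (nat_lit 0), (nat_lit 0), (nat_lit 0)⟩, ⟨[(nat_lit 5)], (nat_lit 3), (nat_lit 0), (nat_lit 0), (nat_lit 0)⟩, ⟨[(nat_lit 7)], (nat_lit 4), (nat_lit 0), (nat_lit 0), (nat_lit 0)⟩, ⟨[(nat_lit 8)], (nat_lit 5), (nat_lit 0), (nat_lit 0), (nat_lit 0)⟩, ⟨[(nat_lit 9)], (nat_lit 6), (nat_lit 0), (nat_lit 0), (nat_lit 0)⟩, ⟨[(nat_lit 1)], (nat_lit 7), (nat_lit 0), (nat_lit 0), (nat_lit 0)⟩, ⟨[(nat_lit 3)], (nat_lit 8), (nat_lit 0), (nat_lit 0), (nat_lit 0)⟩, ⟨[(nat_lit 4)], (nat_lit 9), (nat_lit 0), (nat_lit 0), (nat_lit 0)⟩, ⟨[(nat_lit 6)], (nat_lit 10), (nat_lit 0), (nat_lit 0), (nat_lit 0)⟩, ⟨[(nat_lit 7)], (nat_lit 11), (nat_lit 0), (nat_lit 0), (nat_lit 0)⟩, ⟨[(nat_lit 8)], (nat_lit 12), (nat_lit 0), (nat_lit 0), (nat_lit 0)⟩, ⟨[(nat_lit 9)], (nat_lit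 13), (nat_lit 0), (nat_lit 0), (nat_lit 0)⟩]
noncomputable def eCi0_H (x j : Nat) : Bx (Nat → Nat → Nat) := mkH eCi0_L eCi0_pb.1 eCi0_e.get (lmap CW.w eCi0_hcs) (nat_lit 1) (nat_lit 2) (nat_lit 11) (nat_lit 64) (nat_lit 4096) (nat_lit 4095) x (eCi0_rots.get j)
noncomputable def eCi0_F (x b : Nat) : Bool := blkOK eCi0_H eCi0_ch (nat_lit 2) (nat_lit 64) (nat_lit 64) (nat_lit 7) (nat_lit 127) (nat_lit 18) (nat_lit 262143) x b

theorem eCi0_k0_0 : allFrom (eCi0_F (nat_lit 0)) (nat_lit 0) (nat_lit 2) = true := by decide +kernel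
theorem eCi0_k1_0 : allFrom (eCi0_F (nat_lit 1)) (nat_lit 0) (nat_lit 2) = true := by decide +kernel
theorem eCi0_k2_0 : allFrom (eCi0_F (nat_lit 2)) (nat_lit 0) (nat_lit 2) = true := by decide +kernel
theorem eCi0_k3_0 : allFrom (eCi0_F (nat_lit 3)) (nat_lit 0) (nat_lit 2) = true := by decide +kernel
theorem eCi0_k4_0 : allFrom (eCi0_F (nat_lit 4)) (nat_lit 0) (nat_lit 2) = true := by decide +kernel
theorem eCi0_k5_0 : allFrom (eCi0_F (nat_lit 5)) (nat_lit 0) (nat_lit 2) = true := by decide +kernel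
theorem eCi0_k6_0 : allFrom (eCi0_F (nat_lit 6)) (nat_lit 0) (nat_lit 2) = true := by decide +kernel
theorem eCi0_k7_0 : allFrom (eCi0_F (nat_lit 7)) (nat_lit 0) (nat_lit 2) = true := by decide +kernel
theorem eCi0_k8_0 : allFrom (eCi0_F (nat_lit 8)) (nat_lit 0) (nat_lit 2) = true := by decide +kernel
theorem eCi0_k9_0 : allFrom (eCi0_F (nat_lit 9)) (nat_lit 0) (nat_lit 2) = true := by decide +kernel
theorem eCi0_k10_0 : allFrom (eCi0_F (nat_lit 10)) (nat_lit 0) (nat_lit 2) = true := by decide +kernel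

noncomputable def eCi1_c0 : BT (Bx Nat) := (BT.leaf (Bx.mk (nat_lit 0x80e8000000000277a800000000000000000000000000070dc0000000000000080de0000000000000000000000000000000060d10000000001c34c00000000000000000000000000050c90000060ca1432430c20c31040c50000050c51030c30c30830810c1000000000)))
noncomputable def eCi1_c1 : BT (Bx Nat) := (BT.leaf (Bx.mk (nat_lit 0x123af462c0e1eb5c79971e5362b9b1e86c79da8aa6a2a4000000001052000001951a64e64f8a400001d51c74e6dc89e7227588a2622852bd500001bb904626000007eb4400007a24da8966d431b38b7542800006a239c88d00001d9067e115c8887a21e050480e0e11c28c3040000)))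
noncomputable def eCi1_c2 : BT (Bx Nat) := (BT.leaf (Bx.mk (nat_lit 0x674bc000000000000000000000000000000000000000000000000000000000000000000000000000000000000000000000000000000000002268e81a60000089a32069589a28000089a2606910000230578c15a30540000230528c142268481a22268381a1a30478c11612028c3040000)))
noncomputable def eCi1_c3 : BT (Bx Nat) := (BT.leaf (Bx.mk (nat_lit 0x609c400000000000000000000000000000000000000000000000000000000000000000000000000000000000000000000000000216d788938000085b52224c85b4a224a85b4222490000230580000230550000230538c14616c78891216c58890e30488c11a0242884040000)))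
noncomputable def eCi1_c4 : BT (Bx Nat) := (BT.leaf (Bx.mk (nat_lit 0x335bc00002ddc4000000000000048b98000060ba4000040b9d176b0000000004916c000000000000069175aa1a65d7c000045d8d975e00001e71700000000000000000000000000071c41b75100001f44e62831774d000015a8f75125b70769d21e70575d19c5c47d10e12c28c3040000)))
noncomputable def eCi1_c5 : BT (Bx Nat) := (BT.leaf (Bx.mk (nat_lit 0x8929c0000892940000000017c260000164b16f0a00000672aa3070572b624980000000000000224950000224938127a24910000224900000230630000230618c17c00008c17400008c16e305989222048f0000224868123224858122a304e00002304b8c12624828121230438c3040000)))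
noncomputable def eCi1_c6 : BT (Bx Nat) := (BT.leaf (Bx.mk (nat_lit 0x5d3aa23664d3b4000050d94000000001836700001a3698c1c5636c8c1bc00000000000000000214df88d5614dd88d4c000088d44000088d4230640000230628c18000008c17800008c172305a8533a23480000214cb88d1a14c988d16304f8c136304c8c12a14c388d0a3044885040000)))
noncomputable def eCi1_c7 : BT (Bx Nat) := (BT.leaf (Bx.mk (nat_lit 0x34fc4000000000000000000000048aa91ceb00000000000000000000000000048f6c000000000000068f7533e000000000000000000000000000000000000059e54000000000000000000000058f3c00000000173cc64f2c000068f25c78800001e78679815d3c47cf0e12828c3040000)))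
noncomputable def eCi1_c8 : BT (Bx Nat) := (BT.leaf (Bx.mk (nat_lit 0x2b6bc000000000000000000ea6a00000fc6800000000000000000000000000000000000052c7400005507c000000000000000000000051940000072d4dc6526ec55bb144df613b176e63d7a4e0000000006102dd98a0000197c88191da7c66d91400007900e03028c3040000)))
noncomputable def eCi1_c9 : BT (Bx Nat) := (BT.leaf (Bx.mk (nat_lit 0x8c3040000)))
noncomputable def eCi1_c10 : BT (Bx Nat) := (BT.leaf (Bx.mk (nat_lit 0x225a400000000089682259e89676259c8966e259a89666306e00002306d8c1b2306b00002306a8c1a630688c19e30668c194000000000000000000000000000000076345d8100000000000000000007a72dc54a7a525e8c67a015d5887561e05437d61221818c2080000)))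
noncomputable def eCi1_p : BT (Bx Nat) := (BT.leaf (Bx.mk (nat_lit 0x89c689858946790a788a784a780a778a774a770a76ca768a764a66066605658665856546654564c664c564466445640664055383538253425303530252835282524352424206420541c641864185414641453103310230c330c220862085104a00000000)))
noncomputable def eCi1_e0 : BT Nat := (BT.node (nat_lit 384) (BT.node (nat_lit 72) (BT.node (nat_lit 68) (BT.node (nat_lit 66) (BT.leaf (nat_lit 2)) (BT.leaf (nat_lit 262146))) (BT.node (nat_lit 69) (BT.leaf (nat_lit 524290)) (BT.node (nat_lit 71) (BT.leaf (nat_lit 786434)) (BT.leaf (nat_lit 1048578))))) (BT.node (nat_lit 192) (BT.node (nat_lit 73) (BT.leaf (nat_lit 1310722)) (BT.node (nat_lit 128) (BT.leaf (nat_lit 1572866)) (BT.leaf (nat_lit 2857)))) (BT.node (nat_lit 256) (BT.leaf (nat_lit 2837)) (BT.node (nat_lit 320) (BT.leaf (nat_lit 1577)) (BT.leaf (nat_lit 1545)))))) (BT.node (nat_lit 896) (BT.node (nat_lit 640) (BT.node (nat_lit 512) (BT.leaf (nat_lit 3093)) (BT.node (nat_lit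 576) (BT.leaf (nat_lit 3609)) (BT.leaf (nat_lit 1557)))) (BT.node (nat_lit 704) (BT.leaf (nat_lit 1561)) (BT.node (nat_lit 768) (BT.leaf (nat_lit 3097)) (BT.leaf (nat_lit 5385))))) (BT.node (nat_lit 2048) (BT.node (nat_lit 1344) (BT.leaf (nat_lit 6153)) (BT.node (nat_lit 1536) (BT.leaf (nat_lit 8213)) (BT.leaf (nat_lit 9237)))) (BT.node (nat_lit 2304) (BT.leaf (nat_lit 11049)) (BT.node (nat_lit 2944) (BT.leaf (nat_lit 11817)) (BT.leaf (nat_lit 11013)))))))
noncomputable def eCi1_e : BT Nat := eCi1_e0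
noncomputable def eCi1_cols : List (BT (Bx Nat)) := [eCi1_c0, eCi1_c1, eCi1_c2, eCi1_c3, eCi1_c4, eCi1_c5, eCi1_c6, eCi1_c7, eCi1_c8, eCi1_c9, eCi1_c10]
noncomputable def eCi1_ch (x j : Nat) : Bx Nat := chunkG eCi1_cols (nat_lit 1) x j
noncomputable def eCi1_L (x : Nat) : Bx (Nat → Nat) := lookG eCi1_ch (nat_lit 7) (nat_lit 127) (nat_lit 18) (nat_lit 262143) x
noncomputable def eCi1_pc (_ j : Nat) : Bx Nat := eCi1_p.get j
noncomputable def eCi1_pb : Bx (Nat → Nat) := lookG eCi1_pc (nat_lit 7) (nat_lit 127) (nat_lit 16) (nat_lit 65535) (nat_lit 0)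
noncomputable def eCi1_rots : BT CW := (BT.node (nat_lit 27) (BT.node (nat_lit 13) (BT.node (nat_lit 6) (BT.node (nat_lit 3) (BT.node (nat_lit 1) (BT.leaf ⟨[], (nat_lit 1000000), (nat_lit 0), (nat_lit 0), (nat_lit 0)⟩) (BT.node (nat_lit 2) (BT.leaf ⟨[], (nat_lit 1000000), (nat_lit 0), (nat_lit 0), (nat_lit 1)⟩) (BT.leaf ⟨[], (nat_lit 1000000), (nat_lit 0), (nat_lit 0), (nat_lit 2)⟩))) (BT.node (nat_lit 4) (BT.leaf ⟨[(nat_lit 3), (nat_lit 2)], (nat_lit 141), (nat_lit 1), (nat_lit 0), (nat_lit 3)⟩) (BT.node (nat_lit 5) (BT.leaf ⟨[(nat_lit 6), (nat_lit 5)], (nat_lit 139), (nat_lit 1), (nat_lit 0), (nat_lit 3)⟩) (BT.leaf ⟨[(nat_lit 10), (nat_lit 10)], (nat_lit 121), (nat_lit 0), (nat_lit 0), (nat_lit 3)⟩)))) (BT.node (nat_lit 9) (BT.node (nat_lit 7) (BT.leaf ⟨[(nat_lit 1), (nat_lit 10), (nat_lit 1), (nat_lit 10)], (nat_lit 129), (nat_lit 1), (nat_lit 0), (nat_lit 4)⟩) (BT.node (nat_lit 8) (BT.leaf ⟨[(nat_lit 2), (nat_lit 10), (nat_lit 3), (nat_lit 10)], (nat_lit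 130), (nat_lit 1), (nat_lit 0), (nat_lit 4)⟩) (BT.leaf ⟨[(nat_lit 3), (nat_lit 2)], (nat_lit 141), (nat_lit 1), (nat_lit 0), (nat_lit 4)⟩))) (BT.node (nat_lit 11) (BT.node (nat_lit 10) (BT.leaf ⟨[(nat_lit 7), (nat_lit 10), (nat_lit 7), (nat_lit 10)], (nat_lit 131), (nat_lit 1), (nat_lit 0), (nat_lit 4)⟩) (BT.leaf ⟨[(nat_lit 4), (nat_lit 10), (nat_lit 4), (nat_lit 7), (nat_lit 10)], (nat_lit 132), (nat_lit 1), (nat_lit 0), (nat_lit 4)⟩)) (BT.node (nat_lit 12) (BT.leaf ⟨[(nat_lit 8), (nat_lit 7), (nat_lit 1), (nat_lit 4), (nat_lit 1), (nat_lit 4)], (nat_lit 20), (nat_lit 4), (nat_lit 0), (nat_lit 4)⟩) (BT.leaf ⟨[(nat_lit 6), (nat_lit 5)], (nat_lit 139), (nat_lit 1), (nat_lit 0), (nat_lit 4)⟩))))) (BT.node (nat_lit 20) (BT.node (nat_lit 16) (BT.node (nat_lit 14) (BT.leaf ⟨[(nat_lit 1), (nat_lit 6), (nat_lit 1), (nat_lit 5)], (nat_lit 9), (nat_lit 2), (nat_lit 0), (nat_lit 4)⟩) (BT.node (nat_lit 15) (BT.leaf ⟨[(nat_lit 7), (nat_lit 6), (nat_lit 8), (nat_lit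 5)], (nat_lit 13), (nat_lit 1), (nat_lit 0), (nat_lit 4)⟩) (BT.leaf ⟨[(nat_lit 8), (nat_lit 6), (nat_lit 7), (nat_lit 5), (nat_lit 7)], (nat_lit 17), (nat_lit 2), (nat_lit 0), (nat_lit 4)⟩))) (BT.node (nat_lit 18) (BT.node (nat_lit 17) (BT.leaf ⟨[(nat_lit 4), (nat_lit 6), (nat_lit 3), (nat_lit 8), (nat_lit 2), (nat_lit 5)], (nat_lit 22), (nat_lit 2), (nat_lit 0), (nat_lit 4)⟩) (BT.leaf ⟨[(nat_lit 5), (nat_lit 6)], (nat_lit 139), (nat_lit 0), (nat_lit 0), (nat_lit 4)⟩)) (BT.node (nat_lit 19) (BT.leaf ⟨[(nat_lit 6), (nat_lit 6), (nat_lit 6)], (nat_lit 148), (nat_lit 0), (nat_lit 0), (nat_lit 4)⟩) (BT.leaf ⟨[(nat_lit 1), (nat_lit 5), (nat_lit 1), (nat_lit 6)], (nat_lit 9), (nat_lit 0), (nat_lit 0), (nat_lit 4)⟩)))) (BT.node (nat_lit 23) (BT.node (nat_lit 21) (BT.leaf ⟨[(nat_lit 10), (nat_lit 6), (nat_lit 10), (nat_lit 6), (nat_lit 10), (nat_lit 1), (nat_lit 6)], (nat_lit 276), (nat_lit 2), (nat_lit 0), (nat_lit 4)⟩) (BT.node (nat_lit 22) (BT.leaf ⟨[(nat_lit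 10), (nat_lit 10)], (nat_lit 121), (nat_lit 0), (nat_lit 0), (nat_lit 4)⟩) (BT.leaf ⟨[(nat_lit 4), (nat_lit 7), (nat_lit 10), (nat_lit 4), (nat_lit 10)], (nat_lit 132), (nat_lit 3), (nat_lit 0), (nat_lit 4)⟩))) (BT.node (nat_lit 25) (BT.node (nat_lit 24) (BT.leaf ⟨[(nat_lit 7), (nat_lit 3), (nat_lit 7), (nat_lit 2)], (nat_lit 11), (nat_lit 1), (nat_lit 0), (nat_lit 4)⟩) (BT.leaf ⟨[(nat_lit 8), (nat_lit 3), (nat_lit 5), (nat_lit 4), (nat_lit 7), (nat_lit 6), (nat_lit 2)], (nat_lit 27), (nat_lit 1), (nat_lit 0), (nat_lit 4)⟩)) (BT.node (nat_lit 26) (BT.leaf ⟨[(nat_lit 2), (nat_lit 3)], (nat_lit 141), (nat_lit 0), (nat_lit 0), (nat_lit 4)⟩) (BT.leaf ⟨[(nat_lit 3), (nat_lit 3), (nat_lit 3)], (nat_lit 147), (nat_lit 0), (nat_lit 0), (nat_lit 4)⟩)))))) (BT.node (nat_lit 41) (BT.node (nat_lit 34) (BT.node (nat_lit 30) (BT.node (nat_lit 28) (BT.leaf ⟨[(nat_lit 4), (nat_lit 3), (nat_lit 4), (nat_lit 3)], (nat_lit 151), (nat_lit 0), (nat_lit 0), (nat_lit 4)⟩) (BT.node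 (nat_lit 29) (BT.leaf ⟨[(nat_lit 4), (nat_lit 4)], (nat_lit 1), (nat_lit 0), (nat_lit 0), (nat_lit 4)⟩) (BT.leaf ⟨[(nat_lit 7), (nat_lit 2), (nat_lit 7), (nat_lit 3)], (nat_lit 11), (nat_lit 3), (nat_lit 0), (nat_lit 4)⟩))) (BT.node (nat_lit 32) (BT.node (nat_lit 31) (BT.leaf ⟨[(nat_lit 8), (nat_lit 4), (nat_lit 8), (nat_lit 4)], (nat_lit 15), (nat_lit 1), (nat_lit 0), (nat_lit 4)⟩) (BT.leaf ⟨[(nat_lit 10), (nat_lit 3), (nat_lit 10), (nat_lit 2)], (nat_lit 130), (nat_lit 2), (nat_lit 0), (nat_lit 4)⟩)) (BT.node (nat_lit 33) (BT.leaf ⟨[(nat_lit 1), (nat_lit 3), (nat_lit 6), (nat_lit 2), (nat_lit 1), (nat_lit 3), (nat_lit 6), (nat_lit 2)], (nat_lit 176), (nat_lit 3), (nat_lit 0), (nat_lit 4)⟩) (BT.leaf ⟨[(nat_lit 1), (nat_lit 1)], (nat_lit 0), (nat_lit 0), (nat_lit 0), (nat_lit 4)⟩)))) (BT.node (nat_lit 37) (BT.node (nat_lit 35) (BT.leaf ⟨[(nat_lit 10), (nat_lit 2), (nat_lit 10), (nat_lit 3)], (nat_lit 130), (nat_lit 0), (nat_lit 0), (nat_lit 4)⟩) (BT.node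 (nat_lit 36) (BT.leaf ⟨[(nat_lit 1), (nat_lit 3), (nat_lit 1), (nat_lit 3), (nat_lit 1), (nat_lit 3)], (nat_lit 162), (nat_lit 1), (nat_lit 0), (nat_lit 4)⟩) (BT.leaf ⟨[(nat_lit 10), (nat_lit 6), (nat_lit 3), (nat_lit 5), (nat_lit 10), (nat_lit 6), (nat_lit 7), (nat_lit 4), (nat_lit 3), (nat_lit 5), (nat_lit 10), (nat_lit 6), (nat_lit 2), (nat_lit 5)], (nat_lit 134), (nat_lit 5), (nat_lit 0), (nat_lit 4)⟩))) (BT.node (nat_lit 39) (BT.node (nat_lit 38) (BT.leaf ⟨[(nat_lit 8), (nat_lit 5), (nat_lit 7), (nat_lit 6)], (nat_lit 13), (nat_lit 3), (nat_lit 0), (nat_lit 4)⟩) (BT.leaf ⟨[(nat_lit 10), (nat_lit 6), (nat_lit 2), (nat_lit 5), (nat_lit 10), (nat_lit 6), (nat_lit 3), (nat_lit 5), (nat_lit 10), (nat_lit 6), (nat_lit 7), (nat_lit 4), (nat_lit 3), (nat_lit 5)], (nat_lit 134), (nat_lit 1), (nat_lit 0), (nat_lit 4)⟩)) (BT.node (nat_lit 40) (BT.leaf ⟨[(nat_lit 4), (nat_lit 5), (nat_lit 4), (nat_lit 1), (nat_lit 2), (nat_lit 8), (nat_lit 3), (nat_lit 6)], (nat_lit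 32), (nat_lit 5), (nat_lit 0), (nat_lit 4)⟩) (BT.leaf ⟨[(nat_lit 8), (nat_lit 1), (nat_lit 8), (nat_lit 1)], (nat_lit 14), (nat_lit 1), (nat_lit 0), (nat_lit 4)⟩))))) (BT.node (nat_lit 48) (BT.node (nat_lit 44) (BT.node (nat_lit 42) (BT.leaf ⟨[(nat_lit 4), (nat_lit 8), (nat_lit 7), (nat_lit 1), (nat_lit 4), (nat_lit 1)], (nat_lit 20), (nat_lit 3), (nat_lit 0), (nat_lit 4)⟩) (BT.node (nat_lit 43) (BT.leaf ⟨[(nat_lit 1), (nat_lit 2), (nat_lit 6), (nat_lit 3), (nat_lit 1), (nat_lit 2), (nat_lit 6), (nat_lit 3)], (nat_lit 174), (nat_lit 3), (nat_lit 0), (nat_lit 4)⟩) (BT.leaf ⟨[(nat_lit 8), (nat_lit 8)], (nat_lit 3), (nat_lit 0), (nat_lit 0), (nat_lit 4)⟩))) (BT.node (nat_lit 46) (BT.node (nat_lit 45) (BT.leaf ⟨[(nat_lit 8), (nat_lit 2), (nat_lit 5), (nat_lit 4), (nat_lit 6), (nat_lit 3)], (nat_lit 22), (nat_lit 5), (nat_lit 0), (nat_lit 4)⟩) (BT.leaf ⟨[(nat_lit 1), (nat_lit 2), (nat_lit 1), (nat_lit 2), (nat_lit 1), (nat_lit 2)], (nat_lit 19), (nat_lit 0),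 (nat_lit 0), (nat_lit 4)⟩)) (BT.node (nat_lit 47) (BT.leaf ⟨[(nat_lit 1), (nat_lit 8), (nat_lit 1), (nat_lit 8)], (nat_lit 14), (nat_lit 0), (nat_lit 0), (nat_lit 4)⟩) (BT.leaf ⟨[(nat_lit 5), (nat_lit 10), (nat_lit 5), (nat_lit 10), (nat_lit 5), (nat_lit 1), (nat_lit 10)], (nat_lit 133), (nat_lit 1), (nat_lit 0), (nat_lit 4)⟩)))) (BT.node (nat_lit 51) (BT.node (nat_lit 49) (BT.leaf ⟨[(nat_lit 8), (nat_lit 6), (nat_lit 1), (nat_lit 4), (nat_lit 1), (nat_lit 4), (nat_lit 5)], (nat_lit 24), (nat_lit 5), (nat_lit 0), (nat_lit 4)⟩) (BT.node (nat_lit 50) (BT.leaf ⟨[(nat_lit 5), (nat_lit 1), (nat_lit 6), (nat_lit 1)], (nat_lit 9), (nat_lit 1), (nat_lit 0), (nat_lit 4)⟩) (BT.leaf ⟨[(nat_lit 7), (nat_lit 7)], (nat_lit 2), (nat_lit 0), (nat_lit 0), (nat_lit 4)⟩))) (BT.node (nat_lit 53) (BT.node (nat_lit 52) (BT.leaf ⟨[(nat_lit 2), (nat_lit 5), (nat_lit 10), (nat_lit 6), (nat_lit 3), (nat_lit 5), (nat_lit 10), (nat_lit 6), (nat_lit 7), (nat_lit 4), (nat_lit 3), (nat_lit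 5), (nat_lit 10), (nat_lit 6)], (nat_lit 134), (nat_lit 3), (nat_lit 0), (nat_lit 4)⟩) (BT.leaf ⟨[(nat_lit 4), (nat_lit 3), (nat_lit 5), (nat_lit 10), (nat_lit 6), (nat_lit 2), (nat_lit 5), (nat_lit 10), (nat_lit 6), (nat_lit 3), (nat_lit 5), (nat_lit 10), (nat_lit 6), (nat_lit 7)], (nat_lit 134), (nat_lit 12), (nat_lit 0), (nat_lit 4)⟩)) (BT.node (nat_lit 54) (BT.leaf ⟨[(nat_lit 8), (nat_lit 4), (nat_lit 2), (nat_lit 1), (nat_lit 6), (nat_lit 4), (nat_lit 7), (nat_lit 5), (nat_lit 2)], (nat_lit 186), (nat_lit 5), (nat_lit 0), (nat_lit 4)⟩) (BT.leaf ⟨[(nat_lit 0), (nat_lit 5), (nat_lit 2), (nat_lit 4), (nat_lit 7), (nat_lit 2), (nat_lit 8), (nat_lit 4), (nat_lit 6), (nat_lit 7)], (nat_lit 69), (nat_lit 8), (nat_lit 1), (nat_lit 4)⟩)))))))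
noncomputable def eCi1_hcs : List CW := [⟨[(nat_lit 1)], (nat_lit 0), (nat_lit 0), (nat_lit 0), (nat_lit 0)⟩, ⟨[(nat_lit 2)], (nat_lit 1), (nat_lit 0), (nat_lit 0), (nat_lit 0)⟩, ⟨[(nat_lit 4)], (nat_lit 2), (nat_lit 0), (nat_lit 0), (nat_lit 0)⟩, ⟨[(nat_lit 5)], (nat_lit 3), (nat_lit 0), (nat_lit 0), (nat_lit 0)⟩, ⟨[(nat_lit 7)], (nat_lit 4), (nat_lit 0), (nat_lit 0), (nat_lit 0)⟩, ⟨[(nat_lit 8)], (nat_lit 5), (nat_lit 0), (nat_lit 0), (nat_lit 0)⟩, ⟨[(nat_lit 9)], (nat_lit 6), (nat_lit 0), (nat_lit 0), (nat_lit 0)⟩, ⟨[(nat_lit 1)], (nat_lit 7), (nat_lit 0), (nat_lit 0), (nat_lit 0)⟩, ⟨[(nat_lit 3)], (nat_lit 8), (nat_lit 0), (nat_lit 0), (nat_lit 0)⟩, ⟨[(nat_lit 4)], (nat_lit 9), (nat_lit 0), (nat_lit 0), (nat_lit 0)⟩, ⟨[(nat_lit 6)], (nat_lit 10), (nat_lit 0), (nat_lit 0), (nat_lit 0)⟩, ⟨[(nat_lit 7)], (nat_lit 11), (nat_lit 0), (nat_lit 0), (nat_lit 0)⟩, ⟨[(nat_lit 8)], (nat_lit 12), (nat_lit 0), (nat_lit 0), (nat_lit 0)⟩, ⟨[(nat_lit 9)], (nat_lit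 13), (nat_lit 0), (nat_lit 0), (nat_lit 0)⟩]
noncomputable def eCi1_H (x j : Nat) : Bx (Nat → Nat → Nat) := mkH eCi1_L eCi1_pb.1 eCi1_e.get (lmap CW.w eCi1_hcs) (nat_lit 1) (nat_lit 2) (nat_lit 11) (nat_lit 64) (nat_lit 4096) (nat_lit 4095) x (eCi1_rots.get j)
noncomputable def eCi1_F (x b : Nat) : Bool := blkOK eCi1_H eCi1_ch (nat_lit 2) (nat_lit 64) (nat_lit 64) (nat_lit 7) (nat_lit 127) (nat_lit 18) (nat_lit 262143) x b

theorem eCi1_k0_0 : allFrom (eCi1_F (nat_lit 0)) (nat_lit 0) (nat_lit 2) = true := by decide +kernel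
theorem eCi1_k1_0 : allFrom (eCi1_F (nat_lit 1)) (nat_lit 0) (nat_lit 2) = true := by decide +kernel
theorem eCi1_k2_0 : allFrom (eCi1_F (nat_lit 2)) (nat_lit 0) (nat_lit 2) = true := by decide +kernel
theorem eCi1_k3_0 : allFrom (eCi1_F (nat_lit 3)) (nat_lit 0) (nat_lit 2) = true := by decide +kernel
theorem eCi1_k4_0 : allFrom (eCi1_F (nat_lit 4)) (nat_lit 0) (nat_lit 2) = true := by decide +kernel
theorem eCi1_k5_0 : allFrom (eCi1_F (nat_lit 5)) (nat_lit 0) (nat_lit 2) = true := by decide +kernel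
theorem eCi1_k6_0 : allFrom (eCi1_F (nat_lit 6)) (nat_lit 0) (nat_lit 2) = true := by decide +kernel
theorem eCi1_k7_0 : allFrom (eCi1_F (nat_lit 7)) (nat_lit 0) (nat_lit 2) = true := by decide +kernel
theorem eCi1_k8_0 : allFrom (eCi1_F (nat_lit 8)) (nat_lit 0) (nat_lit 2) = true := by decide +kernel
theorem eCi1_k9_0 : allFrom (eCi1_F (nat_lit 9)) (nat_lit 0) (nat_lit 2) = true := by decide +kernel
theorem eCi1_k10_0 : allFrom (eCi1_F (nat_lit 10)) (nat_lit 0) (nat_lit 2) = true := by decide +kernel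

noncomputable def eCi2_c0 : BT (Bx Nat) := (BT.leaf (Bx.mk (nat_lit 0x15ad000000000243b00000000000000000000000000000000000000090dc00000000101be00000000000000000000000000000101a20000000000000e1a600000000000000000000000001c324000060ca286480000618460c5000014314818830c310610430400000000)))
noncomputable def eCi2_c1 : BT (Bx Nat) := (BT.leaf (Bx.mk (nat_lit 0xb8f9c8ed40000e3b2b43bb61d143dd31e798f280002e3d371e8000066e980001686c0000621a80000c3a1aa8dd4e6970c9951dc9ce0000310c1885fa431d2189d6aa000000005ec41b0b20000dd288000350a76856ba865ce2f2a140000b42762134000198c6dc02e2123508fc504e1c1f470be1820000)))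
noncomputable def eCi2_c2 : BT (Bx Nat) := (BT.leaf (Bx.mk (nat_lit 0x19a640000000000000000000000000000000000000000000000000000000e33980000000000000000000000000000000007c1a800000000f83300003cc9dc659f32680003cc980000f32500003cc93c65100007c163e0adf05400007c14be0a1e644e3247990f8c8df047f822f480be1820000)))
noncomputable def eCi2_c3 : BT (Bx Nat) := (BT.leaf (Bx.mk (nat_lit 0x10cf6ee358000000000000ee338000000000000000000000000000000000000000000000000007896c000000000000000000000000000000000000000000000000003ad31e24e0000000000001e24ceb497892bad21e24900007c167e0aff05500007c14fe0a3d687f12275a17c487f048f8237090bc2020000)))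
noncomputable def eCi2_c4 : BT (Bx Nat) := (BT.leaf (Bx.mk (nat_lit 0x34db00000936a00000000117170000000030da1771100006d13a9299370d00004683f289376c7b38469b172e0d85c4da21f4b0be1820000)))
noncomputable def eCi2_c5 : BT (Bx Nat) := (BT.leaf (Bx.mk (nat_lit 0x5b2b000000000000079294000000009df38000000017be9000000003e0ed5c2df83a000023860000000000000000000000000000003c9220000f24800003e0c8000000007c18be0c20000f82ffc17be0b9f05af2447123fc90fe4860000792178915f04e00007c12fe093e482e2427c10fe1820000)))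
noncomputable def eCi2_c6 : BT (Bx Nat) := (BT.leaf (Bx.mk (nat_lit 0x269dbe36700003d3c00001036500000000286d00000f83c00002c6d9f07591b780003e0e5e359000000003c6aa0000f1a9800000001e351000078d400000000000007c18c00000000f83000003e0bbf05bea6778d200001d4cbf1a375327c68bf04ff826fc133e095d4c3f1a17c113c2820000)))
noncomputable def eCi2_c7 : BT (Bx Nat) := (BT.leaf (Bx.mk (nat_lit 0x91e78000000000000a9e58000000018748000069d18000193c4d9e1f4a0be1820000)))
noncomputable def eCi2_c8 : BT (Bx Nat) := (BT.leaf (Bx.mk (nat_lit 0x1061000000000315a7861200005ea51ef320000bce7ce63800000000a2058000000015788e303d9e1aec0a0000d201f0c0be1820000)))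
noncomputable def eCi2_c9 : BT (Bx Nat) := (BT.leaf (Bx.mk (nat_lit 0x3e1820000)))
noncomputable def eCi2_c10 : BT (Bx Nat) := (BT.leaf (Bx.mk (nat_lit 0xf2d300003cb4800000000796840001e59ff2cf7c1dfcb3be59cf2cdfc1cfcb35f071f8387c1bfe0ddf06df8367c1afe0d3f068f833fc1940000000000000000000000000000000003312397d00000000000000000000006152b5213a886d3e2e56232b0fc543dac278607e1040000)))
noncomputable def eCi2_p : BT (Bx Nat) := (BT.leaf (Bx.mk (nat_lit 0x8ac68a8a8a458a0689c5898a8946790a78ca788a784a780a77ca778a7782774a770a76ca76c2768a664565866585654564c664c56485644664456406640553835382534353425303530252835282524352424206420541c641864185414641453103310230c330c220862085104a00000000)))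
noncomputable def eCi2_e0 : BT Nat := (BT.node (nat_lit 384) (BT.node (nat_lit 72) (BT.node (nat_lit 68) (BT.node (nat_lit 66) (BT.leaf (nat_lit 2)) (BT.leaf (nat_lit 262146))) (BT.node (nat_lit 69) (BT.leaf (nat_lit 524290)) (BT.node (nat_lit 71) (BT.leaf (nat_lit 786434)) (BT.leaf (nat_lit 1048578))))) (BT.node (nat_lit 192) (BT.node (nat_lit 73) (BT.leaf (nat_lit 1310722)) (BT.node (nat_lit 128) (BT.leaf (nat_lit 1572866)) (BT.leaf (nat_lit 1577)))) (BT.node (nat_lit 256) (BT.leaf (nat_lit 1557)) (BT.node (nat_lit 320) (BT.leaf (nat_lit 2089)) (BT.leaf (nat_lit 2057)))))) (BT.node (nat_lit 896) (BT.node (nat_lit 576) (BT.node (nat_lit 512) (BT.leaf (nat_lit 3093)) (BT.leaf (nat_lit 3609))) (BT.node (nat_lit 704) (BT.leaf (nat_lit 2069)) (BT.node (nat_lit 768) (BT.leaf (nat_lit 3097)) (BT.leaf (nat_lit 5385))))) (BT.node (nat_lit 2112) (BT.node (nat_lit 1344) (BT.leaf (nat_lit 6409)) (BT.node (nat_lit 1600) (BT.leaf (nat_lit 8473)) (BT.leaf (nat_lit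 9241)))) (BT.node (nat_lit 2304) (BT.leaf (nat_lit 11817)) (BT.node (nat_lit 2944) (BT.leaf (nat_lit 12585)) (BT.leaf (nat_lit 12549)))))))
noncomputable def eCi2_e : BT Nat := eCi2_e0
noncomputable def eCi2_cols : List (BT (Bx Nat)) := [eCi2_c0, eCi2_c1, eCi2_c2, eCi2_c3, eCi2_c4, eCi2_c5, eCi2_c6, eCi2_c7, eCi2_c8, eCi2_c9, eCi2_c10]
noncomputable def eCi2_ch (x j : Nat) : Bx Nat := chunkG eCi2_cols (nat_lit 1) x j
noncomputable def eCi2_L (x : Nat) : Bx (Nat → Nat) := lookG eCi2_ch (nat_lit 7) (nat_lit 127) (nat_lit 17) (nat_lit 131071) x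
noncomputable def eCi2_pc (_ j : Nat) : Bx Nat := eCi2_p.get j
noncomputable def eCi2_pb : Bx (Nat → Nat) := lookG eCi2_pc (nat_lit 7) (nat_lit 127) (nat_lit 16) (nat_lit 65535) (nat_lit 0)
noncomputable def eCi2_rots : BT CW := (BT.node (nat_lit 26) (BT.node (nat_lit 13) (BT.node (nat_lit 6) (BT.node (nat_lit 3) (BT.node (nat_lit 1) (BT.leaf ⟨[], (nat_lit 1000000), (nat_lit 0), (nat_lit 0), (nat_lit 0)⟩) (BT.node (nat_lit 2) (BT.leaf ⟨[], (nat_lit 1000000), (nat_lit 0), (nat_lit 0), (nat_lit 1)⟩) (BT.leaf ⟨[], (nat_lit 1000000), (nat_lit 0), (nat_lit 0), (nat_lit 2)⟩))) (BT.node (nat_lit 4) (BT.leaf ⟨[(nat_lit 3), (nat_lit 2)], (nat_lit 141), (nat_lit 1), (nat_lit 0), (nat_lit 3)⟩) (BT.node (nat_lit 5) (BT.leaf ⟨[(nat_lit 6), (nat_lit 5)], (nat_lit 139), (nat_lit 1), (nat_lit 0), (nat_lit 3)⟩) (BT.leaf ⟨[(nat_lit 10), (nat_lit 10)], (nat_lit 121), (nat_lit 0), (nat_lit 0), (nat_lit 3)⟩)))) (BT.node (nat_lit 9) (BT.node (nat_lit 7) (BT.leaf ⟨[(nat_lit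 1), (nat_lit 10), (nat_lit 1), (nat_lit 10)], (nat_lit 129), (nat_lit 1), (nat_lit 0), (nat_lit 4)⟩) (BT.node (nat_lit 8) (BT.leaf ⟨[(nat_lit 2), (nat_lit 10), (nat_lit 3), (nat_lit 10)], (nat_lit 130), (nat_lit 1), (nat_lit 0), (nat_lit 4)⟩) (BT.leaf ⟨[(nat_lit 3), (nat_lit 2)], (nat_lit 141), (nat_lit 1), (nat_lit 0), (nat_lit 4)⟩))) (BT.node (nat_lit 11) (BT.node (nat_lit 10) (BT.leaf ⟨[(nat_lit 7), (nat_lit 10), (nat_lit 7), (nat_lit 10)], (nat_lit 131), (nat_lit 1), (nat_lit 0), (nat_lit 4)⟩) (BT.leaf ⟨[(nat_lit 4), (nat_lit 10), (nat_lit 4), (nat_lit 7), (nat_lit 10)], (nat_lit 132), (nat_lit 1), (nat_lit 0), (nat_lit 4)⟩)) (BT.node (nat_lit 12) (BT.leaf ⟨[(nat_lit 8), (nat_lit 7), (nat_lit 1), (nat_lit 4), (nat_lit 1), (nat_lit 4)], (nat_lit 20), (nat_lit 4), (nat_lit 0), (nat_lit 4)⟩) (BT.leaf ⟨[(nat_lit 6), (nat_lit 5)], (nat_lit 139), (nat_lit 1), (nat_lit 0), (nat_lit 4)⟩))))) (BT.node (nat_lit 19) (BT.node (nat_lit 16) (BT.node (nat_lit 14)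 (BT.leaf ⟨[(nat_lit 1), (nat_lit 6), (nat_lit 1), (nat_lit 5)], (nat_lit 9), (nat_lit 2), (nat_lit 0), (nat_lit 4)⟩) (BT.node (nat_lit 15) (BT.leaf ⟨[(nat_lit 7), (nat_lit 6), (nat_lit 8), (nat_lit 5)], (nat_lit 13), (nat_lit 1), (nat_lit 0), (nat_lit 4)⟩) (BT.leaf ⟨[(nat_lit 8), (nat_lit 6), (nat_lit 7), (nat_lit 5), (nat_lit 7)], (nat_lit 17), (nat_lit 2), (nat_lit 0), (nat_lit 4)⟩))) (BT.node (nat_lit 17) (BT.leaf ⟨[(nat_lit 4), (nat_lit 6), (nat_lit 3), (nat_lit 8), (nat_lit 2), (nat_lit 5)], (nat_lit 22), (nat_lit 2), (nat_lit 0), (nat_lit 4)⟩) (BT.node (nat_lit 18) (BT.leaf ⟨[(nat_lit 5), (nat_lit 6)], (nat_lit 139), (nat_lit 0), (nat_lit 0), (nat_lit 4)⟩) (BT.leaf ⟨[(nat_lit 6), (nat_lit 6), (nat_lit 6)], (nat_lit 148), (nat_lit 0), (nat_lit 0), (nat_lit 4)⟩)))) (BT.node (nat_lit 22) (BT.node (nat_lit 20) (BT.leaf ⟨[(nat_lit 1), (nat_lit 5), (nat_lit 1), (nat_lit 6)], (nat_lit 9), (nat_lit 0), (nat_lit 0), (nat_lit 4)⟩) (BT.node (nat_lit 21) (BT.leaf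 ⟨[(nat_lit 10), (nat_lit 6), (nat_lit 10), (nat_lit 6), (nat_lit 10), (nat_lit 1), (nat_lit 6)], (nat_lit 276), (nat_lit 2), (nat_lit 0), (nat_lit 4)⟩) (BT.leaf ⟨[(nat_lit 10), (nat_lit 10)], (nat_lit 121), (nat_lit 0), (nat_lit 0), (nat_lit 4)⟩))) (BT.node (nat_lit 24) (BT.node (nat_lit 23) (BT.leaf ⟨[(nat_lit 4), (nat_lit 7), (nat_lit 10), (nat_lit 4), (nat_lit 10)], (nat_lit 132), (nat_lit 3), (nat_lit 0), (nat_lit 4)⟩) (BT.leaf ⟨[(nat_lit 8), (nat_lit 3), (nat_lit 5), (nat_lit 4), (nat_lit 7), (nat_lit 6), (nat_lit 2)], (nat_lit 27), (nat_lit 1), (nat_lit 0), (nat_lit 4)⟩)) (BT.node (nat_lit 25) (BT.leaf ⟨[(nat_lit 2), (nat_lit 3)], (nat_lit 141), (nat_lit 0), (nat_lit 0), (nat_lit 4)⟩) (BT.leaf ⟨[(nat_lit 3), (nat_lit 3), (nat_lit 3)], (nat_lit 147), (nat_lit 0), (nat_lit 0), (nat_lit 4)⟩)))))) (BT.node (nat_lit 39) (BT.node (nat_lit 32) (BT.node (nat_lit 29) (BT.node (nat_lit 27) (BT.leaf ⟨[(nat_lit 4), (nat_lit 3), (nat_lit 4), (nat_lit 3)], (nat_lit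 151), (nat_lit 0), (nat_lit 0), (nat_lit 4)⟩) (BT.node (nat_lit 28) (BT.leaf ⟨[(nat_lit 4), (nat_lit 4)], (nat_lit 1), (nat_lit 0), (nat_lit 0), (nat_lit 4)⟩) (BT.leaf ⟨[(nat_lit 7), (nat_lit 2), (nat_lit 7), (nat_lit 3)], (nat_lit 11), (nat_lit 3), (nat_lit 0), (nat_lit 4)⟩))) (BT.node (nat_lit 30) (BT.leaf ⟨[(nat_lit 8), (nat_lit 4), (nat_lit 8), (nat_lit 4)], (nat_lit 15), (nat_lit 1), (nat_lit 0), (nat_lit 4)⟩) (BT.node (nat_lit 31) (BT.leaf ⟨[(nat_lit 10), (nat_lit 3), (nat_lit 10), (nat_lit 2)], (nat_lit 130), (nat_lit 2), (nat_lit 0), (nat_lit 4)⟩) (BT.leaf ⟨[(nat_lit 1), (nat_lit 3), (nat_lit 6), (nat_lit 2), (nat_lit 1), (nat_lit 3), (nat_lit 6), (nat_lit 2)], (nat_lit 176), (nat_lit 3), (nat_lit 0), (nat_lit 4)⟩)))) (BT.node (nat_lit 35) (BT.node (nat_lit 33) (BT.leaf ⟨[(nat_lit 1), (nat_lit 1)], (nat_lit 0), (nat_lit 0), (nat_lit 0), (nat_lit 4)⟩) (BT.node (nat_lit 34) (BT.leaf ⟨[(nat_lit 10), (nat_lit 2), (nat_lit 10), (nat_lit 3)], (nat_lit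 130), (nat_lit 0), (nat_lit 0), (nat_lit 4)⟩) (BT.leaf ⟨[(nat_lit 1), (nat_lit 3), (nat_lit 1), (nat_lit 3), (nat_lit 1), (nat_lit 3)], (nat_lit 162), (nat_lit 1), (nat_lit 0), (nat_lit 4)⟩))) (BT.node (nat_lit 37) (BT.node (nat_lit 36) (BT.leaf ⟨[(nat_lit 10), (nat_lit 6), (nat_lit 3), (nat_lit 5), (nat_lit 10), (nat_lit 6), (nat_lit 3), (nat_lit 8), (nat_lit 4), (nat_lit 2), (nat_lit 5), (nat_lit 10), (nat_lit 6), (nat_lit 2), (nat_lit 5)], (nat_lit 134), (nat_lit 5), (nat_lit 0), (nat_lit 4)⟩) (BT.leaf ⟨[(nat_lit 4), (nat_lit 5), (nat_lit 4), (nat_lit 1), (nat_lit 2), (nat_lit 8), (nat_lit 3), (nat_lit 6)], (nat_lit 32), (nat_lit 5), (nat_lit 0), (nat_lit 4)⟩)) (BT.node (nat_lit 38) (BT.leaf ⟨[(nat_lit 8), (nat_lit 1), (nat_lit 8), (nat_lit 1)], (nat_lit 14), (nat_lit 1), (nat_lit 0), (nat_lit 4)⟩) (BT.leaf ⟨[(nat_lit 8), (nat_lit 5), (nat_lit 7), (nat_lit 6)], (nat_lit 13), (nat_lit 3), (nat_lit 0), (nat_lit 4)⟩))))) (BT.node (nat_lit 46) (BT.node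 (nat_lit 42) (BT.node (nat_lit 40) (BT.leaf ⟨[(nat_lit 4), (nat_lit 8), (nat_lit 7), (nat_lit 1), (nat_lit 4), (nat_lit 1)], (nat_lit 20), (nat_lit 3), (nat_lit 0), (nat_lit 4)⟩) (BT.node (nat_lit 41) (BT.leaf ⟨[(nat_lit 1), (nat_lit 2), (nat_lit 6), (nat_lit 3), (nat_lit 1), (nat_lit 2), (nat_lit 6), (nat_lit 3)], (nat_lit 174), (nat_lit 3), (nat_lit 0), (nat_lit 4)⟩) (BT.leaf ⟨[(nat_lit 8), (nat_lit 8)], (nat_lit 3), (nat_lit 0), (nat_lit 0), (nat_lit 4)⟩))) (BT.node (nat_lit 44) (BT.node (nat_lit 43) (BT.leaf ⟨[(nat_lit 8), (nat_lit 2), (nat_lit 5), (nat_lit 4), (nat_lit 6), (nat_lit 3)], (nat_lit 22), (nat_lit 5), (nat_lit 0), (nat_lit 4)⟩) (BT.leaf ⟨[(nat_lit 1), (nat_lit 2), (nat_lit 1), (nat_lit 2), (nat_lit 1), (nat_lit 2)], (nat_lit 19), (nat_lit 0), (nat_lit 0), (nat_lit 4)⟩)) (BT.node (nat_lit 45) (BT.leaf ⟨[(nat_lit 1), (nat_lit 8), (nat_lit 1), (nat_lit 8)], (nat_lit 14), (nat_lit 0), (nat_lit 0), (nat_lit 4)⟩) (BT.leaf ⟨[(nat_lit 1), (nat_lit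 3), (nat_lit 5), (nat_lit 2), (nat_lit 1), (nat_lit 3), (nat_lit 5), (nat_lit 2)], (nat_lit 33), (nat_lit 0), (nat_lit 0), (nat_lit 4)⟩)))) (BT.node (nat_lit 49) (BT.node (nat_lit 47) (BT.leaf ⟨[(nat_lit 5), (nat_lit 10), (nat_lit 5), (nat_lit 10), (nat_lit 5), (nat_lit 1), (nat_lit 10)], (nat_lit 133), (nat_lit 1), (nat_lit 0), (nat_lit 4)⟩) (BT.node (nat_lit 48) (BT.leaf ⟨[(nat_lit 5), (nat_lit 1), (nat_lit 6), (nat_lit 1)], (nat_lit 9), (nat_lit 1), (nat_lit 0), (nat_lit 4)⟩) (BT.leaf ⟨[(nat_lit 3), (nat_lit 10), (nat_lit 2), (nat_lit 10)], (nat_lit 130), (nat_lit 3), (nat_lit 0), (nat_lit 4)⟩))) (BT.node (nat_lit 51) (BT.node (nat_lit 50) (BT.leaf ⟨[(nat_lit 5), (nat_lit 5), (nat_lit 5)], (nat_lit 5), (nat_lit 0), (nat_lit 0), (nat_lit 4)⟩) (BT.leaf ⟨[(nat_lit 3), (nat_lit 5), (nat_lit 10), (nat_lit 6), (nat_lit 3), (nat_lit 8), (nat_lit 4), (nat_lit 2), (nat_lit 5), (nat_lit 10), (nat_lit 6), (nat_lit 2), (nat_lit 5), (nat_lit 10), (nat_lit 6)], (nat_lit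 134), (nat_lit 7), (nat_lit 0), (nat_lit 4)⟩)) (BT.node (nat_lit 52) (BT.leaf ⟨[(nat_lit 2), (nat_lit 1), (nat_lit 6), (nat_lit 2), (nat_lit 1), (nat_lit 3), (nat_lit 6), (nat_lit 3), (nat_lit 1)], (nat_lit 37), (nat_lit 1), (nat_lit 0), (nat_lit 4)⟩) (BT.leaf ⟨[(nat_lit 0), (nat_lit 6), (nat_lit 2), (nat_lit 5), (nat_lit 10), (nat_lit 6), (nat_lit 3), (nat_lit 5), (nat_lit 10), (nat_lit 6), (nat_lit 3), (nat_lit 8), (nat_lit 4), (nat_lit 2), (nat_lit 5), (nat_lit 10)], (nat_lit 134), (nat_lit 2), (nat_lit 1), (nat_lit 4)⟩)))))))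
noncomputable def eCi2_hcs : List CW := [⟨[(nat_lit 1)], (nat_lit 0), (nat_lit 0), (nat_lit 0), (nat_lit 0)⟩, ⟨[(nat_lit 2)], (nat_lit 1), (nat_lit 0), (nat_lit 0), (nat_lit 0)⟩, ⟨[(nat_lit 4)], (nat_lit 2), (nat_lit 0), (nat_lit 0), (nat_lit 0)⟩, ⟨[(nat_lit 5)], (nat_lit 3), (nat_lit 0), (nat_lit 0), (nat_lit 0)⟩, ⟨[(nat_lit 7)], (nat_lit 4), (nat_lit 0), (nat_lit 0), (nat_lit 0)⟩, ⟨[(nat_lit 8)], (nat_lit 5), (nat_lit 0), (nat_lit 0), (nat_lit 0)⟩, ⟨[(nat_lit 9)], (nat_lit 6), (nat_lit 0), (nat_lit 0), (nat_lit 0)⟩, ⟨[(nat_lit 1)], (nat_lit 7), (nat_lit 0), (nat_lit 0), (nat_lit 0)⟩, ⟨[(nat_lit 3)], (nat_lit 8), (nat_lit 0), (nat_lit 0), (nat_lit 0)⟩, ⟨[(nat_lit 4)], (nat_lit 9), (nat_lit 0), (nat_lit 0), (nat_lit 0)⟩, ⟨[(nat_lit 6)], (nat_lit 10), (nat_lit 0), (nat_lit 0), (nat_lit 0)⟩, ⟨[(nat_lit 7)], (nat_lit 11), (nat_lit 0), (nat_lit 0), (nat_lit 0)⟩, ⟨[(nat_lit 8)], (nat_lit 12), (nat_lit 0), (nat_lit 0), (nat_lit 0)⟩, ⟨[(nat_lit 9)], (nat_lit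 13), (nat_lit 0), (nat_lit 0), (nat_lit 0)⟩]
noncomputable def eCi2_H (x j : Nat) : Bx (Nat → Nat → Nat) := mkH eCi2_L eCi2_pb.1 eCi2_e.get (lmap CW.w eCi2_hcs) (nat_lit 1) (nat_lit 2) (nat_lit 11) (nat_lit 64) (nat_lit 4096) (nat_lit 4095) x (eCi2_rots.get j)
noncomputable def eCi2_F (x b : Nat) : Bool := blkOK eCi2_H eCi2_ch (nat_lit 2) (nat_lit 64) (nat_lit 64) (nat_lit 7) (nat_lit 127) (nat_lit 17) (nat_lit 131071) x b

theorem eCi2_k0_0 : allFrom (eCi2_F (nat_lit 0)) (nat_lit 0) (nat_lit 2) = true := by decide +kernel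
theorem eCi2_k1_0 : allFrom (eCi2_F (nat_lit 1)) (nat_lit 0) (nat_lit 2) = true := by decide +kernel
theorem eCi2_k2_0 : allFrom (eCi2_F (nat_lit 2)) (nat_lit 0) (nat_lit 2) = true := by decide +kernel
theorem eCi2_k3_0 : allFrom (eCi2_F (nat_lit 3)) (nat_lit 0) (nat_lit 2) = true := by decide +kernel
theorem eCi2_k4_0 : allFrom (eCi2_F (nat_lit 4)) (nat_lit 0) (nat_lit 2) = true := by decide +kernel
theorem eCi2_k5_0 : allFrom (eCi2_F (nat_lit 5)) (nat_lit 0) (nat_lit 2) = true := by decide +kernel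
theorem eCi2_k6_0 : allFrom (eCi2_F (nat_lit 6)) (nat_lit 0) (nat_lit 2) = true := by decide +kernel
theorem eCi2_k7_0 : allFrom (eCi2_F (nat_lit 7)) (nat_lit 0) (nat_lit 2) = true := by decide +kernel
theorem eCi2_k8_0 : allFrom (eCi2_F (nat_lit 8)) (nat_lit 0) (nat_lit 2) = true := by decide +kernel
theorem eCi2_k9_0 : allFrom (eCi2_F (nat_lit 9)) (nat_lit 0) (nat_lit 2) = true := by decide +kernel
theorem eCi2_k10_0 : allFrom (eCi2_F (nat_lit 10)) (nat_lit 0) (nat_lit 2) = true := by decide +kernel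

noncomputable def eCi3_c0 : BT (Bx Nat) := (BT.leaf (Bx.mk (nat_lit 0x56f300000000090ea000000000000000000000000000000000000002436800000000406e800000000000000000000000000000406880000000070d30000000000000000000001c324000060ca286480000618460c5000014314818830c310610430400000000)))
noncomputable def eCi3_c1 : BT (Bx Nat) := (BT.leaf (Bx.mk (nat_lit 0x2e3e323b3000038ec2d16ad8b250f64c79663c60000b8f3dc79800019c2400005a2a8000188a8000030e7eaa3353985c516546f27340000c44f62276914348a075ea00002f720d897dd488000351276895ba865ce2f2a15688fb4476223400019906dc22e2223510fc504e1c1f470be1820000)))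
noncomputable def eCi3_c2 : BT (Bx Nat) := (BT.leaf (Bx.mk (nat_lit 0x66d8000000000000000000000000000000000000000000000000000000038d620000000000000000000000000000000001f068000000003e0c80000f347000000001e68cf34500003cd13c69100007c15be0aa000000007c14be0a1e684e34479a0f8d0df047f822f480be1820000)))
noncomputable def eCi3_c3 : BT (Bx Nat) := (BT.leaf (Bx.mk (nat_lit 0x3f5d3b9d20000000000003b9ca000000000000000000000000000000000000000000000000001e25900000000000000000000000000000000000000000000000000000007893800000000eb697892bada1e24900007c15c0001f05400007c14fe0a3d6c7f12275b17c487f048f8237090bc2020000)))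
noncomputable def eCi3_c4 : BT (Bx Nat) := (BT.leaf (Bx.mk (nat_lit 0xd38b0000256a800000000000030e21775183a56d13a9319374d00004693f28937707b3a469c172e8d85c4da21f4b0be1820000)))
noncomputable def eCi3_c5 : BT (Bx Nat) := (BT.leaf (Bx.mk (nat_lit 0x16d2a0000000000001e4a300000000278ca000000005f19c00000000f83a572afe0e400008e57000000000000000000000000000000f24880003c9200000f83100003e0c1f05ff82efc173e0b5f058f2447123fc90fe4860000792178915f04e00007c12fe093e482e2427c10fe1820000)))
noncomputable def eCi3_c6 : BT (Bx Nat) := (BT.leaf (Bx.mk (nat_lit 0x9a75f8d940000f4ee000040d8c00000000a1b300003e0ec0000b1b57c1ce46da0000f83878d5c00000000f1aa00003c6a60000000078d440001e350000000003e0c20000f82f00003e0b7f059ea6778d200001d4cbf1a375327c68bf04ff826fc133e095d4c3f1a17c113c2820000)))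
noncomputable def eCi3_c7 : BT (Bx Nat) := (BT.leaf (Bx.mk (nat_lit 0x91e78000000000000a9e580002c7938788000069e1b4c0b93c4d9e1f4a0be1820000)))
noncomputable def eCi3_c8 : BT (Bx Nat) := (BT.leaf (Bx.mk (nat_lit 0x4194000018ad3bd8a00001efae0000bd07ce73800000000a20580002a81357c8e323d9f1aec8a0000d201f0c0be1820000)))
noncomputable def eCi3_c9 : BT (Bx Nat) := (BT.leaf (Bx.mk (nat_lit 0x3e1820000)))
noncomputable def eCi3_c10 : BT (Bx Nat) := (BT.leaf (Bx.mk (nat_lit 0x3cb480000f2d1000000001e59f000079677cb39f075f2cdf966bcb33f071f2cc7c1bfe0ddf06df8367c1afe0d5f069f833fc19be0cbf0630000000000000000000000000331a398100000000000000000000006152b5293a8c6d402e56232b0fc543dac278607e1040000)))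
noncomputable def eCi3_p : BT (Bx Nat) := (BT.leaf (Bx.mk (nat_lit 0x8a468a0a89c589868945890a88c6788a784a780a77ca778a774a770a770276ca768a764a7642760a65c565466545650564c664c564856446644564066405538353825342530352835282524352424206420541c641864185414641453103310230c330c220862085104a00000000)))
noncomputable def eCi3_e0 : BT Nat := (BT.node (nat_lit 384) (BT.node (nat_lit 72) (BT.node (nat_lit 68) (BT.node (nat_lit 66) (BT.leaf (nat_lit 2)) (BT.leaf (nat_lit 262146))) (BT.node (nat_lit 69) (BT.leaf (nat_lit 524290)) (BT.node (nat_lit 71) (BT.leaf (nat_lit 786434)) (BT.leaf (nat_lit 1048578))))) (BT.node (nat_lit 192) (BT.node (nat_lit 73) (BT.leaf (nat_lit 1310722)) (BT.node (nat_lit 128) (BT.leaf (nat_lit 1572866)) (BT.leaf (nat_lit 1577)))) (BT.node (nat_lit 256) (BT.leaf (nat_lit 1557)) (BT.node (nat_lit 320) (BT.leaf (nat_lit 2089)) (BT.leaf (nat_lit 2057)))))) (BT.node (nat_lit 896) (BT.node (nat_lit 576) (BT.node (nat_lit 512) (BT.leaf (nat_lit 3093))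 (BT.leaf (nat_lit 3609))) (BT.node (nat_lit 704) (BT.leaf (nat_lit 2069)) (BT.node (nat_lit 768) (BT.leaf (nat_lit 3097)) (BT.leaf (nat_lit 5129))))) (BT.node (nat_lit 1984) (BT.node (nat_lit 1280) (BT.leaf (nat_lit 5897)) (BT.node (nat_lit 1472) (BT.leaf (nat_lit 7961)) (BT.leaf (nat_lit 8729)))) (BT.node (nat_lit 2176) (BT.leaf (nat_lit 11305)) (BT.node (nat_lit 2816) (BT.leaf (nat_lit 12073)) (BT.leaf (nat_lit 12037)))))))
noncomputable def eCi3_e : BT Nat := eCi3_e0
noncomputable def eCi3_cols : List (BT (Bx Nat)) := [eCi3_c0, eCi3_c1, eCi3_c2, eCi3_c3, eCi3_c4, eCi3_c5, eCi3_c6, eCi3_c7, eCi3_c8, eCi3_c9, eCi3_c10]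
noncomputable def eCi3_ch (x j : Nat) : Bx Nat := chunkG eCi3_cols (nat_lit 1) x j
noncomputable def eCi3_L (x : Nat) : Bx (Nat → Nat) := lookG eCi3_ch (nat_lit 7) (nat_lit 127) (nat_lit 17) (nat_lit 131071) x
noncomputable def eCi3_pc (_ j : Nat) : Bx Nat := eCi3_p.get j
noncomputable def eCi3_pb : Bx (Nat → Nat) := lookG eCi3_pc (nat_lit 7) (nat_lit 127) (nat_lit 16) (nat_lit 65535) (nat_lit 0)
noncomputable def eCi3_rots : BT CW := (BT.node (nat_lit 27) (BT.node (nat_lit 13) (BT.node (nat_lit 6) (BT.node (nat_lit 3) (BT.node (nat_lit 1) (BT.leaf ⟨[], (nat_lit 1000000), (nat_lit 0), (nat_lit 0), (nat_lit 0)⟩) (BT.node (nat_lit 2) (BT.leaf ⟨[], (nat_lit 1000000), (nat_lit 0), (nat_lit 0), (nat_lit 1)⟩) (BT.leaf ⟨[], (nat_lit 1000000), (nat_lit 0), (nat_lit 0), (nat_lit 2)⟩))) (BT.node (nat_lit 4) (BT.leaf ⟨[(nat_lit 3), (nat_lit 2)], (nat_lit 141), (nat_lit 1), (nat_lit 0), (nat_lit 3)⟩) (BT.node (nat_lit 5) (BT.leaf ⟨[(nat_lit 6), (nat_lit 5)], (nat_lit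 139), (nat_lit 1), (nat_lit 0), (nat_lit 3)⟩) (BT.leaf ⟨[(nat_lit 10), (nat_lit 10)], (nat_lit 121), (nat_lit 0), (nat_lit 0), (nat_lit 3)⟩)))) (BT.node (nat_lit 9) (BT.node (nat_lit 7) (BT.leaf ⟨[(nat_lit 1), (nat_lit 10), (nat_lit 1), (nat_lit 10)], (nat_lit 129), (nat_lit 1), (nat_lit 0), (nat_lit 4)⟩) (BT.node (nat_lit 8) (BT.leaf ⟨[(nat_lit 2), (nat_lit 10), (nat_lit 3), (nat_lit 10)], (nat_lit 130), (nat_lit 1), (nat_lit 0), (nat_lit 4)⟩) (BT.leaf ⟨[(nat_lit 3), (nat_lit 2)], (nat_lit 141), (nat_lit 1), (nat_lit 0), (nat_lit 4)⟩))) (BT.node (nat_lit 11) (BT.node (nat_lit 10) (BT.leaf ⟨[(nat_lit 7), (nat_lit 10), (nat_lit 7), (nat_lit 10)], (nat_lit 131), (nat_lit 1), (nat_lit 0), (nat_lit 4)⟩) (BT.leaf ⟨[(nat_lit 4), (nat_lit 10), (nat_lit 4), (nat_lit 7), (nat_lit 10)], (nat_lit 132), (nat_lit 1), (nat_lit 0), (nat_lit 4)⟩)) (BT.node (nat_lit 12) (BT.leaf ⟨[(nat_lit 8), (nat_lit 7), (nat_lit 1), (nat_lit 4), (nat_lit 1), (nat_lit 4)], (nat_lit 20),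 (nat_lit 4), (nat_lit 0), (nat_lit 4)⟩) (BT.leaf ⟨[(nat_lit 6), (nat_lit 5)], (nat_lit 139), (nat_lit 1), (nat_lit 0), (nat_lit 4)⟩))))) (BT.node (nat_lit 20) (BT.node (nat_lit 16) (BT.node (nat_lit 14) (BT.leaf ⟨[(nat_lit 1), (nat_lit 6), (nat_lit 1), (nat_lit 5)], (nat_lit 9), (nat_lit 2), (nat_lit 0), (nat_lit 4)⟩) (BT.node (nat_lit 15) (BT.leaf ⟨[(nat_lit 7), (nat_lit 6), (nat_lit 8), (nat_lit 5)], (nat_lit 13), (nat_lit 1), (nat_lit 0), (nat_lit 4)⟩) (BT.leaf ⟨[(nat_lit 8), (nat_lit 6), (nat_lit 7), (nat_lit 5), (nat_lit 7)], (nat_lit 17), (nat_lit 2), (nat_lit 0), (nat_lit 4)⟩))) (BT.node (nat_lit 18) (BT.node (nat_lit 17) (BT.leaf ⟨[(nat_lit 4), (nat_lit 6), (nat_lit 3), (nat_lit 8), (nat_lit 2), (nat_lit 5)], (nat_lit 22), (nat_lit 2), (nat_lit 0), (nat_lit 4)⟩) (BT.leaf ⟨[(nat_lit 5), (nat_lit 6)], (nat_lit 139), (nat_lit 0), (nat_lit 0), (nat_lit 4)⟩)) (BT.node (nat_lit 19) (BT.leaf ⟨[(nat_lit 6), (nat_lit 6), (nat_lit 6)], (nat_lit 148), (nat_lit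 0), (nat_lit 0), (nat_lit 4)⟩) (BT.leaf ⟨[(nat_lit 1), (nat_lit 5), (nat_lit 1), (nat_lit 6)], (nat_lit 9), (nat_lit 0), (nat_lit 0), (nat_lit 4)⟩)))) (BT.node (nat_lit 23) (BT.node (nat_lit 21) (BT.leaf ⟨[(nat_lit 10), (nat_lit 6), (nat_lit 10), (nat_lit 6), (nat_lit 10), (nat_lit 1), (nat_lit 6)], (nat_lit 276), (nat_lit 2), (nat_lit 0), (nat_lit 4)⟩) (BT.node (nat_lit 22) (BT.leaf ⟨[(nat_lit 10), (nat_lit 10)], (nat_lit 121), (nat_lit 0), (nat_lit 0), (nat_lit 4)⟩) (BT.leaf ⟨[(nat_lit 4), (nat_lit 7), (nat_lit 10), (nat_lit 4), (nat_lit 10)], (nat_lit 132), (nat_lit 3), (nat_lit 0), (nat_lit 4)⟩))) (BT.node (nat_lit 25) (BT.node (nat_lit 24) (BT.leaf ⟨[(nat_lit 7), (nat_lit 3), (nat_lit 7), (nat_lit 2)], (nat_lit 11), (nat_lit 1), (nat_lit 0), (nat_lit 4)⟩) (BT.leaf ⟨[(nat_lit 8), (nat_lit 3), (nat_lit 5), (nat_lit 4), (nat_lit 7), (nat_lit 6), (nat_lit 2)], (nat_lit 27), (nat_lit 1), (nat_lit 0), (nat_lit 4)⟩)) (BT.node (nat_lit 26) (BT.leaf ⟨[(nat_lit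 2), (nat_lit 3)], (nat_lit 141), (nat_lit 0), (nat_lit 0), (nat_lit 4)⟩) (BT.leaf ⟨[(nat_lit 3), (nat_lit 3), (nat_lit 3)], (nat_lit 147), (nat_lit 0), (nat_lit 0), (nat_lit 4)⟩)))))) (BT.node (nat_lit 41) (BT.node (nat_lit 34) (BT.node (nat_lit 30) (BT.node (nat_lit 28) (BT.leaf ⟨[(nat_lit 4), (nat_lit 3), (nat_lit 4), (nat_lit 3)], (nat_lit 151), (nat_lit 0), (nat_lit 0), (nat_lit 4)⟩) (BT.node (nat_lit 29) (BT.leaf ⟨[(nat_lit 4), (nat_lit 4)], (nat_lit 1), (nat_lit 0), (nat_lit 0), (nat_lit 4)⟩) (BT.leaf ⟨[(nat_lit 7), (nat_lit 2), (nat_lit 7), (nat_lit 3)], (nat_lit 11), (nat_lit 3), (nat_lit 0), (nat_lit 4)⟩))) (BT.node (nat_lit 32) (BT.node (nat_lit 31) (BT.leaf ⟨[(nat_lit 8), (nat_lit 4), (nat_lit 8), (nat_lit 4)], (nat_lit 15), (nat_lit 1), (nat_lit 0), (nat_lit 4)⟩) (BT.leaf ⟨[(nat_lit 10), (nat_lit 3), (nat_lit 10), (nat_lit 2)], (nat_lit 130), (nat_lit 2), (nat_lit 0), (nat_lit 4)⟩)) (BT.node (nat_lit 33) (BT.leaf ⟨[(nat_lit 1), (nat_lit 3),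 (nat_lit 6), (nat_lit 2), (nat_lit 1), (nat_lit 3), (nat_lit 6), (nat_lit 2)], (nat_lit 176), (nat_lit 3), (nat_lit 0), (nat_lit 4)⟩) (BT.leaf ⟨[(nat_lit 1), (nat_lit 1)], (nat_lit 0), (nat_lit 0), (nat_lit 0), (nat_lit 4)⟩)))) (BT.node (nat_lit 37) (BT.node (nat_lit 35) (BT.leaf ⟨[(nat_lit 10), (nat_lit 2), (nat_lit 10), (nat_lit 3)], (nat_lit 130), (nat_lit 0), (nat_lit 0), (nat_lit 4)⟩) (BT.node (nat_lit 36) (BT.leaf ⟨[(nat_lit 1), (nat_lit 3), (nat_lit 1), (nat_lit 3), (nat_lit 1), (nat_lit 3)], (nat_lit 162), (nat_lit 1), (nat_lit 0), (nat_lit 4)⟩) (BT.leaf ⟨[(nat_lit 10), (nat_lit 6), (nat_lit 3), (nat_lit 5), (nat_lit 10), (nat_lit 6), (nat_lit 8), (nat_lit 2), (nat_lit 1), (nat_lit 4), (nat_lit 1), (nat_lit 5), (nat_lit 10), (nat_lit 6), (nat_lit 2), (nat_lit 5)], (nat_lit 134), (nat_lit 5), (nat_lit 0), (nat_lit 4)⟩))) (BT.node (nat_lit 39) (BT.node (nat_lit 38) (BT.leaf ⟨[(nat_lit 4), (nat_lit 5), (nat_lit 4), (nat_lit 1), (nat_lit 2), (nat_lit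 8), (nat_lit 3), (nat_lit 6)], (nat_lit 32), (nat_lit 5), (nat_lit 0), (nat_lit 4)⟩) (BT.leaf ⟨[(nat_lit 8), (nat_lit 1), (nat_lit 8), (nat_lit 1)], (nat_lit 14), (nat_lit 1), (nat_lit 0), (nat_lit 4)⟩)) (BT.node (nat_lit 40) (BT.leaf ⟨[(nat_lit 8), (nat_lit 5), (nat_lit 7), (nat_lit 6)], (nat_lit 13), (nat_lit 3), (nat_lit 0), (nat_lit 4)⟩) (BT.leaf ⟨[(nat_lit 4), (nat_lit 8), (nat_lit 7), (nat_lit 1), (nat_lit 4), (nat_lit 1)], (nat_lit 20), (nat_lit 3), (nat_lit 0), (nat_lit 4)⟩))))) (BT.node (nat_lit 48) (BT.node (nat_lit 44) (BT.node (nat_lit 42) (BT.leaf ⟨[(nat_lit 1), (nat_lit 2), (nat_lit 6), (nat_lit 3), (nat_lit 1), (nat_lit 2), (nat_lit 6), (nat_lit 3)], (nat_lit 174), (nat_lit 3), (nat_lit 0), (nat_lit 4)⟩) (BT.node (nat_lit 43) (BT.leaf ⟨[(nat_lit 8), (nat_lit 2), (nat_lit 5), (nat_lit 4), (nat_lit 6), (nat_lit 3)], (nat_lit 22), (nat_lit 5), (nat_lit 0), (nat_lit 4)⟩) (BT.leaf ⟨[(nat_lit 8), (nat_lit 8)], (nat_lit 3), (nat_lit 0), (nat_lit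 0), (nat_lit 4)⟩))) (BT.node (nat_lit 46) (BT.node (nat_lit 45) (BT.leaf ⟨[(nat_lit 4), (nat_lit 2), (nat_lit 4), (nat_lit 2)], (nat_lit 8), (nat_lit 1), (nat_lit 0), (nat_lit 4)⟩) (BT.leaf ⟨[(nat_lit 1), (nat_lit 2), (nat_lit 1), (nat_lit 2), (nat_lit 1), (nat_lit 2)], (nat_lit 19), (nat_lit 0), (nat_lit 0), (nat_lit 4)⟩)) (BT.node (nat_lit 47) (BT.leaf ⟨[(nat_lit 1), (nat_lit 8), (nat_lit 1), (nat_lit 8)], (nat_lit 14), (nat_lit 0), (nat_lit 0), (nat_lit 4)⟩) (BT.leaf ⟨[(nat_lit 1), (nat_lit 3), (nat_lit 5), (nat_lit 2), (nat_lit 1), (nat_lit 3), (nat_lit 5), (nat_lit 2)], (nat_lit 33), (nat_lit 0), (nat_lit 0), (nat_lit 4)⟩)))) (BT.node (nat_lit 51) (BT.node (nat_lit 49) (BT.leaf ⟨[(nat_lit 5), (nat_lit 10), (nat_lit 5), (nat_lit 10), (nat_lit 5), (nat_lit 1), (nat_lit 10)], (nat_lit 133), (nat_lit 1), (nat_lit 0), (nat_lit 4)⟩) (BT.node (nat_lit 50) (BT.leaf ⟨[(nat_lit 5), (nat_lit 1), (nat_lit 6), (nat_lit 1)], (nat_lit 9), (nat_lit 1), (nat_lit 0),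 (nat_lit 4)⟩) (BT.leaf ⟨[(nat_lit 3), (nat_lit 10), (nat_lit 2), (nat_lit 10)], (nat_lit 130), (nat_lit 3), (nat_lit 0), (nat_lit 4)⟩))) (BT.node (nat_lit 53) (BT.node (nat_lit 52) (BT.leaf ⟨[(nat_lit 5), (nat_lit 5), (nat_lit 5)], (nat_lit 5), (nat_lit 0), (nat_lit 0), (nat_lit 4)⟩) (BT.leaf ⟨[(nat_lit 3), (nat_lit 5), (nat_lit 10), (nat_lit 6), (nat_lit 8), (nat_lit 2), (nat_lit 1), (nat_lit 4), (nat_lit 1), (nat_lit 5), (nat_lit 10), (nat_lit 6), (nat_lit 2), (nat_lit 5), (nat_lit 10), (nat_lit 6)], (nat_lit 134), (nat_lit 7), (nat_lit 0), (nat_lit 4)⟩)) (BT.node (nat_lit 54) (BT.leaf ⟨[(nat_lit 2), (nat_lit 1), (nat_lit 6), (nat_lit 2), (nat_lit 1), (nat_lit 3), (nat_lit 6), (nat_lit 3), (nat_lit 1)], (nat_lit 37), (nat_lit 1), (nat_lit 0), (nat_lit 4)⟩) (BT.leaf ⟨[(nat_lit 0), (nat_lit 6), (nat_lit 2), (nat_lit 5), (nat_lit 10), (nat_lit 6), (nat_lit 3), (nat_lit 5), (nat_lit 10), (nat_lit 6), (nat_lit 8), (nat_lit 2), (nat_lit 1), (nat_lit 4), (nat_lit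 1), (nat_lit 5), (nat_lit 10)], (nat_lit 134), (nat_lit 2), (nat_lit 1), (nat_lit 4)⟩)))))))
noncomputable def eCi3_hcs : List CW := [⟨[(nat_lit 1)], (nat_lit 0), (nat_lit 0), (nat_lit 0), (nat_lit 0)⟩, ⟨[(nat_lit 2)], (nat_lit 1), (nat_lit 0), (nat_lit 0), (nat_lit 0)⟩, ⟨[(nat_lit 4)], (nat_lit 2), (nat_lit 0), (nat_lit 0), (nat_lit 0)⟩, ⟨[(nat_lit 5)], (nat_lit 3), (nat_lit 0), (nat_lit 0), (nat_lit 0)⟩, ⟨[(nat_lit 7)], (nat_lit 4), (nat_lit 0), (nat_lit 0), (nat_lit 0)⟩, ⟨[(nat_lit 8)], (nat_lit 5), (nat_lit 0), (nat_lit 0), (nat_lit 0)⟩, ⟨[(nat_lit 9)], (nat_lit 6), (nat_lit 0), (nat_lit 0), (nat_lit 0)⟩, ⟨[(nat_lit 1)], (nat_lit 7), (nat_lit 0), (nat_lit 0), (nat_lit 0)⟩, ⟨[(nat_lit 3)], (nat_lit 8), (nat_lit 0), (nat_lit 0), (nat_lit 0)⟩, ⟨[(nat_lit 4)], (nat_lit 9), (nat_lit 0), (nat_lit 0), (nat_lit 0)⟩, ⟨[(nat_lit 6)], (nat_lit 10), (nat_lit 0), (nat_lit 0), (nat_lit 0)⟩, ⟨[(nat_lit 7)], (nat_lit 11), (nat_lit 0), (nat_lit 0), (nat_lit 0)⟩, ⟨[(nat_lit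 8)], (nat_lit 12), (nat_lit 0), (nat_lit 0), (nat_lit 0)⟩, ⟨[(nat_lit 9)], (nat_lit 13), (nat_lit 0), (nat_lit 0), (nat_lit 0)⟩]
noncomputable def eCi3_H (x j : Nat) : Bx (Nat → Nat → Nat) := mkH eCi3_L eCi3_pb.1 eCi3_e.get (lmap CW.w eCi3_hcs) (nat_lit 1) (nat_lit 2) (nat_lit 11) (nat_lit 64) (nat_lit 4096) (nat_lit 4095) x (eCi3_rots.get j)
noncomputable def eCi3_F (x b : Nat) : Bool := blkOK eCi3_H eCi3_ch (nat_lit 2) (nat_lit 64) (nat_lit 64) (nat_lit 7) (nat_lit 127) (nat_lit 17) (nat_lit 131071) x b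

theorem eCi3_k0_0 : allFrom (eCi3_F (nat_lit 0)) (nat_lit 0) (nat_lit 2) = true := by decide +kernel
theorem eCi3_k1_0 : allFrom (eCi3_F (nat_lit 1)) (nat_lit 0) (nat_lit 2) = true := by decide +kernel
theorem eCi3_k2_0 : allFrom (eCi3_F (nat_lit 2)) (nat_lit 0) (nat_lit 2) = true := by decide +kernel
theorem eCi3_k3_0 : allFrom (eCi3_F (nat_lit 3)) (nat_lit 0) (nat_lit 2) = true := by decide +kernel
theorem eCi3_k4_0 : allFrom (eCi3_F (nat_lit 4)) (nat_lit 0) (nat_lit 2) = true := by decide +kernel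
theorem eCi3_k5_0 : allFrom (eCi3_F (nat_lit 5)) (nat_lit 0) (nat_lit 2) = true := by decide +kernel
theorem eCi3_k6_0 : allFrom (eCi3_F (nat_lit 6)) (nat_lit 0) (nat_lit 2) = true := by decide +kernel
theorem eCi3_k7_0 : allFrom (eCi3_F (nat_lit 7)) (nat_lit 0) (nat_lit 2) = true := by decide +kernel
theorem eCi3_k8_0 : allFrom (eCi3_F (nat_lit 8)) (nat_lit 0) (nat_lit 2) = true := by decide +kernel
theorem eCi3_k9_0 : allFrom (eCi3_F (nat_lit 9)) (nat_lit 0) (nat_lit 2) = true := by decide +kernel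
theorem eCi3_k10_0 : allFrom (eCi3_F (nat_lit 10)) (nat_lit 0) (nat_lit 2) = true := by decide +kernel

noncomputable def eCo0_c0 : BT (Bx Nat) := (BT.node (nat_lit 2) (BT.node (nat_lit 1) (BT.leaf (Bx.mk (nat_lit 0x160c1218181c00000000000000000000000000000000000000000000007832c800000000000000000000000c06121a0c92000000000000000000000000000000000000000000000030188038302800000000000000000703148d062900000000000000000000000260c92000000000000000000000000000000000000000000000000000060304800000000000341844000000000000000000000000000000000000000000000000000000000000000000000000000000000000000000000000000000000000000000000000000000000000000000000000000000000000000005830680000000000000000000000000000000000000000000000b0612000000000000000000000000000000000000000000000000000000000000000000000000000241814403028000000000000000005030480000000000000000030301800000040c0400000028301030602080c0404180400000000000))) (BT.leaf (Bx.mk (nat_lit 0x903709006ca00000000000000000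0000000000000000000000000000000000000000070323000000000000481af8000000000000000000000000000010066d00000000000000000000000000000000000000000000000000000000000000000000000000000000000000000000000000000000000000000000000003c1a7400000000000000000000000000000000000000000000000000000000000000000000000000000000000000501aa898354800000000000501a889835080000000000000000000000000000000000000000000000000000000002c184468333800000000000000000000000000000000000000009032e80000000000000000070333930668000000000000000000000000000000000006031493067600000000000000000000000000000000000000000000001e0cda00000000000000000260cd048199c0000000000000000000000000000000000)))) (BT.node (nat_lit 3) (BT.leaf (Bx.mk (nat_lit 0x240ee2481da80000011073700000000000000000130767000000401d249036500000000000000000000000000000000000481cc088374920734000000000000000000000000000000000007034a800000000000501d14a83a20b06050000000000009839c9407382a0e6e18181c9839c000000000000000000000000000002a0d96581b280000000000000000000000078374800000000000501bdc9837a9107340000000000000000000000000000000000000000000000000000000000000001306c9220d9414181c000001106e00000000000000000011065e000000501b84000000000000000000000000000000000000000000000000000000000260dcc0000009837a0000000000000000000000000000000000000000000000000000260dd200000000000000000000000000000a037000000000000000000000000000000000000000000000000000001c0cd04c1b980000000000000000000000000000000000)))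 (BT.leaf (Bx.mk (nat_lit 0x1607b2280f62501ec0983b09607ab280f54501ea4983d38000000000005fbdaca83b5150769240e6800000000000000000000000000000a03d393073400000000000000000000000000000000000903c2130744240e68501e2c983c5000000000000501e1c00000000000000000000000983c2000000000000501e04983c5800000000000501e28a03bd000000000000000000a83ba930774260ee64c1dc88839b800000260ed24c1dc400000000000240ee4000000000001107720000000000008032f120769)))))
noncomputable def eCo0_c1 : BT (Bx Nat) := (BT.node (nat_lit 2) (BT.node (nat_lit 1) (BT.leaf (Bx.mk (nat_lit 0x650518ba22c400000304c8e611166000000000003f4c8869115ed222d5fa642b288b061116f00798e007312f889a5a994d00397d8c44eaf4ca9769930000001da64b3b4ca280f8b0ed324dda652427c5a000000fd31c57a653b14c997e98dcb532a97a64e000000769925053191da64abf4c676a1c74d4b0e5a8f1c0000006a3c9cf0b0eda9620351e3f000000000001e8723bd2c467a3c8af8b0a9f0f14be2c2e78989af13131e2625be0e317c5860f878bc000000000006898a10838de1161b421e357698a4d1315da262b00000082987d0530f60a61e420e2d8458590878adea6223d4c437a9884f531220a61a414c33829864f53129ea624be0e1c6ed430dda88df070cb76a1b6c984d003859fa80f406411801c26f930860320a3d4c286c984911285dea612b64c2786983400000222e093f4c1d7e983f0d3055fa610402c0c803c1708b02a10f04bf4c107e981f05303a0a606c2500688940b0530221a603c52c048a3c0718380a40300800000)))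 (BT.leaf (Bx.mk (nat_lit 0x5c9a32000001726a880000000000000000000000000000649a9000000000000324d54000000c1352c000000000007c3da6b534a56a6942b4d3e000000f8b3317a6982f4d2f000000b5350dd876e3a0ee3000000000001ca69c394d377c597ef87af9ca6903a4ce500000000000000000400ec4805987007b09f076a00000000000000000000000000000000000bd349800000000000000000ad35116a697000000729a3ee53478000003f4cd87e99ae00000000000394d237a99bef5337800000331e81661d0000000172645af4c845e98e60000019a63b000000000000b622e96a63f000000000000000001d96503b1e9f761d3cb94179832363b0e9b60a0c2b991bde072e3c506576c922f141a1db24a00000074995800000000000307c5d749950000001935303c2c6b783cd4f039a5e282cba4ca1781cccf1416dd2651800000000000c611f000000314c7f5f117200000200f3cc00e7869116cd222ba0073ab088b800000000000000000324cbb)))) (BT.node (nat_lit 3) (BT.leaf (Bx.mk (nat_lit 0x15a6d00000004c9b62a1f5a4000002585685d1344ad36bc000003e8564429b38e5466800000000000000000f83d9400000000000529b649d36993a6bd244d78000000dd365c000003d4d7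40000000000011c4d400000000000000000160fa70000005c3e28bc7c3000000332d12663e220000019967ab31ef40000000000017967eaf1efc000000ad3575696822d1f036259e4c47bc400000331ef7000000cc7c3c000002c1eca5c3dcce4b4b1707692e1ed0000000b0b3b160f75800000743db2e47c70000003a2ce1743dc0000001c9691391f21581e5600000000000302ce9603dd0b8b32570f64000000000000000001716772e1eed601d9ec0b33800000000000743d80000001c269a3a2cdd741d8ee8b31800000000000000000bc3c0178f7f800000000000c47c18000000000007c3df4c9356000000000000000000f8b3cc0000000000000000000000000000000000000000c1345800000000000000000000000000002e4d1a))) (BT.leaf (Bx.mk (nat_lit 0x2a0fba529b2c7d3628000000000004a9b080000016b2c68000005a1f0aa53710e26c5a94d9540d726000001787bfb10f824a9b00a83dad3a8bda84da5581eec000000000002a0f7c000000793675c32b1a24d61403ee2a1ada94c4d82e0f79000000000001607bf2c0f7d000000b83db0f96d5221f73701ec4e135c9d3eb0000000701eccaa270d544dc2f0f890000009df61c0000000000080fb06ba1604000000000003b1372822709726ca000000000000000000000002689bf0000000000016a6c72689b3)))))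
noncomputable def eCo0_c2 : BT (Bx Nat) := (BT.node (nat_lit 2) (BT.node (nat_lit 1) (BT.leaf (Bx.mk (nat_lit 0x8e787314f1fe29e7f473c388a78f800000000000453cf68e786d14f1dc00000473c358a78e800000000000473c338a78e000000239e19453c6d00000000000000000473c308a78d000000239e17c53c6500000000000239e16453c610000011cf0ac00000453cc48e785400000239e14c53c598c2051200ae4000004802b790056a00000240159c802b1000001200ab8000004802a990054d200a8e40150b510528c203f200a724014c800000900529200a463080e48028d9005170cf106401434802830000011840664013f48027b0000012009da40139c610169004df2009b0000004802679004c800000230809c802609004bb20096a4012c00000000000114f09c000000000008a7848000000000000000008a78891cf03629e0f0000008e781914f06e29e1bc73c0b00000114f0c639e05453c150000011cf02629e094802269004472008824010ec8021a90042f20085240108c73c048a78111cf00e29e0348020790040b18400a40300800000))) (BT.leaf (Bx.mk (nat_lit 0x23083c4803830000010cf3e400000480380000001167bb0000000000006479c40000014616b00000000000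0000002401bd30d5489006ee0000000000000000000000000000141ea7c803739006e2bcf378000000000008c20cc0000013d78f00000000000000000000000000000000000000000000000000008679a4000000000000000005279ef200da4000004803678c20b8a0f36400000000000000000000002401b1b7af169006c0b0f4880000000000000000000000229e5d0000000000011cf14e29e5b00000000000000000229e59000000000000000000000000000000000011cf13229e55453d3f00000114f29c00000473c4a8a79491cf12629e5100000000000000000239e230000008a7a4f1cf1140000000000000000000000239e21c53c950000011cf10a29e4900000000000000000000000473c3f8a7918000000000000000008e787a00000000000473c3c8a790800000000000453d05)))) (BT.node (nat_lit 3) (BT.leaf (Bx.mk (nat_lit 0x8622f8000000000000000008e79d314f5ec00000473ce700000000000000000473ce08a7ae91cf37c00000000000000000000000000000000000000011cf32a29eb5473cc88a7ad000000000000473cc18a7ac800000239e5f800000000000975556401e14803c10000000000000000026d4e690077c000000000004803bd00000000000000000000000535a8d200ee0000004803b60000000000000000000000090076600000129eac4803b000000000000230854000000000000000000000000000000000000000000000029d506900752000000000004803a7000000000000000004803a5599e24a0f32e401d10000000000000000000000027ad1d0000000000000000048039c000000a8f4d6401cc800000000000aab319a5e8c000000607a2718423c0000000000090072ae6ac3e401c92eb70400000116a326401c7c8038d71598000000230842a53d3e0000000000015e587461080900714b8f3d400000283d4d90070e0000000000046107d)))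 (BT.leaf (Bx.mk (nat_lit 0x19add1000000000000000000000000000007cf72c000001acfc5000000000000000000000008e7aba000000000000000000000000000000000000000000000000000239ea70000000000000000000000000000000000000000000000453db15c22f2000000000000000000000011cf4dc00000473d348a7b511cf4c00000000000000000000000000000000000000000000000000000000000000011cf48629ecd0000005022cd1cf45e29ecb0000008e7a2b14f64c00000473d110000011cf44229ec7233dac8e7a0f14f62c0000000000000000000000000000473cf800000000000239e7a453d81)))))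
noncomputable def eCo0_c3 : BT (Bx Nat) := (BT.node (nat_lit 2) (BT.node (nat_lit 1) (BT.leaf (Bx.mk (nat_lit 0x8c7cfd1c48e628980463e7b8e2470000000000004512f98c7ced1c48d800000463e738e246a00000000000463e6f8e246600000231f3647123200000000000000000463e678e2461144b6e31f3247122f00000000000231f3047122c00000118f976389158000008c7cb51c48aa31f2c471229000001200ae8000004802b890056cd049224015a4802b2900561200abc000004802aa90054f200a9240151000000000001200a764014d466c1f90052b200a4a2361f48028e90051919b07240143c802846eec5c0000024013fc8027c8cd8332009de4013a446c319004e12009b63360b4802689004ca000000000004802619004bd20096e4012c8000008c7c4d1c484000000463e238e241e00000231f1047120e00000118f876389068000008c7c351c48322891d463e178e24171448d231f0a47120a8a245b18f84638904c802279004492008864010f48021b90043120085640109463e078e240918f81638901c8020890040d14480a38400800000))) (BT.leaf (Bx.mk (nat_lit 0x119b1f4000000000000000000000022367b48038455659719b1e17d883480381000000000000000002aa0c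d000000000000000004412f2000000000002401bdafc9439006f000000000000000000000000ce73bc000004803749006e4c2d37955d988000000000000000014df630000000000009c4bb40000000000000000111b33c000000000008cd8c400000000000000000527e5d200daa20989480368000000a44c7800000466c5c000000a70346401b20000009006c2b34cd40000000000000000118fae63892b00000000000118fad63892980000000000118fac6389280000000000011c49380000000000000000118faa6389260000008c7d4d1c492c00000463ea38e249518fa863892480000000000000000231f4e4712460000000000023892280000000000000000231f4a47124300000118fa463892100000000000118fa3638920463e8b8e247e000000000000000008c7d0d1c48f628986c63e838e247800000000000000000)))) (BT.node (nat_lit 3) (BT.leaf (Bx.mk (nat_lit 0x42137f8c7ef51c4ba4000000000008e25ce00000000000463f738e25c00000023896f8000000000000000000000000000000000118fda638965463f678e25909c4e5c00000463f638e2582000000000004712bf00000097248e401e1800000000000000002236ab26c94590077e00000000000000000000000000000000000000005365c3200ee54e4824803b7000000000000000002f12e8000000a04d3d5eb734803b1000000000000000000000008cd9509b2430000000000000000000000022369b27c8f590075400000159f914803a8000000000000000004803a6000000b723de401d1800000000000000000000000000008cd9360000000000048039d000000b722fa401cd2a6ccc000000000000000000000000000000000000000000000090072cd84b02401c9800000637636000002401c848038e000000000000000000000008cd90a00000000000000000900716000002336402d131490071000000000000000000)))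 (BT.leaf (Bx.mk (nat_lit 0xc09e8000000373b9a00000000000000000413b9400000000000000000000000000000000000000008c7f851c4d76389ae000000000000000000000000000000000000000000000047134e000000000000000002f6d7900000000000231fd847134400000000000000000246d8c0000000000023899bc63fa78e266918fe96389980000000000011c4cb4000000000000000000000000000000000000000118fe66389908000004cdae118fe563898b8000008c7f251c4c54000000000008e262318fe36389880000008c7f151c4c1c000000000008e2606000000000000000008e25f000000231fc04712f4)))))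
noncomputable def eCo0_c4 : BT (Bx Nat) := (BT.node (nat_lit 2) (BT.node (nat_lit 1) (BT.leaf (Bx.mk (nat_lit 0x6880ced199a1d0c3e800000000000000000000002e42ab000000000001d2149bb4073000000dd0a40000003d405a7accb6000001e2145bc428c668504e899a99b84f33427e6684fef10a1602032000000000000b10a94000002c42b8000000d10ac40000036428f7884def109c1e202c3b4259000000c5c0d9b9325af702c6ae0a60000018212537262b66e080d5c138000000000006c84aac5e145f9324b75852000000d1c0f5f131c42664766f098edc1080000032424f7e4c640000019a1233d703c70e85ced08ddb2b183d424578cc74c10959e131a8000007eac54f908fdc332bb54239824c5edd08ec000002e42546c84a0f908cde9314b91816728028e5985400000434023000000ec6071da00d3b661b86303f0d0074000003a4222748440e90885e8c0cbe40177a84300000000000038422700000105004602109000000884c1ef5583221306bc420e7e4c16e9604211304c040077e84110d001612103413404884c0718600a40300800000))) (BT.leaf (Bx.mk (nat_lit 0xe59c0192b770000000000000000000000000000072860c00000162b65bb26f4517258dd5bb000000000000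0000000000015a1ad0000000000000000018ab6fb071485e860ee10c50000002b34fb0000000000015a19aa6435d6085d200000133ca12e1901788216ad5b397b894000000528678000000000003518d400000000000000000000000000000a90b68000000000005685eab50cdd25caf32434c000000ad0c7400000000000000000f09b0800000394316000000c9c5197b83d0000005a852cbd01d97b33bad40605accc2d102d4000003040a3000000d50175ab32f31408d68815c000000000000000005e30f0c902519334ab518a800000000000168c31000000000000f90285ea15131708a000000c909a5920433266876ee136f101ede333e3078ad000000b9c2ec000003142aa7630eae90245ca1493826726e30b8000001821583d406c7accda00000000000351880628538000001e8c333c4083768508d159ac00000344288)))) (BT.node (nat_lit 3) (BT.leaf (Bx.mk (nat_lit 0xa065b950cbe8000005e82e2bd9dc800000000000000000c4657c0000000000000000000000000000000000000000000000000002843a10000000000000000000000000000000000000000000000000000000000000000000006086ec8d0b253dc70000000000000b2e3b4000000000000000000000000000000000000000000000000000000000000000a5c55d338a2b326c800000000000000000000000000000c50af92a1a6b02711000000950b7400000000000000000000000000002a70d7684e32000000000000000005c4d9400000162b70ab7154000000000000000000000000000000000018b896a742f30000000000000000000000000000000000136898800000000000aae53d95c90aac70200000000000162b630000000000000000000000033b91e000000e89b017dc983926e60000000000017a1a230b917724e1e000000000003126ff0000000000013937d00000060adcee89bdc0000000000070e206a50c8000000000000)))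 (BT.leaf (Bx.mk (nat_lit 0x1013e42857c500000000000000000000000000000000000000000000000000000000013a1e80000004a82e6959dd000000000000508370a19ee5533d4000000000000000000000000000006282cec59da000000000000000000000001720c780000000000000000000000000000000000b105a5633b52943bd000000b90649733c9800000608344bd0e8d48cb62c438600000000000000000000000000000c50665821cd000000000000bd06357b3c72f1979000000000000000000000005a8762000000000002e19705c82eeb99de1b38c4b741876c8710b5c68000000000000000000e06609d20c0000000)))))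
noncomputable def eCo0_c5 : BT (Bx Nat) := (BT.node (nat_lit 2) (BT.node (nat_lit 1) (BT.leaf (Bx.mk (nat_lit 0x90060d200c0e40180c802ff9005f80000022943d4802fa9005ef200bd0000004802f100000000000240177c802ed9005d6000002401744802e68e506314a1ae401714802e09005bd200b724016cc802d6000001200b4e401684802cd000001200b2a4016400000090058b200b0a401604802be900578000000000000000000000011ca094000000000008e5046000002401560000008a50980000022942547281f90053f1ca07a2942348029700000114a10e4014847281b8a5081200a263940d45283d8e5033200a063940c4528399004f31ca05e2941b4802728e502b14a0ce401354728148a50611ca04e40131c728128a50591ca046294153928529004ab20094de341448025090049c00000240125c802497cd045200916401213f283b90047f2008f20140e48023890046afca0ba4011948022f80502d2008ae40114c728088a50211ca01e294074728068a50191ca0162940548020f90041b20082e40104c728028a500920080e40300800000))) (BT.leaf (Bx.mk (nat_lit 0x23943d8000008e50f0000000000004728778a51f00000023943b4528f58e50eb1ca1d0000004728737731a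b1ca1c22947747286f00000000000239436c528e98e50d914a39db94903828968e50d2000002394344528e18e50ce000002394330000000000000000022946d48036f00000114a35de1438c7286200000000000239430c528d10000011ca1800000047285f8e50bd14a32e3942ec528c90000011ca16e294630000008e50b514a30e3942cc528c18e50b114a2fe3942b800000000001200d76401adc8035a000001200d5e401aa4803529006a1200d3a401a648034a900691200d18000004528ad000001200d12401a1ab6933900681200cf40000048033b900675200cde4019a4728478a5141200cc640197c8032d900657200ca000000472844000001200c9640191c8032174d1ca0000024018e000000900637200c64000004803169006291ca0f800000480313900623200c3c0000048030c00000000000229441480309)))) (BT.node (nat_lit 3) (BT.leaf (Bx.mk (nat_lit 0x4803d10000009b65c4000000000000000000000000000000000000000090a5d000000000000000000000002401e6c803cb0000008ca6290f2d3800000000001200f22401e3000000000000000000000002429a5000000000002294af000000000000000000000000000008a52b00000023945a8000000000000000000000000000000000114a53c000000000000000000000000000000000000000000000239455452945000000000002401d700000090075a00000000000000000000000000000000000000008a527000000000000452935000000000002294990000000000011ca2700000047289b0000000000000000000000090073e000001bcc720000000000011ca250000000000009007300000000000045291d00000000000000000000000000000000000000004529150000011ca21e294890000008a52211ca21400000000000000000000002294850000008e50ff14a41c0000047287e8a52091ca1f400000000000)))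 (BT.leaf (Bx.mk (nat_lit 0x472979000000000002294e70000008a53991ca5ac000004529c900000114a71e394af8000000000000000000000000000043cb827f963c000000000000000000000010f2cb2269b10000000000000000000000000000000000000000000000000000000000000000000000000008b9584000000000000000008b970800000000000000000000000000000000000000000000010efd400000000000091a591114d8000000000000000001271bd800000000000000000000000000000000009385cc0000000000049cb860000000000023df8d000000000000000000000000000000000011f2ce1f69b7)))))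
noncomputable def eCo0_c6 : BT (Bx Nat) := (BT.node (nat_lit 2) (BT.node (nat_lit 1) (BT.leaf (Bx.mk (nat_lit 0x90060f200c12401810000009005fb18a9e638e1bc802fb9005f1200bd640179c802f29005e11c70d1ec96ac802ee9005d9200baa40174c802e78c54d51c70c640171c802e19005bf200b764016d4802d78e385b200b5240168c802ce900599200b2e4016480000090058d200b0e40160c802bf90057b18a95638e13c62a538e384ce8a8a231528471c248c549d1c708e40156c62a4b8e384318a92638e1000000090054118a91638e0f4802988c54851c707400000462a3f8e3837200a2a3151e471c1a805439200a0a3151c471c189004f518a8d638e0b8000008c54651c705640135c62a2f8e382900a85800000462a2b8e382518a8a638e08bb1c259004ad2009524012948025190049ef4707e4012648024a90049120091a40121c15e199004812008f64011dc8023990046d05784e40119c8023090045d2008b240115462a0f8e381118a83638e03c62a0b8e380d18a82638e02c8021090041d20083240105462a038e380520081238500800000))) (BT.leaf (Bx.mk (nat_lit 0x8e38f80000023157e471c7b8c55f51c71e000000462af78e38ee0000023157a471c7600000000000238e3a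0000008e38e318abb638e380000008e38de00000231574471c6d8c55cd1c71b1c8e498000008c55c51c71a631570471c688c55bd1c719c00000471c6600000118ab6638e328000008c55ad1c7191d0e778000008e38c400000231568471c6100000000000238e300000008c55951c717a31564471c5d00000118ab1638e2d8000008c55851c716a31560471c598c557d1c71623155e471c57000001200d7a401ae000000000001200d62401aac803539006a3200d3e401a6c8034b900693200d1e31556471c4d000001200d1400000480342000001200cf80000048033c000001200ce24019ac62a9f8e388f200cca4019848032e900659200ca640193462a978e3888e64b9240192480322900641200c7a4018e8000000000000000024018c48031790062b18aa2638e1f000000900625200c424018700000000000118aa0638e1d48030a)))) (BT.node (nat_lit 3) (BT.leaf (Bx.mk (nat_lit 0x4803d2463b2a000002401e823e9a3000001200f3c0000025db72463b1c00000128ebd0000008e39b0000002401e74803cc9007940000000000000000045cf45200f26401e3a31d9a0000000000000000000000090078b18ad7638e5d462b5b8e397200000000000462b578e396c000002315aa471cb58c56a51c72d2315a8471cb38c569d1c72ca315a6471cb18c56951c72c2315a4471caf8c568d1c72ba315a2471caa0000000000000000000000000000118acf638e53462b3b8e394800000000000462b378e39440000023159a471ca154395118acc638e4f462b2f8e393b18acb638e4e0000008e393600000231594471c9a00000000000000000462b238e392b18ac8638e4a382ae50000000000023158e471c9100000000000238e470000008c562d1c72323158a471c8b8e391118ac4638e43c62b0f8e390c00000000000471c8400000118ac2638e400000008c560d1c71fc00000462b038e38fc00000238e3e800000)))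 (BT.leaf (Bx.mk (nat_lit 0x118af4638ebe00000000000118af3638eb6c62bcb8e3ad8000002315e4471d668c578d1c759400000000000463b168476980000000000000000000000000000000000000000000000000000000003c3b0000000000000000000000000000000000002393990000011c750638e9f80000000000000000000000201d9d403ad20000012f5b0000000000000000000000000000008e3a4e0000000000000000000000000000000000471d1f0000008076e40000000000047d766000000000000000003c3b7c00000110ec40000000000009375a8000000000000000000000000000000000000000000000000000000000)))))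
noncomputable def eCo0_c7 : BT (Bx Nat) := (BT.node (nat_lit 2) (BT.node (nat_lit 1) (BT.leaf (Bx.mk (nat_lit 0x6cdd3a000001c374db86e9a000000d0826000000356e966add2ad5ba51db749bb6e9276dd22000000000000000006cdd1a000001e37463c6e8b6a4114000001b3744366e876cdd0cf1ba15e37423c6e8300000000000000000000000000000d1bac9a375880000000000000000000000346eae000000c5b931b9025b16e4a6e4092e081480000037202b66dc54dc80a400000322056000000c88151b372980000084288e000001d901c000000000000f880d400000376e337e4064e850f9bb7183f202f000000000001c10233a6e45000000dc810deb721000000704080f9b8fdd8a18b8203d7cdc78e880b8000003220516cdca0d0813db3727000000000000000001e0a12800000786c46000000000000000000000010d1078000003b141c768836ecd869e8a0cbd44187a6c2ef05058000003c36147c2826f91049f1b08bb20107a401ef0803a21006bc200c7c4016f48029f9004c14408826c0f0d101a19b02c2200488400718500a40300800000))) (BT.leaf (Bx.mk (nat_lit 0x6441b2000000000000000005945c8000000000002c213072de0c00000181097396f0300000000000000000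000000000000ac84f000000000000000000000001590a4bb20c0000000c9bd18000002b6efb000000b08389410a2ac6f5d0000000000000000000000074de1ab484a58b77f8000006241fa00000000000000000000000000001590a5bd20c5000000000001d9061000000564270a5bd5d590aaad6f34000000a4854c000000000005842a2000001c108bba6ee86241cee5bc517b756b320ac622956c512a989b54b144a4626d46d51289a9b50800000626cc0d51179a9b2eb3445b6a88b2d4d9618105eb26ebc000000c1bae80000000000000000000000000000000000000000000000000000000006a4102dc5201ba23fb7367e7228fae511f1c9b3d800000000000d851e1b223bb636767828eaf111d1e1b39b620726e28e2dd11c1b9b37bd446d7a6cd8d1b9adc10353714696e88d0dcd99de8a333d44657a6cc8c8828000000000000)))) (BT.node (nat_lit 3) (BT.leaf (Bx.mk (nat_lit 0x1c8ab1304561606ec000000000000000000000000000000000002f6f86000000bdbe14000000000004edf800000013b7df00000056df4e9dbef1537ddb66f966cdf2a0000017b7bc2f6f7700000095bc4969070000000000000ac83b40000000000054419400000153764ac214c000000b88528000000000004e42b0b484dc0000000000000000000000000000312116000000cc83993b770b0211160421e00000000000000000000000000000000002a6eee0000000000000000000000058de9c000001510a6ae20c80000000000000000000000066424600000199090800000644202dc54000000030210c0000000000000000000000064de5e00000193796b621200000000000014909f00000000000000000000000000000000000000001790a3ba20be0000009885797b7a22b215c000000000001d8a6daf6f280000009084c8000000000005c4248e883dc000003321227441e800000000000000000)))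 (BT.leaf (Bx.mk (nat_lit 0xe90e7000000464398000000000002b1575568ae8acddcd51bc6a8156b508ad4a0dda400000281566562acaac56ad5a2d52b37a900000000000150ab68000005c6f24b85644000002e378f0000009c866000000000000000000000000000002c4568586ecead161159bc1b1159b628b34c4de64000002e158c5042de0000016a2c5ad378a000000000001837d1000000000000dd1591b9bb1800000000000000000000000000005adf60000000000002d6fa058df3a000001c0ac1384581706f00c055c180ab700000054df4addbe25bb7c4376f87)))))
noncomputable def eCo0_c8 : BT (Bx Nat) := (BT.node (nat_lit 2) (BT.node (nat_lit 1) (BT.leaf (Bx.mk (nat_lit 0x78c4eef0e9d99b04db4626564c106000001b2a4bad907876c0feed81f8000000000005b1d4c000000000002c46b8588d6e000001eb12cb48aae000000dc922568d34ae46ba5c8d720000019b03e334699000000000001fb12dbd3a5a000000ad1ad97aa50aa465c7cc0c2f18181e3036bb468b0000000000019b02580000066c092ecb9480000033602b765c9ed580a5a2a2b80000068a8aa000001a2a298000006e8c74000001cb01c000000000000e180d40000000000072c064000001d171eb9602f785c76d9811de171cba244570a888f0b8d9caa21376241000000e890fdcb91f0000007448780000000000000000068a8a0f4b8a9b122739542800000000000000000000000727422000001c2313b84626000000000001f300bba241c82c42b04e851d170cbc461e7ea83aec905a0300dc0601a000000e11891c3011c02e1078a81f00b839eaa068000007a481708b829f1204be46088a740efd181a01d02c52e0486480714680a40300800000)))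 (BT.leaf (Bx.mk (nat_lit 0xad842c000003294d6000000a8bc9543f840000005d165eaa94159b091328b2d72c2400000017b0a00000000000000000016aa9db4611866c274000001d308bad554874c22aca52f9baa72800000000000000000000002a554468c220000000000003894dc0000000000017c59429552700000000000000000000000000000a5fb1c000002d554a54c18800000000000000000000000ad84dc000002d55540000000000015c5a92b72cf000000b9554000000386116000000000000000003160ac000000000000000002b607000000000000163058800000000000b582896c55aaf46b4000000cd81b0000003254bc0000000000000000000000064c524b181cc0000000000068c11ab91ac97302e80000066c102000000000000000006834fa000000000000000006ac0f2000001a454eb48a9c000000c5829c0000000000056351e000001ac751b246af74c0b0e4ba29b3035000000628d54c51aa5c8d3331469a66fcf6000001a124fad9080)))) (BT.node (nat_lit 3) (BT.leaf (Bx.mk (nat_lit 0x45db2e0000000000000000074c326eceddd4aada2a479674c2f4000000000002161a83ec36cb51e2d6a3d2800000000000000001045de2655bb000000a586052b0d11e47c344c31e8556d400000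3a6361000000b63e5000000000000000000bcbd153b08880000058c21e0000000000000000050c29c000000000002c60c8000000a98314000002d60c2665d96a62d5d99764ab6134000000b18340000002c60e8000000c18450000002960e0000000000000000003094f10000000000015308e00000058c1dad253ac00000000000592994000000000002c554c0000000000012a384b52f075ac1ee0000018b07a372f02000000000000000002e60d9000000000000000000000005ec20cd0bbd5a5381ba2ef350aa82e8bbc9d17782b553d0000000000016aaad352eec765dd2e69b01d9773b18b4600000000000142aaeb52edf5aaab60000016459531a6ff588dfc00000000000000000000000c1548d4b07b00000066c242000000000002d62db))) (BT.leaf (Bx.mk (nat_lit 0xf4ae4000000492b8c00000000000000000000000000000000000000003ac2d07d86f4000000000000000007d8665023e11f616d4ac2d80000010b0cd25618700000081fdcc000000000000000000000010a3dba161a7000000000000000000000000000008d868d3b0c0225574451760b18639630b8800000488f549955a4000000000000000000000000000000000056c3128a2ee5023df00000042c2fea585e1cbfc900000076c6f6e18654000000000004676ceb51e995bfc500000058c2e4a9863562acda447bf4d1770a46e313c7cf000000000000aa2e91531b52847a9)))))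
noncomputable def eCo0_c9 : BT (Bx Nat) := (BT.node (nat_lit 2) (BT.node (nat_lit 1) (BT.leaf (Bx.mk (nat_lit 0x358696000000000001dc349800000000000000001b404780000000000000000000000000000000000000001b4044000000000000f202140000000000000000000000000000000000000000000000000000000000000000000000000000000000000000000000000000000000000000000000000000000000000000000000000000000000000000000000000000000000000000000000000000000000000000000000000000000000000000000000000000000000000000000000000000000000000000000000082a4660000000000041523082445e00000000000000000000000000000000000000000000000000000000000000000000000000000000000000000000000000000000000000000000000000000000000000000000000212d0ac2381400000000000000000000000000000000000000000000000000010d48280000000000000000000000221c028000008a440718580a40300800000))) (BT.leaf (Bx.mk (nat_lit 0xce0494000000000000000000000000000000000000000000000000000000000000000000000000000000000000000000000000000000000000000000000000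000000000000d2044c0000000000000000000000000000000000000000000000000000000000000000000000000000000000000000000000000000000000000000000000000000000000000000000000000000000000000000000000000000000000000000000000000000000000000000000000000000000000000000000000000000000000000000000000000000000000000000000000000000000000000000000000000000000000000000000000000000000000000000000000000000000000000000000000000ca3200000000000000000000000000000000000000000000000000000000000000000000000000000000006e2ce20000000000000000000000000000000000371669000000000001e8b330000000000000000000000031809e)))) (BT.node (nat_lit 3) (BT.leaf (Bx.mk (nat_lit 0x1811848000000000000000000000000000000000000000000000000000000000000001a117d000000000000000000000003a52f3000000000000000000000006a45de00000000000000000000000000000000000000006a45c400000000000000000000000ed4b7400000000000000000000000000000000000000000000000000000000000000000000000000000000))) (BT.leaf (Bx.mk (nat_lit 0x0)))))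
noncomputable def eCo0_c10 : BT (Bx Nat) := (BT.node (nat_lit 2) (BT.node (nat_lit 1) (BT.leaf (Bx.mk (nat_lit 0x900611200c163991c4803009005fc000000000004732369005f3200bda3991a800000000000f8cb5239919800000000000000000000000000009005cb200b92399180000000000011cc8be4016dc802d89005ab1cc8b2401694802cf8e64560000000000047322a90058f200b10000000000008e644f200aec00000000000000000d9e8ec00000000000000000000000000004802ab900551200a94000003e302e8e643d200a7a4014dc7321d90052d200a4c0000048028f0000011cc86a401444802850000011cc8624014048027d8e642f2009e24013ac732159004e32009ba3990a4802699004ccf4c922399094802629004bf200970000004732109004ae00000239907800000000000000002401268000008e641b20091e4012247320c9004832008fa39905c8023a90046f1cc82a4011a4802318e64132008b40000048022890044b20088a4010fc8021c90043320085a40109c34e0686900b08c82211903c530038864091c300640201000000))) (BT.leaf (Bx.mk (nat_lit 0x90070c000002401c2800000000000f4cc38000000000009007051cc9d800000000000793627200dfc0000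0000000000001200dfa401bec8037c000000f8c34c00000480379000001200dd80000047326a76612eaf148000000480375000000000000000003d96988e64ca000002401b84732649006dc00000239931bf30727a65d51cc986401b68000008e64c1200db0000003c9aef000001200dac000000000008e64b7200d980000047325a9006ca00000000000480362000001200d7c0000031330a00000000000000000000000000001200d66401ab00000000000000000000000000000000000000001766958000008e64980000000000047324b900683200cfc00000000000000001200ce64019b4803330000011cc918000000000008e648b200caa40193bc32dc7465c600000000000000000000001200c7c000000000008e6481200c6800000000000000000000000000000000000000000000023991e48030d90061600000000000473239)))) (BT.node (nat_lit 3) (BT.leaf (Bx.mk (nat_lit 0x8e65e51ccbba39976c732ec000000000002399740000000000011ccb9a39970000000000000000000000004732d978678f1ccb5e39968c732ce8e6594000000000000000000000011ccb1a399618000000000011ccb00000000000008e657c000002401e2000000000000000000000000000009007811ccad400000000000900778000002401dd800000000001200ee80000000000090076a000000000004803b4000000000000000004803b290075e000000000000000008e654d200eb000000000000000000000000000000000009007571cca84000000000000000008f32b000000000000900748000000000000000005a655a000002401d0c803a0000001200e7800000000000900736000000000000000008e6525200e5c0000000000000000000000000000000000000001200e5000000000000000000000002401c8800000000000f8c3e80000048038c000000c8c2f000000000000000001200e2400000000000000000000001a4b5ec7327c)))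 (BT.leaf (Bx.mk (nat_lit 0xa4c6b4000000000000000007336b80000022cd9f000000000001b98cc0000007a62de0000000000047335d00000000000000000473357000000000000000000000000000011ccd3800000000000000000000000000000000000000011ccd1000000000000000000000001419e90000008e666e000000000000000000000000000000000000000000000000000000000000000426798000000000000000008e6646000000000003633c900000000000000000000000000000000002399888000000000000000000000047330c000000000002399830000000000000000023997e8000000000011ccbdc00000000000)))))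
noncomputable def eCo0_p : BT (Bx Nat) := (BT.node (nat_lit 2) (BT.node (nat_lit 1) (BT.leaf (Bx.mk (nat_lit 0x71c86e3909c70538e0371c04e3719c6e2b8d8a71b06e3609c6a538d4371a84e3415c66538cc371984e3229c641b8c827188ce3115c60538c0371804e2f29c5e1b8bc27168ae2c29c581b8b0271594e2b0dc56138a8a71506e2a09c521b8a4261394c271984e2b09866130ac25198483309056118cc23158425308466108ac20198402b07c660f14c1e1983c2b074a60e8cc1d158365306c660d8ac1a2983433068560c8cc182983033060560b94c171982e2b054a60a8cc151582853050660a0ac13198245304866090ac11198222a840a50806a100941e5283c350784a0e2941c1a838250694a0d0d41a12830a50606a0c094165282c350584a0a294141a828250494a090d4121202064040a8071900e2a01864030a8051900a298103302046030cc061100862010a20128000000000))) (BT.leaf (Bx.mk (nat_lit 0x83e0b07b2a0f6341ec583c0d078160ee541dc683b8b0762a0ec341d8583a8d0741a0e82c1cc68388b0701a0e02c1bc68378b06e1a0da341b458360d06c160d6541a8a8348d069160d0341a058338d067160cc341985832950651a0ca2c190a8320d064160c65418868310b0612a0c2341845830150601a0c02c17c682f0d05e160ba34174582d9505b1a0b62c168a82d0d05a160b234164582c0d05815cae3395c572b14e560dcac13950372a04e530dca613944372884e500dca01393c372706e4e09c9a33934572614e4c0dc981392ca72586e4b09c9453928372504e490dc921391c67238ae4629c8c1b918272294e450dc8a1391067220ae4329c861b90c272114e420dc8413904572014e400dc80138fc371f84e3e19c7c2b8f4a71e86e3d09c78538f0371e04e3a19c742b8e4a))))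 (BT.node (nat_lit 3) (BT.leaf (Bx.mk (nat_lit 0x979152ee2a5da54bb0a974872e90a5d054b9c3973852e62a5c054b803970052df0e5be14b64a96c0b2d72a5a254b38a965152ca0e59414b203964052c62a58654b043960852c02a57e1cafc295f150ba1a1742c2e4685c8b0b81616c542d8685b0b0b52a16a342d4585a0d0b416166342cc58590d0b216162342c458580d0b01615e342bc58570d0ae16154342a858548b0a81a14e5429c5853150a61a14c2c29068520b0a3161445428868510b0a12a1423428458501509e1a13c2c274684e8b09c1a1382c26c684d8b09a2a13434268584c950991a12c2c254684a8b0941a1282c24c6849150921a1223424458478b08e2a11c2c23468460d08c161163422c58440b0871a10e2c21868430b0851a108542105841950801a1002c1fca83f8d07f160fc541f8683f0b07d1a0fa2c1f0a))) (BT.leaf (Bx.mk (nat_lit 0x157c1aaf82d5e46abb0d56d1aada2d5b06ab60b56b1aacc355985ab28d56516abe34d74a9ae8735d0a6b814d5ca9ab873570a6a814d4ca9a89534e2a69c1cd3829a60734c0a69654d20a9a3853442a6881cd1029a1953411667e2ccf8a99b953370e66e14cd0399a053300e66014cbca9968732d0a65254ca0a9938b3262a6481cc902991953210e64214c7c598f153170e62e14c58a98a873150a62254c443988853100e62014c30a983873070a60c54c0c3981852ff2a5fa54be0397c052f72a5e81cbd02)))))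
noncomputable def eCo0_e0 : BT Nat := (BT.node (nat_lit 19904) (BT.node (nat_lit 8576) (BT.node (nat_lit 1152) (BT.node (nat_lit 128) (BT.node (nat_lit 69) (BT.node (nat_lit 66) (BT.leaf (nat_lit 2)) (BT.node (nat_lit 68) (BT.leaf (nat_lit 262146)) (BT.leaf (nat_lit 524290)))) (BT.node (nat_lit 72) (BT.node (nat_lit 71) (BT.leaf (nat_lit 786434)) (BT.leaf (nat_lit 1048578))) (BT.node (nat_lit 73) (BT.leaf (nat_lit 1310722)) (BT.leaf (nat_lit 1572866))))) (BT.node (nat_lit 448) (BT.node (nat_lit 256) (BT.node (nat_lit 192) (BT.leaf (nat_lit 41257)) (BT.leaf (nat_lit 71437))) (BT.node (nat_lit 320) (BT.leaf (nat_lit 112409)) (BT.leaf (nat_lit 97049)))) (BT.node (nat_lit 832) (BT.node (nat_lit 576) (BT.leaf (nat_lit 74009)) (BT.leaf (nat_lit 46349))) (BT.node (nat_lit 1088) (BT.leaf (nat_lit 37897)) (BT.leaf (nat_lit 83221)))))) (BT.node (nat_lit 5696) (BT.node (nat_lit 4480) (BT.node (nat_lit 2048) (BT.leaf (nat_lit 114957)) (BT.node (nat_lit 2624) (BT.leaf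 (nat_lit 98313)) (BT.leaf (nat_lit 47365)))) (BT.node (nat_lit 5312) (BT.node (nat_lit 4672) (BT.leaf (nat_lit 108569)) (BT.leaf (nat_lit 101133))) (BT.node (nat_lit 5632) (BT.leaf (nat_lit 46601)) (BT.leaf (nat_lit 110601))))) (BT.node (nat_lit 6656) (BT.node (nat_lit 6016) (BT.node (nat_lit 5952) (BT.leaf (nat_lit 108553)) (BT.leaf (nat_lit 21257))) (BT.node (nat_lit 6592) (BT.leaf (nat_lit 101125)) (BT.leaf (nat_lit 110597)))) (BT.node (nat_lit 7552) (BT.node (nat_lit 6976) (BT.leaf (nat_lit 101129)) (BT.leaf (nat_lit 113953))) (BT.node (nat_lit 7616) (BT.leaf (nat_lit 46341)) (BT.leaf (nat_lit 47377))))))) (BT.node (nat_lit 14336) (BT.node (nat_lit 10304) (BT.node (nat_lit 9472) (BT.node (nat_lit 8640) (BT.leaf (nat_lit 34573)) (BT.node (nat_lit 8896) (BT.leaf (nat_lit 69913)) (BT.leaf (nat_lit 113937)))) (BT.node (nat_lit 9984) (BT.node (nat_lit 9536) (BT.leaf (nat_lit 47633)) (BT.leaf (nat_lit 74521))) (BT.node (nat_lit 10048) (BT.leaf (nat_lit 77333))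 (BT.leaf (nat_lit 100881))))) (BT.node (nat_lit 11648) (BT.node (nat_lit 10880) (BT.node (nat_lit 10816) (BT.leaf (nat_lit 87317)) (BT.leaf (nat_lit 100897))) (BT.node (nat_lit 11584) (BT.leaf (nat_lit 47369)) (BT.leaf (nat_lit 46605)))) (BT.node (nat_lit 11904) (BT.node (nat_lit 11840) (BT.leaf (nat_lit 87833)) (BT.leaf (nat_lit 47629))) (BT.node (nat_lit 12928) (BT.leaf (nat_lit 89369)) (BT.leaf (nat_lit 113925)))))) (BT.node (nat_lit 17472) (BT.node (nat_lit 15616) (BT.node (nat_lit 14720) (BT.leaf (nat_lit 104725)) (BT.node (nat_lit 14912) (BT.leaf (nat_lit 83473)) (BT.leaf (nat_lit 100873)))) (BT.node (nat_lit 16768) (BT.node (nat_lit 15680) (BT.leaf (nat_lit 104717)) (BT.leaf (nat_lit 87301))) (BT.node (nat_lit 16832) (BT.leaf (nat_lit 88073)) (BT.leaf (nat_lit 100877))))) (BT.node (nat_lit 19328) (BT.node (nat_lit 18496) (BT.node (nat_lit 17856) (BT.leaf (nat_lit 102697)) (BT.leaf (nat_lit 103693))) (BT.node (nat_lit 18624) (BT.leaf (nat_lit 104969))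 (BT.leaf (nat_lit 89613)))) (BT.node (nat_lit 19712) (BT.node (nat_lit 19456) (BT.leaf (nat_lit 85773)) (BT.leaf (nat_lit 103961))) (BT.node (nat_lit 19840) (BT.leaf (nat_lit 102409)) (BT.leaf (nat_lit 88333)))))))) (BT.node (nat_lit 25216) (BT.node (nat_lit 22400) (BT.node (nat_lit 21440) (BT.node (nat_lit 20800) (BT.node (nat_lit 19968) (BT.leaf (nat_lit 107809)) (BT.node (nat_lit 20736) (BT.leaf (nat_lit 77317)) (BT.leaf (nat_lit 103941)))) (BT.node (nat_lit 21056) (BT.node (nat_lit 20864) (BT.leaf (nat_lit 88077)) (BT.leaf (nat_lit 85769))) (BT.node (nat_lit 21376) (BT.leaf (nat_lit 104737)) (BT.leaf (nat_lit 113193))))) (BT.node (nat_lit 22016) (BT.node (nat_lit 21888) (BT.node (nat_lit 21824) (BT.leaf (nat_lit 85525)) (BT.leaf (nat_lit 89609))) (BT.node (nat_lit 21952) (BT.leaf (nat_lit 46377)) (BT.leaf (nat_lit 114729)))) (BT.node (nat_lit 22272) (BT.node (nat_lit 22080) (BT.leaf (nat_lit 87829)) (BT.leaf (nat_lit 46633))) (BT.node (nat_lit 22336)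 (BT.leaf (nat_lit 47385)) (BT.leaf (nat_lit 115753)))))) (BT.node (nat_lit 23808) (BT.node (nat_lit 23104) (BT.node (nat_lit 22592) (BT.leaf (nat_lit 89365)) (BT.node (nat_lit 23040) (BT.leaf (nat_lit 108549)) (BT.leaf (nat_lit 115489)))) (BT.node (nat_lit 23616) (BT.node (nat_lit 23168) (BT.leaf (nat_lit 103945)) (BT.leaf (nat_lit 108041))) (BT.node (nat_lit 23680) (BT.leaf (nat_lit 108045)) (BT.leaf (nat_lit 104733))))) (BT.node (nat_lit 24576) (BT.node (nat_lit 24192) (BT.node (nat_lit 24064) (BT.leaf (nat_lit 115485)) (BT.leaf (nat_lit 103969))) (BT.node (nat_lit 24256) (BT.leaf (nat_lit 108037)) (BT.leaf (nat_lit 103689)))) (BT.node (nat_lit 24832) (BT.node (nat_lit 24640) (BT.leaf (nat_lit 114209)) (BT.leaf (nat_lit 104713))) (BT.node (nat_lit 25024) (BT.leaf (nat_lit 102169)) (BT.leaf (nat_lit 108065))))))) (BT.node (nat_lit 27072) (BT.node (nat_lit 25920) (BT.node (nat_lit 25472) (BT.node (nat_lit 25280) (BT.leaf (nat_lit 115461)) (BT.node (nat_lit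 25408) (BT.leaf (nat_lit 115481)) (BT.leaf (nat_lit 103953)))) (BT.node (nat_lit 25600) (BT.node (nat_lit 25536) (BT.leaf (nat_lit 103697)) (BT.leaf (nat_lit 69897))) (BT.node (nat_lit 25664) (BT.leaf (nat_lit 69901)) (BT.leaf (nat_lit 115741))))) (BT.node (nat_lit 26432) (BT.node (nat_lit 26176) (BT.node (nat_lit 25984) (BT.leaf (nat_lit 112645)) (BT.leaf (nat_lit 112917))) (BT.node (nat_lit 26240) (BT.leaf (nat_lit 115225)) (BT.leaf (nat_lit 112929)))) (BT.node (nat_lit 26944) (BT.node (nat_lit 26752) (BT.leaf (nat_lit 114437)) (BT.leaf (nat_lit 112673))) (BT.node (nat_lit 27008) (BT.leaf (nat_lit 115205)) (BT.leaf (nat_lit 112901)))))) (BT.node (nat_lit 28480) (BT.node (nat_lit 27712) (BT.node (nat_lit 27200) (BT.node (nat_lit 27136) (BT.leaf (nat_lit 108053)) (BT.leaf (nat_lit 115465))) (BT.node (nat_lit 27648) (BT.leaf (nat_lit 108061)) (BT.leaf (nat_lit 115469)))) (BT.node (nat_lit 28160) (BT.node (nat_lit 28096) (BT.leaf (nat_lit 112661)) (BT.leaf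 (nat_lit 110881))) (BT.node (nat_lit 28224) (BT.leaf (nat_lit 85513)) (BT.leaf (nat_lit 85517))))) (BT.node (nat_lit 28736) (BT.node (nat_lit 28608) (BT.node (nat_lit 28544) (BT.leaf (nat_lit 115233)) (BT.leaf (nat_lit 87817))) (BT.node (nat_lit 28672) (BT.leaf (nat_lit 87821)) (BT.leaf (nat_lit 113181)))) (BT.node (nat_lit 28864) (BT.node (nat_lit 28800) (BT.leaf (nat_lit 114453)) (BT.leaf (nat_lit 89353))) (BT.node (nat_lit 28928) (BT.leaf (nat_lit 89357)) (BT.leaf (nat_lit 113157)))))))))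
noncomputable def eCo0_e : BT Nat := eCo0_e0
noncomputable def eCo0_cols : List (BT (Bx Nat)) := [eCo0_c0, eCo0_c1, eCo0_c2, eCo0_c3, eCo0_c4, eCo0_c5, eCo0_c6, eCo0_c7, eCo0_c8, eCo0_c9, eCo0_c10]
noncomputable def eCo0_ch (x j : Nat) : Bx Nat := chunkG eCo0_cols (nat_lit 4) x j
noncomputable def eCo0_L (x : Nat) : Bx (Nat → Nat) := lookG eCo0_ch (nat_lit 7) (nat_lit 127) (nat_lit 23) (nat_lit 8388607) x
noncomputable def eCo0_pc (_ j : Nat) : Bx Nat := eCo0_p.get j
noncomputable def eCo0_pb : Bx (Nat → Nat) := lookG eCo0_pc (nat_lit 7) (nat_lit 127) (nat_lit 19) (nat_lit 524287) (nat_lit 0)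
noncomputable def eCo0_rots : BT CW := (BT.node (nat_lit 59) (BT.node (nat_lit 29) (BT.node (nat_lit 14) (BT.node (nat_lit 7) (BT.node (nat_lit 3) (BT.node (nat_lit 1) (BT.leaf ⟨[], (nat_lit 1000000), (nat_lit 0), (nat_lit 0), (nat_lit 0)⟩) (BT.node (nat_lit 2) (BT.leaf ⟨[], (nat_lit 1000000), (nat_lit 0), (nat_lit 0), (nat_lit 1)⟩) (BT.leaf ⟨[], (nat_lit 1000000), (nat_lit 0), (nat_lit 0), (nat_lit 2)⟩))) (BT.node (nat_lit 5) (BT.node (nat_lit 4) (BT.leaf ⟨[(nat_lit 3), (nat_lit 2)], (nat_lit 145), (nat_lit 1), (nat_lit 0), (nat_lit 3)⟩) (BT.leaf ⟨[(nat_lit 6), (nat_lit 5)], (nat_lit 143), (nat_lit 1), (nat_lit 0), (nat_lit 3)⟩)) (BT.node (nat_lit 6) (BT.leaf ⟨[(nat_lit 10), (nat_lit 10)], (nat_lit 121), (nat_lit 0), (nat_lit 0), (nat_lit 3)⟩) (BT.leaf ⟨[(nat_lit 1), (nat_lit 10), (nat_lit 1), (nat_lit 10)], (nat_lit 129), (nat_lit 1), (nat_lit 0), (nat_lit 4)⟩)))) (BT.node (nat_lit 10) (BT.node (nat_lit 8) (BT.leaf ⟨[(nat_lit 2), (nat_lit 10), (nat_lit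 3), (nat_lit 10)], (nat_lit 130), (nat_lit 1), (nat_lit 0), (nat_lit 4)⟩) (BT.node (nat_lit 9) (BT.leaf ⟨[(nat_lit 3), (nat_lit 2)], (nat_lit 145), (nat_lit 1), (nat_lit 0), (nat_lit 4)⟩) (BT.leaf ⟨[(nat_lit 7), (nat_lit 10), (nat_lit 7), (nat_lit 10)], (nat_lit 131), (nat_lit 1), (nat_lit 0), (nat_lit 4)⟩))) (BT.node (nat_lit 12) (BT.node (nat_lit 11) (BT.leaf ⟨[(nat_lit 9), (nat_lit 10), (nat_lit 9), (nat_lit 7), (nat_lit 10)], (nat_lit 128), (nat_lit 1), (nat_lit 0), (nat_lit 4)⟩) (BT.leaf ⟨[(nat_lit 4), (nat_lit 10), (nat_lit 4), (nat_lit 7), (nat_lit 10)], (nat_lit 132), (nat_lit 1), (nat_lit 0), (nat_lit 4)⟩)) (BT.node (nat_lit 13) (BT.leaf ⟨[(nat_lit 8), (nat_lit 7), (nat_lit 1), (nat_lit 4), (nat_lit 1), (nat_lit 4)], (nat_lit 20), (nat_lit 4), (nat_lit 0), (nat_lit 4)⟩) (BT.leaf ⟨[(nat_lit 6), (nat_lit 5)], (nat_lit 143), (nat_lit 1), (nat_lit 0), (nat_lit 4)⟩))))) (BT.node (nat_lit 21) (BT.node (nat_lit 17) (BT.node (nat_lit 15) (BT.leaf ⟨[(nat_lit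 1), (nat_lit 6), (nat_lit 1), (nat_lit 5)], (nat_lit 9), (nat_lit 2), (nat_lit 0), (nat_lit 4)⟩) (BT.node (nat_lit 16) (BT.leaf ⟨[(nat_lit 7), (nat_lit 6), (nat_lit 8), (nat_lit 5)], (nat_lit 13), (nat_lit 1), (nat_lit 0), (nat_lit 4)⟩) (BT.leaf ⟨[(nat_lit 9), (nat_lit 6), (nat_lit 9), (nat_lit 5)], (nat_lit 125), (nat_lit 2), (nat_lit 0), (nat_lit 4)⟩))) (BT.node (nat_lit 19) (BT.node (nat_lit 18) (BT.leaf ⟨[(nat_lit 8), (nat_lit 6), (nat_lit 7), (nat_lit 5), (nat_lit 7)], (nat_lit 17), (nat_lit 2), (nat_lit 0), (nat_lit 4)⟩) (BT.leaf ⟨[(nat_lit 4), (nat_lit 6), (nat_lit 3), (nat_lit 8), (nat_lit 2), (nat_lit 5)], (nat_lit 22), (nat_lit 2), (nat_lit 0), (nat_lit 4)⟩)) (BT.node (nat_lit 20) (BT.leaf ⟨[(nat_lit 5), (nat_lit 6)], (nat_lit 143), (nat_lit 0), (nat_lit 0), (nat_lit 4)⟩) (BT.leaf ⟨[(nat_lit 6), (nat_lit 6), (nat_lit 6)], (nat_lit 152), (nat_lit 0), (nat_lit 0), (nat_lit 4)⟩)))) (BT.node (nat_lit 25) (BT.node (nat_lit 23) (BT.node (nat_lit 22)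 (BT.leaf ⟨[(nat_lit 1), (nat_lit 5), (nat_lit 1), (nat_lit 6)], (nat_lit 9), (nat_lit 0), (nat_lit 0), (nat_lit 4)⟩) (BT.leaf ⟨[(nat_lit 8), (nat_lit 5), (nat_lit 7), (nat_lit 6)], (nat_lit 13), (nat_lit 3), (nat_lit 0), (nat_lit 4)⟩)) (BT.node (nat_lit 24) (BT.leaf ⟨[(nat_lit 10), (nat_lit 6), (nat_lit 10), (nat_lit 6), (nat_lit 10), (nat_lit 1), (nat_lit 6)], (nat_lit 280), (nat_lit 2), (nat_lit 0), (nat_lit 4)⟩) (BT.leaf ⟨[(nat_lit 10), (nat_lit 10)], (nat_lit 121), (nat_lit 0), (nat_lit 0), (nat_lit 4)⟩))) (BT.node (nat_lit 27) (BT.node (nat_lit 26) (BT.leaf ⟨[(nat_lit 4), (nat_lit 7), (nat_lit 10), (nat_lit 4), (nat_lit 10)], (nat_lit 132), (nat_lit 3), (nat_lit 0), (nat_lit 4)⟩) (BT.leaf ⟨[(nat_lit 7), (nat_lit 3), (nat_lit 7), (nat_lit 2)], (nat_lit 11), (nat_lit 1), (nat_lit 0), (nat_lit 4)⟩)) (BT.node (nat_lit 28) (BT.leaf ⟨[(nat_lit 9), (nat_lit 3), (nat_lit 9), (nat_lit 2)], (nat_lit 123), (nat_lit 2), (nat_lit 0), (nat_lit 4)⟩) (BT.leaf ⟨[(nat_lit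 8), (nat_lit 3), (nat_lit 5), (nat_lit 4), (nat_lit 7), (nat_lit 6), (nat_lit 2)], (nat_lit 27), (nat_lit 1), (nat_lit 0), (nat_lit 4)⟩)))))) (BT.node (nat_lit 44) (BT.node (nat_lit 36) (BT.node (nat_lit 32) (BT.node (nat_lit 30) (BT.leaf ⟨[(nat_lit 2), (nat_lit 3)], (nat_lit 145), (nat_lit 0), (nat_lit 0), (nat_lit 4)⟩) (BT.node (nat_lit 31) (BT.leaf ⟨[(nat_lit 3), (nat_lit 3), (nat_lit 3)], (nat_lit 151), (nat_lit 0), (nat_lit 0), (nat_lit 4)⟩) (BT.leaf ⟨[(nat_lit 4), (nat_lit 3), (nat_lit 4), (nat_lit 3)], (nat_lit 155), (nat_lit 0), (nat_lit 0), (nat_lit 4)⟩))) (BT.node (nat_lit 34) (BT.node (nat_lit 33) (BT.leaf ⟨[(nat_lit 4), (nat_lit 4)], (nat_lit 1), (nat_lit 0), (nat_lit 0), (nat_lit 4)⟩) (BT.leaf ⟨[(nat_lit 7), (nat_lit 2), (nat_lit 7), (nat_lit 3)], (nat_lit 11), (nat_lit 3), (nat_lit 0), (nat_lit 4)⟩)) (BT.node (nat_lit 35) (BT.leaf ⟨[(nat_lit 8), (nat_lit 4), (nat_lit 8), (nat_lit 4)], (nat_lit 15), (nat_lit 1), (nat_lit 0), (nat_lit 4)⟩)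 (BT.leaf ⟨[(nat_lit 10), (nat_lit 3), (nat_lit 10), (nat_lit 2)], (nat_lit 130), (nat_lit 2), (nat_lit 0), (nat_lit 4)⟩)))) (BT.node (nat_lit 40) (BT.node (nat_lit 38) (BT.node (nat_lit 37) (BT.leaf ⟨[(nat_lit 1), (nat_lit 3), (nat_lit 6), (nat_lit 2), (nat_lit 1), (nat_lit 3), (nat_lit 6), (nat_lit 2)], (nat_lit 180), (nat_lit 3), (nat_lit 0), (nat_lit 4)⟩) (BT.leaf ⟨[(nat_lit 1), (nat_lit 1)], (nat_lit 0), (nat_lit 0), (nat_lit 0), (nat_lit 4)⟩)) (BT.node (nat_lit 39) (BT.leaf ⟨[(nat_lit 10), (nat_lit 2), (nat_lit 10), (nat_lit 3)], (nat_lit 130), (nat_lit 0), (nat_lit 0), (nat_lit 4)⟩) (BT.leaf ⟨[(nat_lit 1), (nat_lit 3), (nat_lit 1), (nat_lit 3), (nat_lit 1), (nat_lit 3)], (nat_lit 166), (nat_lit 1), (nat_lit 0), (nat_lit 4)⟩))) (BT.node (nat_lit 42) (BT.node (nat_lit 41) (BT.leaf ⟨[(nat_lit 9), (nat_lit 5), (nat_lit 9), (nat_lit 6)], (nat_lit 125), (nat_lit 0), (nat_lit 0), (nat_lit 4)⟩) (BT.leaf ⟨[(nat_lit 8), (nat_lit 1), (nat_lit 8), (nat_lit 1)],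 (nat_lit 14), (nat_lit 1), (nat_lit 0), (nat_lit 4)⟩)) (BT.node (nat_lit 43) (BT.leaf ⟨[(nat_lit 4), (nat_lit 5), (nat_lit 4), (nat_lit 1), (nat_lit 2), (nat_lit 8), (nat_lit 3), (nat_lit 6)], (nat_lit 32), (nat_lit 5), (nat_lit 0), (nat_lit 4)⟩) (BT.leaf ⟨[(nat_lit 4), (nat_lit 8), (nat_lit 7), (nat_lit 1), (nat_lit 4), (nat_lit 1)], (nat_lit 20), (nat_lit 3), (nat_lit 0), (nat_lit 4)⟩))))) (BT.node (nat_lit 51) (BT.node (nat_lit 47) (BT.node (nat_lit 45) (BT.leaf ⟨[(nat_lit 9), (nat_lit 2), (nat_lit 9), (nat_lit 3)], (nat_lit 123), (nat_lit 0), (nat_lit 0), (nat_lit 4)⟩) (BT.node (nat_lit 46) (BT.leaf ⟨[(nat_lit 1), (nat_lit 2), (nat_lit 6), (nat_lit 3), (nat_lit 1), (nat_lit 2), (nat_lit 6), (nat_lit 3)], (nat_lit 178), (nat_lit 3), (nat_lit 0), (nat_lit 4)⟩) (BT.leaf ⟨[(nat_lit 6), (nat_lit 10), (nat_lit 6), (nat_lit 10), (nat_lit 1), (nat_lit 6), (nat_lit 10)], (nat_lit 280), (nat_lit 3), (nat_lit 0), (nat_lit 4)⟩))) (BT.node (nat_lit 49) (BT.node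 (nat_lit 48) (BT.leaf ⟨[(nat_lit 8), (nat_lit 8)], (nat_lit 3), (nat_lit 0), (nat_lit 0), (nat_lit 4)⟩) (BT.leaf ⟨[(nat_lit 8), (nat_lit 2), (nat_lit 5), (nat_lit 4), (nat_lit 6), (nat_lit 3)], (nat_lit 22), (nat_lit 5), (nat_lit 0), (nat_lit 4)⟩)) (BT.node (nat_lit 50) (BT.leaf ⟨[(nat_lit 1), (nat_lit 2), (nat_lit 1), (nat_lit 2), (nat_lit 1), (nat_lit 2)], (nat_lit 19), (nat_lit 0), (nat_lit 0), (nat_lit 4)⟩) (BT.leaf ⟨[(nat_lit 4), (nat_lit 2), (nat_lit 4), (nat_lit 2)], (nat_lit 8), (nat_lit 1), (nat_lit 0), (nat_lit 4)⟩)))) (BT.node (nat_lit 55) (BT.node (nat_lit 53) (BT.node (nat_lit 52) (BT.leaf ⟨[(nat_lit 5), (nat_lit 1), (nat_lit 6), (nat_lit 1)], (nat_lit 9), (nat_lit 1), (nat_lit 0), (nat_lit 4)⟩) (BT.leaf ⟨[(nat_lit 1), (nat_lit 8), (nat_lit 1), (nat_lit 8)], (nat_lit 14), (nat_lit 0), (nat_lit 0), (nat_lit 4)⟩)) (BT.node (nat_lit 54) (BT.leaf ⟨[(nat_lit 3), (nat_lit 10), (nat_lit 2), (nat_lit 10)], (nat_lit 130), (nat_lit 3), (nat_lit 0),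 (nat_lit 4)⟩) (BT.leaf ⟨[(nat_lit 7), (nat_lit 7)], (nat_lit 2), (nat_lit 0), (nat_lit 0), (nat_lit 4)⟩))) (BT.node (nat_lit 57) (BT.node (nat_lit 56) (BT.leaf ⟨[(nat_lit 4), (nat_lit 7), (nat_lit 4), (nat_lit 7)], (nat_lit 12), (nat_lit 0), (nat_lit 0), (nat_lit 4)⟩) (BT.leaf ⟨[(nat_lit 8), (nat_lit 3), (nat_lit 6), (nat_lit 4), (nat_lit 5), (nat_lit 4), (nat_lit 1), (nat_lit 2)], (nat_lit 32), (nat_lit 2), (nat_lit 0), (nat_lit 4)⟩)) (BT.node (nat_lit 58) (BT.leaf ⟨[(nat_lit 4), (nat_lit 6), (nat_lit 2), (nat_lit 7), (nat_lit 8), (nat_lit 3), (nat_lit 5), (nat_lit 8)], (nat_lit 34), (nat_lit 6), (nat_lit 0), (nat_lit 4)⟩) (BT.leaf ⟨[(nat_lit 3), (nat_lit 5), (nat_lit 10), (nat_lit 6), (nat_lit 8), (nat_lit 3), (nat_lit 1), (nat_lit 4), (nat_lit 1), (nat_lit 5), (nat_lit 10), (nat_lit 6), (nat_lit 2), (nat_lit 5), (nat_lit 10), (nat_lit 6), (nat_lit 3), (nat_lit 5), (nat_lit 10), (nat_lit 6), (nat_lit 4), (nat_lit 5), (nat_lit 10), (nat_lit 6), (nat_lit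 2), (nat_lit 5), (nat_lit 10), (nat_lit 6)], (nat_lit 137), (nat_lit 19), (nat_lit 0), (nat_lit 4)⟩))))))) (BT.node (nat_lit 89) (BT.node (nat_lit 74) (BT.node (nat_lit 66) (BT.node (nat_lit 62) (BT.node (nat_lit 60) (BT.leaf ⟨[(nat_lit 4), (nat_lit 1), (nat_lit 4), (nat_lit 8), (nat_lit 7), (nat_lit 1)], (nat_lit 20), (nat_lit 1), (nat_lit 0), (nat_lit 4)⟩) (BT.node (nat_lit 61) (BT.leaf ⟨[(nat_lit 10), (nat_lit 4), (nat_lit 7), (nat_lit 10), (nat_lit 4)], (nat_lit 132), (nat_lit 2), (nat_lit 0), (nat_lit 4)⟩) (BT.leaf ⟨[(nat_lit 1), (nat_lit 3), (nat_lit 5), (nat_lit 2), (nat_lit 1), (nat_lit 3), (nat_lit 5), (nat_lit 2)], (nat_lit 33), (nat_lit 0), (nat_lit 0), (nat_lit 4)⟩))) (BT.node (nat_lit 64) (BT.node (nat_lit 63) (BT.leaf ⟨[(nat_lit 8), (nat_lit 2), (nat_lit 8), (nat_lit 2), (nat_lit 8), (nat_lit 2)], (nat_lit 23), (nat_lit 1), (nat_lit 0), (nat_lit 4)⟩) (BT.leaf ⟨[(nat_lit 9), (nat_lit 9)], (nat_lit 120), (nat_lit 0), (nat_lit 0), (nat_lit 4)⟩))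 (BT.node (nat_lit 65) (BT.leaf ⟨[(nat_lit 1), (nat_lit 4), (nat_lit 7), (nat_lit 8), (nat_lit 1), (nat_lit 4)], (nat_lit 21), (nat_lit 2), (nat_lit 0), (nat_lit 4)⟩) (BT.leaf ⟨[(nat_lit 1), (nat_lit 2), (nat_lit 5), (nat_lit 3), (nat_lit 1), (nat_lit 2), (nat_lit 5), (nat_lit 3)], (nat_lit 31), (nat_lit 0), (nat_lit 0), (nat_lit 4)⟩)))) (BT.node (nat_lit 70) (BT.node (nat_lit 68) (BT.node (nat_lit 67) (BT.leaf ⟨[(nat_lit 9), (nat_lit 1), (nat_lit 9), (nat_lit 1)], (nat_lit 122), (nat_lit 0), (nat_lit 0), (nat_lit 4)⟩) (BT.leaf ⟨[(nat_lit 1), (nat_lit 7), (nat_lit 1), (nat_lit 7)], (nat_lit 10), (nat_lit 0), (nat_lit 0), (nat_lit 4)⟩)) (BT.node (nat_lit 69) (BT.leaf ⟨[(nat_lit 8), (nat_lit 7), (nat_lit 8), (nat_lit 7)], (nat_lit 16), (nat_lit 1), (nat_lit 0), (nat_lit 4)⟩) (BT.leaf ⟨[(nat_lit 9), (nat_lit 4), (nat_lit 9), (nat_lit 4)], (nat_lit 124), (nat_lit 0), (nat_lit 0), (nat_lit 4)⟩))) (BT.node (nat_lit 72) (BT.node (nat_lit 71) (BT.leaf ⟨[(nat_lit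 8), (nat_lit 1), (nat_lit 4), (nat_lit 1), (nat_lit 4), (nat_lit 7)], (nat_lit 21), (nat_lit 5), (nat_lit 0), (nat_lit 4)⟩) (BT.leaf ⟨[(nat_lit 8), (nat_lit 4), (nat_lit 1), (nat_lit 4), (nat_lit 1), (nat_lit 7)], (nat_lit 167), (nat_lit 1), (nat_lit 0), (nat_lit 4)⟩)) (BT.node (nat_lit 73) (BT.leaf ⟨[(nat_lit 6), (nat_lit 1), (nat_lit 5), (nat_lit 1)], (nat_lit 9), (nat_lit 3), (nat_lit 0), (nat_lit 4)⟩) (BT.leaf ⟨[(nat_lit 8), (nat_lit 6), (nat_lit 7), (nat_lit 8), (nat_lit 5)], (nat_lit 18), (nat_lit 1), (nat_lit 0), (nat_lit 4)⟩))))) (BT.node (nat_lit 81) (BT.node (nat_lit 77) (BT.node (nat_lit 75) (BT.leaf ⟨[(nat_lit 10), (nat_lit 5), (nat_lit 10), (nat_lit 5), (nat_lit 1), (nat_lit 10), (nat_lit 5)], (nat_lit 133), (nat_lit 2), (nat_lit 0), (nat_lit 4)⟩) (BT.node (nat_lit 76) (BT.leaf ⟨[(nat_lit 5), (nat_lit 5), (nat_lit 5)], (nat_lit 5), (nat_lit 0), (nat_lit 0), (nat_lit 4)⟩) (BT.leaf ⟨[(nat_lit 10), (nat_lit 1), (nat_lit 10), (nat_lit 1)], (nat_lit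 129), (nat_lit 0), (nat_lit 0), (nat_lit 4)⟩))) (BT.node (nat_lit 79) (BT.node (nat_lit 78) (BT.leaf ⟨[(nat_lit 3), (nat_lit 5), (nat_lit 10), (nat_lit 6), (nat_lit 2), (nat_lit 6), (nat_lit 4), (nat_lit 1), (nat_lit 3), (nat_lit 5), (nat_lit 10), (nat_lit 6), (nat_lit 2), (nat_lit 5), (nat_lit 10), (nat_lit 6), (nat_lit 3), (nat_lit 5), (nat_lit 10), (nat_lit 6), (nat_lit 5), (nat_lit 5), (nat_lit 10), (nat_lit 6), (nat_lit 2), (nat_lit 5), (nat_lit 10), (nat_lit 6)], (nat_lit 138), (nat_lit 19), (nat_lit 0), (nat_lit 4)⟩) (BT.leaf ⟨[(nat_lit 2), (nat_lit 5), (nat_lit 3), (nat_lit 5), (nat_lit 2), (nat_lit 5), (nat_lit 3), (nat_lit 6), (nat_lit 2), (nat_lit 5), (nat_lit 3), (nat_lit 5), (nat_lit 2), (nat_lit 5), (nat_lit 3), (nat_lit 6)], (nat_lit 119), (nat_lit 0), (nat_lit 0), (nat_lit 4)⟩)) (BT.node (nat_lit 80) (BT.leaf ⟨[(nat_lit 3), (nat_lit 6), (nat_lit 4), (nat_lit 8), (nat_lit 3), (nat_lit 1), (nat_lit 8), (nat_lit 2), (nat_lit 6), (nat_lit 2),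 (nat_lit 5), (nat_lit 8), (nat_lit 1), (nat_lit 6)], (nat_lit 262), (nat_lit 8), (nat_lit 0), (nat_lit 4)⟩) (BT.leaf ⟨[(nat_lit 7), (nat_lit 5), (nat_lit 7), (nat_lit 8), (nat_lit 6)], (nat_lit 17), (nat_lit 4), (nat_lit 0), (nat_lit 4)⟩)))) (BT.node (nat_lit 85) (BT.node (nat_lit 83) (BT.node (nat_lit 82) (BT.leaf ⟨[(nat_lit 8), (nat_lit 3), (nat_lit 1), (nat_lit 4), (nat_lit 6), (nat_lit 4), (nat_lit 5), (nat_lit 2)], (nat_lit 179), (nat_lit 5), (nat_lit 0), (nat_lit 4)⟩) (BT.leaf ⟨[(nat_lit 8), (nat_lit 7), (nat_lit 6), (nat_lit 7), (nat_lit 5)], (nat_lit 164), (nat_lit 2), (nat_lit 0), (nat_lit 4)⟩)) (BT.node (nat_lit 84) (BT.leaf ⟨[(nat_lit 2), (nat_lit 5), (nat_lit 3), (nat_lit 6), (nat_lit 2), (nat_lit 6), (nat_lit 3), (nat_lit 6), (nat_lit 2), (nat_lit 5), (nat_lit 3), (nat_lit 6), (nat_lit 2), (nat_lit 6), (nat_lit 3), (nat_lit 6)], (nat_lit 263), (nat_lit 1), (nat_lit 0), (nat_lit 4)⟩) (BT.leaf ⟨[(nat_lit 2), (nat_lit 6), (nat_lit 3), (nat_lit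 6), (nat_lit 4), (nat_lit 5), (nat_lit 8), (nat_lit 3), (nat_lit 6), (nat_lit 2), (nat_lit 5), (nat_lit 3), (nat_lit 1), (nat_lit 4), (nat_lit 3), (nat_lit 5)], (nat_lit 265), (nat_lit 3), (nat_lit 0), (nat_lit 4)⟩))) (BT.node (nat_lit 87) (BT.node (nat_lit 86) (BT.leaf ⟨[(nat_lit 2), (nat_lit 4), (nat_lit 2), (nat_lit 4)], (nat_lit 8), (nat_lit 0), (nat_lit 0), (nat_lit 4)⟩) (BT.leaf ⟨[(nat_lit 2), (nat_lit 2), (nat_lit 2)], (nat_lit 4), (nat_lit 0), (nat_lit 0), (nat_lit 4)⟩)) (BT.node (nat_lit 88) (BT.leaf ⟨[(nat_lit 3), (nat_lit 1), (nat_lit 2), (nat_lit 6), (nat_lit 3), (nat_lit 1), (nat_lit 2), (nat_lit 6)], (nat_lit 178), (nat_lit 2), (nat_lit 0), (nat_lit 4)⟩) (BT.leaf ⟨[(nat_lit 3), (nat_lit 4), (nat_lit 3), (nat_lit 4)], (nat_lit 155), (nat_lit 1), (nat_lit 0), (nat_lit 4)⟩)))))) (BT.node (nat_lit 104) (BT.node (nat_lit 96) (BT.node (nat_lit 92) (BT.node (nat_lit 90) (BT.leaf ⟨[(nat_lit 3), (nat_lit 6), (nat_lit 7), (nat_lit 5), (nat_lit 2),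 (nat_lit 7), (nat_lit 5), (nat_lit 4), (nat_lit 6)], (nat_lit 213), (nat_lit 8), (nat_lit 0), (nat_lit 4)⟩) (BT.node (nat_lit 91) (BT.leaf ⟨[(nat_lit 2), (nat_lit 5), (nat_lit 8), (nat_lit 6), (nat_lit 3), (nat_lit 5), (nat_lit 4), (nat_lit 8), (nat_lit 6)], (nat_lit 64), (nat_lit 0), (nat_lit 0), (nat_lit 4)⟩) (BT.leaf ⟨[(nat_lit 4), (nat_lit 8), (nat_lit 4), (nat_lit 8)], (nat_lit 15), (nat_lit 0), (nat_lit 0), (nat_lit 4)⟩))) (BT.node (nat_lit 94) (BT.node (nat_lit 93) (BT.leaf ⟨[(nat_lit 3), (nat_lit 9), (nat_lit 2), (nat_lit 9)], (nat_lit 123), (nat_lit 3), (nat_lit 0), (nat_lit 4)⟩) (BT.leaf ⟨[(nat_lit 2), (nat_lit 8), (nat_lit 3), (nat_lit 5), (nat_lit 4), (nat_lit 7), (nat_lit 6)], (nat_lit 27), (nat_lit 0), (nat_lit 0), (nat_lit 4)⟩)) (BT.node (nat_lit 95) (BT.leaf ⟨[(nat_lit 3), (nat_lit 4), (nat_lit 8), (nat_lit 3), (nat_lit 6), (nat_lit 4), (nat_lit 1), (nat_lit 7), (nat_lit 5)], (nat_lit 193), (nat_lit 2), (nat_lit 0), (nat_lit 4)⟩) (BT.leaf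 ⟨[(nat_lit 3), (nat_lit 6), (nat_lit 7), (nat_lit 5), (nat_lit 4), (nat_lit 8), (nat_lit 3), (nat_lit 7), (nat_lit 4)], (nat_lit 216), (nat_lit 8), (nat_lit 0), (nat_lit 4)⟩)))) (BT.node (nat_lit 100) (BT.node (nat_lit 98) (BT.node (nat_lit 97) (BT.leaf ⟨[(nat_lit 2), (nat_lit 1), (nat_lit 3), (nat_lit 5), (nat_lit 2), (nat_lit 1), (nat_lit 3), (nat_lit 5)], (nat_lit 33), (nat_lit 3), (nat_lit 0), (nat_lit 4)⟩) (BT.leaf ⟨[(nat_lit 10), (nat_lit 9), (nat_lit 10), (nat_lit 9), (nat_lit 7)], (nat_lit 128), (nat_lit 0), (nat_lit 0), (nat_lit 4)⟩)) (BT.node (nat_lit 99) (BT.leaf ⟨[(nat_lit 4), (nat_lit 5), (nat_lit 2), (nat_lit 8), (nat_lit 3), (nat_lit 1), (nat_lit 4), (nat_lit 6)], (nat_lit 179), (nat_lit 2), (nat_lit 0), (nat_lit 4)⟩) (BT.leaf ⟨[(nat_lit 3), (nat_lit 7), (nat_lit 2), (nat_lit 7)], (nat_lit 11), (nat_lit 2), (nat_lit 0), (nat_lit 4)⟩))) (BT.node (nat_lit 102) (BT.node (nat_lit 101) (BT.leaf ⟨[(nat_lit 2), (nat_lit 5), (nat_lit 3), (nat_lit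 8), (nat_lit 7), (nat_lit 1), (nat_lit 2), (nat_lit 5), (nat_lit 2), (nat_lit 6), (nat_lit 4), (nat_lit 5)], (nat_lit 107), (nat_lit 7), (nat_lit 0), (nat_lit 4)⟩) (BT.leaf ⟨[(nat_lit 10), (nat_lit 7), (nat_lit 10), (nat_lit 7)], (nat_lit 131), (nat_lit 0), (nat_lit 0), (nat_lit 4)⟩)) (BT.node (nat_lit 103) (BT.leaf ⟨[(nat_lit 2), (nat_lit 5), (nat_lit 4), (nat_lit 6), (nat_lit 3), (nat_lit 8)], (nat_lit 22), (nat_lit 0), (nat_lit 0), (nat_lit 4)⟩) (BT.leaf ⟨[(nat_lit 4), (nat_lit 9), (nat_lit 4), (nat_lit 9)], (nat_lit 124), (nat_lit 1), (nat_lit 0), (nat_lit 4)⟩))))) (BT.node (nat_lit 111) (BT.node (nat_lit 107) (BT.node (nat_lit 105) (BT.leaf ⟨[(nat_lit 3), (nat_lit 1), (nat_lit 3), (nat_lit 1), (nat_lit 3), (nat_lit 1)], (nat_lit 166), (nat_lit 0), (nat_lit 0), (nat_lit 4)⟩) (BT.node (nat_lit 106) (BT.leaf ⟨[(nat_lit 2), (nat_lit 7), (nat_lit 3), (nat_lit 7)], (nat_lit 11), (nat_lit 0), (nat_lit 0), (nat_lit 4)⟩) (BT.leaf ⟨[(nat_lit 3), (nat_lit 8),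 (nat_lit 2), (nat_lit 5), (nat_lit 4), (nat_lit 6)], (nat_lit 22), (nat_lit 4), (nat_lit 0), (nat_lit 4)⟩))) (BT.node (nat_lit 109) (BT.node (nat_lit 108) (BT.leaf ⟨[(nat_lit 5), (nat_lit 3), (nat_lit 6), (nat_lit 2), (nat_lit 6), (nat_lit 3), (nat_lit 6), (nat_lit 2), (nat_lit 5), (nat_lit 3), (nat_lit 6), (nat_lit 2), (nat_lit 6), (nat_lit 3), (nat_lit 6), (nat_lit 2)], (nat_lit 263), (nat_lit 2), (nat_lit 0), (nat_lit 4)⟩) (BT.leaf ⟨[(nat_lit 6), (nat_lit 2), (nat_lit 5), (nat_lit 3), (nat_lit 5), (nat_lit 2), (nat_lit 5), (nat_lit 3), (nat_lit 6), (nat_lit 2), (nat_lit 5), (nat_lit 3), (nat_lit 5), (nat_lit 2), (nat_lit 5), (nat_lit 3)], (nat_lit 119), (nat_lit 7), (nat_lit 0), (nat_lit 4)⟩)) (BT.node (nat_lit 110) (BT.leaf ⟨[(nat_lit 6), (nat_lit 3), (nat_lit 1), (nat_lit 2), (nat_lit 4), (nat_lit 6), (nat_lit 3), (nat_lit 1), (nat_lit 8), (nat_lit 2)], (nat_lit 74), (nat_lit 8), (nat_lit 0), (nat_lit 4)⟩) (BT.leaf ⟨[(nat_lit 5), (nat_lit 8), (nat_lit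 6), (nat_lit 8), (nat_lit 7)], (nat_lit 165), (nat_lit 2), (nat_lit 0), (nat_lit 4)⟩)))) (BT.node (nat_lit 115) (BT.node (nat_lit 113) (BT.node (nat_lit 112) (BT.leaf ⟨[(nat_lit 5), (nat_lit 3), (nat_lit 4), (nat_lit 7), (nat_lit 3), (nat_lit 6), (nat_lit 2), (nat_lit 8), (nat_lit 3)], (nat_lit 207), (nat_lit 7), (nat_lit 0), (nat_lit 4)⟩) (BT.leaf ⟨[(nat_lit 5), (nat_lit 4), (nat_lit 6), (nat_lit 3), (nat_lit 8), (nat_lit 2)], (nat_lit 22), (nat_lit 1), (nat_lit 0), (nat_lit 4)⟩)) (BT.node (nat_lit 114) (BT.leaf ⟨[(nat_lit 5), (nat_lit 7), (nat_lit 6), (nat_lit 8)], (nat_lit 13), (nat_lit 0), (nat_lit 0), (nat_lit 4)⟩) (BT.leaf ⟨[(nat_lit 6), (nat_lit 7), (nat_lit 4), (nat_lit 1), (nat_lit 5), (nat_lit 2), (nat_lit 4), (nat_lit 5), (nat_lit 4), (nat_lit 6), (nat_lit 2)], (nat_lit 246), (nat_lit 7), (nat_lit 0), (nat_lit 4)⟩))) (BT.node (nat_lit 117) (BT.node (nat_lit 116) (BT.leaf ⟨[(nat_lit 6), (nat_lit 7), (nat_lit 5), (nat_lit 7), (nat_lit 8)], (nat_lit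 17), (nat_lit 3), (nat_lit 0), (nat_lit 4)⟩) (BT.leaf ⟨[(nat_lit 6), (nat_lit 7), (nat_lit 8), (nat_lit 5), (nat_lit 8)], (nat_lit 18), (nat_lit 2), (nat_lit 0), (nat_lit 4)⟩)) (BT.node (nat_lit 118) (BT.leaf ⟨[(nat_lit 8), (nat_lit 2), (nat_lit 1), (nat_lit 3), (nat_lit 7), (nat_lit 8), (nat_lit 2), (nat_lit 1), (nat_lit 3)], (nat_lit 44), (nat_lit 7), (nat_lit 0), (nat_lit 4)⟩) (BT.leaf ⟨[(nat_lit 0), (nat_lit 6), (nat_lit 2), (nat_lit 5), (nat_lit 10), (nat_lit 6), (nat_lit 3), (nat_lit 5), (nat_lit 10), (nat_lit 6), (nat_lit 1), (nat_lit 5), (nat_lit 10), (nat_lit 6), (nat_lit 2), (nat_lit 5), (nat_lit 10), (nat_lit 6), (nat_lit 3), (nat_lit 5), (nat_lit 10), (nat_lit 6), (nat_lit 7), (nat_lit 2), (nat_lit 1), (nat_lit 3), (nat_lit 5), (nat_lit 10)], (nat_lit 135), (nat_lit 2), (nat_lit 1), (nat_lit 4)⟩))))))))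
noncomputable def eCo0_hcs : List CW := [⟨[(nat_lit 1)], (nat_lit 0), (nat_lit 0), (nat_lit 0), (nat_lit 0)⟩, ⟨[(nat_lit 2)], (nat_lit 1), (nat_lit 0), (nat_lit 0), (nat_lit 0)⟩, ⟨[(nat_lit 4)], (nat_lit 2), (nat_lit 0), (nat_lit 0), (nat_lit 0)⟩, ⟨[(nat_lit 5)], (nat_lit 3), (nat_lit 0), (nat_lit 0), (nat_lit 0)⟩, ⟨[(nat_lit 7)], (nat_lit 4), (nat_lit 0), (nat_lit 0), (nat_lit 0)⟩, ⟨[(nat_lit 8)], (nat_lit 5), (nat_lit 0), (nat_lit 0), (nat_lit 0)⟩, ⟨[(nat_lit 9)], (nat_lit 6), (nat_lit 0), (nat_lit 0), (nat_lit 0)⟩, ⟨[(nat_lit 1)], (nat_lit 7), (nat_lit 0), (nat_lit 0), (nat_lit 0)⟩, ⟨[(nat_lit 3)], (nat_lit 8), (nat_lit 0), (nat_lit 0), (nat_lit 0)⟩, ⟨[(nat_lit 4)], (nat_lit 9), (nat_lit 0), (nat_lit 0), (nat_lit 0)⟩, ⟨[(nat_lit 6)], (nat_lit 10), (nat_lit 0), (nat_lit 0), (nat_lit 0)⟩, ⟨[(nat_lit 7)], (nat_lit 11), (nat_lit 0), (nat_lit 0), (nat_lit 0)⟩, ⟨[(nat_lit 8)], (nat_lit 12), (nat_lit 0), (nat_lit 0), (nat_lit 0)⟩, ⟨[(nat_lit 9)], (nat_lit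 13), (nat_lit 0), (nat_lit 0), (nat_lit 0)⟩]
noncomputable def eCo0_H (x j : Nat) : Bx (Nat → Nat → Nat) := mkH eCo0_L eCo0_pb.1 eCo0_e.get (lmap CW.w eCo0_hcs) (nat_lit 1) (nat_lit 2) (nat_lit 11) (nat_lit 512) (nat_lit 65536) (nat_lit 32767) x (eCo0_rots.get j)
noncomputable def eCo0_F (x b : Nat) : Bool := blkOK eCo0_H eCo0_ch (nat_lit 2) (nat_lit 512) (nat_lit 128) (nat_lit 7) (nat_lit 127) (nat_lit 23) (nat_lit 8388607) x b

theorem eCo0_k0_0 : allFrom (eCo0_F (nat_lit 0)) (nat_lit 0) (nat_lit 8) = true := by decide +kernel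
theorem eCo0_k1_0 : allFrom (eCo0_F (nat_lit 1)) (nat_lit 0) (nat_lit 8) = true := by decide +kernel
theorem eCo0_k2_0 : allFrom (eCo0_F (nat_lit 2)) (nat_lit 0) (nat_lit 8) = true := by decide +kernel
theorem eCo0_k3_0 : allFrom (eCo0_F (nat_lit 3)) (nat_lit 0) (nat_lit 8) = true := by decide +kernel
theorem eCo0_k4_0 : allFrom (eCo0_F (nat_lit 4)) (nat_lit 0) (nat_lit 8) = true := by decide +kernel
theorem eCo0_k5_0 : allFrom (eCo0_F (nat_lit 5)) (nat_lit 0) (nat_lit 8) = true := by decide +kernel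
theorem eCo0_k6_0 : allFrom (eCo0_F (nat_lit 6)) (nat_lit 0) (nat_lit 8) = true := by decide +kernel
theorem eCo0_k7_0 : allFrom (eCo0_F (nat_lit 7)) (nat_lit 0) (nat_lit 8) = true := by decide +kernel
theorem eCo0_k8_0 : allFrom (eCo0_F (nat_lit 8)) (nat_lit 0) (nat_lit 8) = true := by decide +kernel
theorem eCo0_k9_0 : allFrom (eCo0_F (nat_lit 9)) (nat_lit 0) (nat_lit 8) = true := by decide +kernel
theorem eCo0_k10_0 : allFrom (eCo0_F (nat_lit 10)) (nat_lit 0) (nat_lit 8) = true := by decide +kernel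

noncomputable def eCo1_c0 : BT (Bx Nat) := (BT.node (nat_lit 2) (BT.node (nat_lit 1) (BT.leaf (Bx.mk (nat_lit 0xc06390000000000000000000000000000000000098326800000000000000000000000000000000000000000000000000000000000000000000000000000000000000000000000000000004818e40000000000000000000000000000000000000000000000000000000000000000000004831500000000000000000000000000000000000000000000000000000000000000000000000000000000020184400000000000240c4200000000000000000000000000000000000000000000000000000000000000000000000000000000000000000000000000000000000000000001818443030491060e0000000000000000000000000000000000020302900607060c0a0c181418301800000040c0404180400000000000))) (BT.leaf (Bx.mk (nat_lit 0x160da20000000000000000000000000000000000000000000000381b440000000000000000000000000000000000000000000000000000000000000000000000000000000000000000000000000000000000000000000783688000001e0d9e401b3800000000000000000000000000000000000000000000005031c8000000000000000000000000000000000000000000000000000000000501abca03571306ad0000000000009035400000000000000000000000130667240ccc0000000000000000000000000000000000000000000000000000000000000000000000000000000000000000000000000000000000000000000000000000000000000000004c1a1088341910682000000000000000000000000000004c19ec9033d00000000000000000000000120675000000000000000000000000000000000000000000000000000000000000000000000000000000000000000000001e0cbe3818a800000000000))))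 (BT.node (nat_lit 3) (BT.leaf (Bx.mk (nat_lit 0xe0c2200000000000050605000000000000000000a06d10000000000000000007061200000000000000000000000000000301da46837d800000180cc0000000603688c06fb000000301bec00000000000000000541d20983a3930746280e8a000000903a18000000000004c1cfc8839e9406df240dbc481b749836e1106db240e1000000000000000000000000000000000000000000000000000000000000000000000000000000000000000140da200000000000000000000000441b788036e800000000000000000000000000000000000000000000012070a0000000000009038380000000000000000000000000000280dfa0000009037d9306fa000000441be0000000000000000000000009837a000000220de40000000000000000000000000000000000000000000000000000000000000000000000000000000000000000000000000000000000000000000000000000001106da0000000000000000000000000000000000000000000000))) (BT.leaf (Bx.mk (nat_lit 0x5bc6ac903d51207a9220f4c441e94000001107a21e0eda541dc00000011076e220eda401e98000000000000000001c184800000000000000000341da0683b4800000000000381d98000000c06fb220efe3c1db800000000000200f10441e1c00000000000000000000000a83c1800000220f02441e00803bf800000000000401df00000011077800000000000000000000000000000000000000000d0774120c7200000000000000000000000000000683688e076e)))))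
noncomputable def eCo1_c1 : BT (Bx Nat) := (BT.node (nat_lit 2) (BT.node (nat_lit 1) (BT.leaf (Bx.mk (nat_lit 0x76991ec222d4000003b4c8c5d1170b22305e16353c1e69781cd0ae22854a656bc0e655b1146ad32c1ba64f8000006e993af1f171ba64db74ca97cf8be000000000003b4c7756995cb53281da63a0000006e9958000001ba655374c9a7a98d6dd329dba64e3b4c6e621c76c4b0e988f1c800000623ca0e0b0f188721312c41623c8000000000000304c57721c90e4b11dc8f233a0e2b745854e878a5d1617b84c4f70989ce13135d07193a2c31743c60c13154000000000007c1c70f8b0ddf0f1b0000006098b6c131698262cbd4c3f7a987cf530f5f07173e2c2d7c3c58e53115ca622394c43729892f530d5ea61a3d4c33729898e5312dca6253a0e1c66d430cda88dd070cb36a1b64984cf03859da80f3c6411781c26e93085e320a394c2864984901285dca612b24c277e983400000202e093b4c1d76983efd3055da6103c2c0c783c16f8b029f0f04bb4c1076981ef53039ea606be500680940af53021fa603c12c04823c0708380a20300800000))) (BT.leaf (Bx.mk (nat_lit 0x2c4d51589aa000000000000000000743dc00000014a6990000004e9a88000001d166cab4d37529a94dc3ba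5b0776000000000000000001b26770000006a9a82000001e1667bc1ece761db0e83b8400000000000529a90000000000002b4d31000000ad34bdca678800000000000d83b54000000000006a9a56d534a9aa6948000007699caed3390000000000006a9a5a000000000002f1e885e1d0ebc3a1000000000000000000ad322d5a63d2f0eb65e5930bc7a5c000002b88c500000000000000000000000000000000000000000000006e594cdc7a95b87522c64726e1d44b1419d5323ab82c63703cc4e03985c2836376499701cbc000001b2659364cb1000000d932bc000002e6a667058e2e079c1c0737b8505d701cdae14181b26540000000000000000016c241a988c4000000000000000003c1e80781cfe000000000003c0e7c591184ba22dc000000000005c998eba0a4c000002e4cc658992ab222ec00000000000)))) (BT.node (nat_lit 3) (BT.leaf (Bx.mk (nat_lit 0x3c9b1600000000000227d6d4e9b3a000001e42b60000000000009d36b11c2b4800000000000000001544d08000000000008a267d0a6be000000000000cd3661126baa189a3000000777e50000000000005a5a18a83d60000002a1f56501e4200000140f8f800000563e2c00000158f7c294d6200000000000158783800000563e0ab43bf56967e2d1efb000000b47c4d78f808000006a3e70a87bbda969b2a0edf000000a87b754077a282cf3503de4d87b51b1673b61ee6000000000001a8f93362ccd501e6a783ce400000000000583de000000000000000000000000a87bd56076e000000583db4d87badb0f65b62cea6c1da6d8b349b0f68800000000000000000000002b0f0a000000ac7c20000000000004e9abab47c38000003a1f03000000000001d167f8000000000000000000000000000000000000000000000000000000000b13478000002c4d63000000a93490000002a4d2200000000000000000000000000000000001726a6800000)))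 (BT.leaf (Bx.mk (nat_lit 0xa07ed8000001e4d870000006936c800000234dae000000000000000001e4d8838d7246e26e9587c120518e3513729226e1687c2280f76503ee0000001026cf0000004c1ef4000000f35b5a15197409ad0000000000002a0f770000008626a5407bd9d89a6000000d03d9400000340f6a409b488995d0000001c4d660000006d36cc000002b7d85561f120000010bec00000003f0afe000001526c79f89b43f13780000000000000000000000000000000000204d8d)))))
noncomputable def eCo1_c2 : BT (Bx Nat) := (BT.node (nat_lit 2) (BT.node (nat_lit 1) (BT.leaf (Bx.mk (nat_lit 0x827a010cf0de09e3f413cfa86786d04f1ec000000000000000010cf0d209e3b00000086786704f1cc0000000000000000000000000000433c308278d80000000000000000086785b04f19c0000000000000000000000209e68433c2a8278c000000219e14800000842050000002201624402c1000000000000000004402bb0000000000022015bc402b4000001100ac2201568000008805500000018882b42101f000001100a80000000000008805330840722014a4402927e7885100a3620145000000842033100a16201410000008804fb1009ea1080b4402758804e40000022013744026b00000108404e2013344026400000110097e2012e00000086782104f09c0000000000000000000000219e0700000082788b0cf03609e0f00000086781904f06e09e1c433c0b00000104f0ca19e05413c158278570cf02609e094402268804471008822010ec4021a88042f10085220108c33c048278110cf00e09e0344020788040b08400a20300800000)))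 (BT.leaf (Bx.mk (nat_lit 0x419ef38807000000000000044037e5c79d7100df125d72000000000001100de0000002ccf4d000000000000000000000000000000000000000042106d8806e88ec4aa201b8a23d05000000000000000000000008420d090f33a201b6bf3cdf8806d600000129e96000000000000000000000000000008420c290f39a201b40000008806cc0000000000000000067623c0000000000000000000000000000000000413cc50000000000000000000000000000000000000000000000827978000000000000000000000000000000000000000000000000000000000000000827a8b0cf13609e5700000000000000000219e25c13ca90000000000000000000000086788e00000219e2300000000000000000000000433c440000010cf10e09e4d00000000000000000219e2080000086788104f24c000000000000000000000000000000000086787b04f22c00000000000827a1b0cf0ea09e43413d0786787304f20c00000000000)))) (BT.node (nat_lit 3) (BT.leaf (Bx.mk (nat_lit 0x8679f000000219e7b413d7d00000000000219e7900000000000000000219e73c13d750000010cf394000000000000000010cf37400000433cdb00000000000219e6880000086799f04f59c0000000000000000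1084319167abc403bc000000000002201dd4403b9000000000002201dbc210bd499e11100ecc000004403b2000000000000000004403af0000009743f0000000000003c22840000010d7974210af559e7d100ea5f9ea400000088074a000002201d1800000000000000002201d080000000000000000000000253cea000000000000000004210a288073c8ebc9c0000044039b407a26000000000000000000000009abb4a201cb000000616a41100e5161e8e42109688072486fc8800000000000880720d6b468000000000008355aed2bb2c0000042108c88071a84f5100000044038a0000000000000000027c91984210e00000000000000000000001084212201c3800000000001100e14000000000000000010841fc000003f3d02))) (BT.leaf (Bx.mk (nat_lit 0x6347100000000000000000000000000000000000867aba00000000000433d590000000000000000000000000000000000000000433d50000000000000000002a1177000000000000000000000000000010cf50c000000000000000000000000000000000000000104f67c000000000000000000000000000024116a867a5304f65e19e93000000867a4600000219e8f8000000000010cf45c000001f3da7867a2904f62c00000433d0900000000000000000000000000000fc45ea19e7d800000)))))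
noncomputable def eCo1_c3 : BT (Bx Nat) := (BT.node (nat_lit 2) (BT.node (nat_lit 1) (BT.leaf (Bx.mk (nat_lit 0x82260508f9f61891b800000847cf50c48d80000000000000000108f9d61891a000000847ce50c48cc000000000000000010c48c608974423e6b862460000000000004112df847ccd0c48b40000043122c00000000000000000423e5f86245400000211f2e43122900000000000220162c402c2000000c04924000004402bc00000109b0962015c4402b50000000000022015700000088055200000000000000000880547100a861360fc4029c88053501b0fe2014ac4029384d839100a3a20145b3762f000001100a1a20141c26c198804fd1009ee036194402768804e709b0580000044026c0000000000022013380000084d8271009822012e800000847c4d0c48400000000000086241e00000211f1043120e00000108f87618906800000847c350c48320891dc23e178624170448d611f0a43120a00000108f84618904c402278804491008862010f44021b88043110085620109423e0786240908f81618901c4020888040d04480a18400800000))) (BT.leaf (Bx.mk (nat_lit 0x20367d00000088070309b1f13506d44037f000001100df511f828000008025f9100de4000002bc74a00000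0000000000000000005f39ee9acce0000000000008806ea96db4a201b92312f50000000000000000000000080d9b8000002201b7426c688806d80000000000000000000000000000000000000000000000944caa201b4c26c618806ce96e3792659b00000000000000000000000000000000001044d8a11f6243125900000000000000000000000000000000002089ac423ebb8624a800000000000000000000000000000000004312500000000000000000000000000000108fab61892680000000000000000211f5443124b00000000000000000000000000001044cd211f504312460000000000000000000000000000108fa661892180000000000000000211f4a431241847d250c4900000000000000000000000021891f411318847d150c48f40000000000000000108fa161891d41130a847d050c48e400000000000)))) (BT.node (nat_lit 3) (BT.leaf (Bx.mk (nat_lit 0x847efd0c4be211fbe4312f6000000f84e08000004312f200000000000211fba4312e70000000000021897280000000000108fdb61896e8000008625b68c4e60000004312d1847ecd0c4b3c0000000000000000101b57d163844403bd000000000002201dd80000000000109b30e201dc406d55000001100ed000000000000000000000000000004403b088075c0000000000000000000000000000000000406d45498ea7100eaa13657a2c71688074c744d2e201d200000084d954000002201d1000000000000000000000000000000000000000000000000000088073e0000000000044039c00000000000000000266cd980da50000002201cb800000000001100e540000000000088072600000000000000000880722c84b2c000002db325000000d04c780000000000088071c0000021364644038b438e5e0000000000000000000000000000213643800000000000000002201c400000084d9080000011de7200000000000101b40000000426c7f)))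 (BT.leaf (Bx.mk (nat_lit 0x6a7714000000000000000000000000000000000033df800000000000000000000000000000000000423fb78626b200000000000000000000000000000000000000008626a00000015b6bb8000000000000000000000000000040db18000002189a18000000000000000021899e800000847f3d0c4ccc0000000000000000000000000000226d73847f2d0c4ca4000004313260000010c4c8c0000043131f00000108fe361898b800000847f150c4c500000000000086261200000218983000000000000000000000004312fb)))))
noncomputable def eCo1_c4 : BT (Bx Nat) := (BT.node (nat_lit 2) (BT.node (nat_lit 1) (BT.leaf (Bx.mk (nat_lit 0x5485620000000000036429b6e80f4d909edb2b31b34297000000e5017dcb330000000000000e10a4d7a144b626705ee148bd0a19c21463c406b7684d8000000000002842aa000000a10b08000000000000000000000019214b3842757084ec000001c202e000000000000b5c0dd99326ab702d000000000000000002c424b0000000000017b820b170500000000000019212c8000005af0a8ec99299ac2b00000060e07ce898e5f33242f784e6ee08600000172128bb2633000000bd091dcb81eb4742f6e8470c958c5ca12338663b5884b4e098d8000003b562a748480d1996d8a11d3d26300000000000015212c00000072cc5ce908d1c9314b518166a8028d59854000003f4023000000dc6071ba00d37661b7e303efd0074000003642226c8440d90885c8c0cba401772843000000000000344227743026f50045e2109000000804c1ee5583201306b8420e764c16d96041f1304bc4007768410fd0015f21033d3404804c0708600a20300800000)))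 (BT.leaf (Bx.mk (nat_lit 0x49826c000000000003356f34e868c000001360a8b34326000000b50c193a1ad8000006485f8d89bc8000002c714d68863aa9c4ed39a8200000000000089e52550c85b841154eadb6adc4c92a1a080000054319800000188c7080000050827e870579b93688000004c85ce00000000000000000000000000000000000000000000009d0c9db216e800000528612e09b38000000000006a863cb9c5315b84080000052853a0000018a056b166ae4e857aa501994b333b118a700000000000143861ac40a858cd52b5c260000002d40945acd2ac461798205a00000000000000000158c3fae669c62315e000000000002b78bf000000a461a000000000000608580b5c244000002e426f5c811acdc289c204138668358f166000001538638000006e30f8d90265aa14d2c42ba684cf0cc61856215bac42b87280e4e599cd6215300000062310e0000000000039186d708114dd0a2d82b3880000060851ec101b80000036188400000000000000000000000)))) (BT.node (nat_lit 3) (BT.leaf (Bx.mk (nat_lit 0x6287280000015a1c28000004c32f6000001aa0bc000000000000b465912a0b5a5676c00000000000000000000000000000d505a1ab3b48000000000000000000000034436e00000000000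0000002c437600000000000000000000000000000000000000000000005181ea0000012b8aca6415a46e2889b054000000000000000000000000000002543560000000000000000000000000000000000000000000000000000a09bec000002243574ce2ba00000133872b027220000000000017389e8000005285dc000000000000000000000008d0bfc0000000000051829e000000000000000000000008b34e00000026c50c0000000000012b8b000000050ada4d09be0000000000005b8260000000000002fc12a6a4e3ed89b2da9377800000000000d49c68000000000004b82a8b49c200000025c15c000000ac63f800000232703000000d89c040000025432c00000000000152b678000006ace14b95bd800000000000000000000001aa187000000))) (BT.leaf (Bx.mk (nat_lit 0x709f0122bdf800000000000000000000001b43c60000007d0e65220cb2467974a834a959e99233c5a441b7468770000000000002441af48cf60919e38000000000000000009d0678000000000004a4f06990601333c08000000000000000000000000000048cee4b50685621d1000000000000990eb9421c300000058cf26000001038df0000004687788d0ef40000032677f568736000001a20c80000005632ee8d0ec8000002a1973000000000001938c4a8416650cecea5c675633beb4198448875600000000000000000)))))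
noncomputable def eCo1_c5 : BT (Bx Nat) := (BT.node (nat_lit 2) (BT.node (nat_lit 1) (BT.leaf (Bx.mk (nat_lit 0x880607100c04000004402fe8805f7100be21941ac128798805ef100bd6201793a68e38805e1100bbe194194128718805d600000220174c402e68805c90ca0ba094354402e08805bb100b6a2016c00000086505704a18e2016a4402d188059d100b3220165c402ca880590000000000000000000000010ca0962015f000000000001100ae619411800000880564000002094274402ab00000104a12e1940fc402a586503c0000022014f000000825089100a5e1940dc128418805210ca06a0941f4328198805110ca0620941d44028086502f04a0de2013c4328158250691009c21940a4128318650271009a61940941282d8804c50ca046094153528568804b310095dc34144402538804a000000220126c4024a74d04510091a20121bb283c8804811008f5e140e44023988046ceca0be20119c4023078502d1008b220114c328088250210ca01e094074328068250190ca0160940544020f88041b10082e20104c3280282500910080e20300800000))) (BT.leaf (Bx.mk (nat_lit 0x8650f8000002201c1c3287b8251f80000021943d4128f96f31c50ca1da0947b0000008650eb04a3cc00000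000000000000cca4b1a144ec3286f0000010ca1b4000000000008650d904a39e19435c128e5000000e0a1de194340000008806e10ca19e0946f0000008650cd04a36e194328000008650c8d0a2aa194308000000000010ca182094690000008650bf04a33e1942f4128cd0000000000021942d800000000000000002201b044035d000001100d6e201ac800000000000000000000004403568806a70ca1480000044035088069c000002201a6c4034c00000104a2ce201a5c4034a4ed277100d1a201a1c3284c000001100d0a201a044033d0000010ca1220945344033888066f100cd62019944032f86508a0000022019744032d6cd1dd100ca620193432842000001100c962019144031f88063d100c761941f8000008806380000022018d00000088062d100c4c00000412889880621100c380000044030b880611100c1400000412881)))) (BT.node (nat_lit 3) (BT.leaf (Bx.mk (nat_lit 0x35cf7a7b5d9c000001cdb91000001100f1800000000000000000000000000000000000000007f5628000000000008807846ca6580000000000035c72f100f00000000000000000000000000000000000086518d100ef80000000000000000000000000000000000000000000000000004403b6000000000000000000000008252a80000000000000000000000000000000000000000373274000000000004403ab000000000002201d44328ad000000ce635a194548000000000000000000000000000000000070a2c6194520000000000010ca2880000000000000000000000000000000000000000ce63b4000000000008807320000020949500000000000104a49c0000000000000000104a48c00000000000825240000000000000000000000000000021944600000000000104a45c0000043288a825228000000000004129110000000000000000043288400000000000219441c129090000010ca20a0948343287f00000000000000000000000)))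 (BT.leaf (Bx.mk (nat_lit 0x2194bbc32976000000000000000004129c18652c80000000000000000037cf526b9e1ccb4c0000000000000000000000001ae7b80000005f9ef00000000000039d71a000000000000000000000000000000000000000000000071a5e4e73d200000031cf540000000000000000000000000000000000000000000000000000000000000000000000000000000000000000000000000000000000000000000000000000000000003e5326000000000000000000000000000000000000000000000000000000000000000)))))
noncomputable def eCo1_c6 : BT (Bx Nat) := (BT.node (nat_lit 2) (BT.node (nat_lit 1) (BT.leaf (Bx.mk (nat_lit 0x880608000000000004402ff8805f9100be61153c431c35732dc5100bda20179c402f100000000000211538431c328805d8000002201754402e78805cb08a9a618e174402e18805bd100b6e2016cc402d78454c50c70ae2016ac402d288059f100b340000000000088059308a96618e13c22a5786384cd8a8a22015fc22a53863849100aea11528431c2388056708a93618e10c402ac8454950c7080000004402a684548d0c707a2014fc22a4386383b100a6211520431c1b88052308a8f618e0d3c2a1c88051308a8e618e0c44028184546d0c705e2013cc22a3386382b1009c611518431c1478542d1009aa11516431c128804c708a8a618e08b71c258804b51009622012b4402548804a2e4707e2012744024b88049310091e201223d5e198804831008fa2011e44023a88046ef5784e2011a44023188045f1008b620115422a0f86381108a83618e03c22a0b86380d08a82618e02c4021088041d10083220105422a0386380510081218500800000)))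 (BT.leaf (Bx.mk (nat_lit 0x10c71f000000422afb8638f60000021157c431c7a8638ef08abd618e3b0000008455e50c71d5c1571c31c738638e4d4726c00000422aeb8638de00000218e368000008455cd0c71b211572431c6b7238e8d873dc00000431c6800000108ab7618e338000008455b50c719800000431c65000000c8750800000431c6100000108ab4618e3000000084559d0c717e11566431c5e8638bb0c717211564431c5b000001100d8e201b0c4035e000001100d700000000000084557d0c7154000004403578806a908aae618e2944035188069e000000000000000008455650c713cecb9d000000880693100d1e201a2000000863898d65b5a201a0c4033e88067908aa9618e24440339000001100cda20199c4033084553d0c7115acb76800000880659100caa20193c22a9786388400000220191c4032000000000000211548431c3f000001100c6c0000044031988062f100c5211544431c3b8806220000000000044030c880613100c1a11540431c38)))) (BT.node (nat_lit 3) (BT.leaf (Bx.mk (nat_lit 0xeecb4000000000001100f1cd8ed300000088078b100f100000000000000000000000000000431cdf880786000000000001ee59c000001100f04000000000003a3afc000000000004403bf00000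0000002115b0431cc500000108ad7618e62422b5b863984000000000000000008456ad0c72f000000422b53863976000002115a8431cb884569d0c72dc000000000000000000000000000000000084568d0c72b800000422b4386395a000002115a0431ca900000108acf618e540000004c395e0000021159c431ca400000000000218e510000008456650c728400000422b2f86394000000218e4e342aee00000108aca618e4d00000084564d0c7264000000000008456450c725400000422b1f8639290c724c00000431c8f0000010c72340000000000084562d0c722c00000422b1386391400000211588431c870000010c72180000000000086390800000211584431c8300000108ac1618e41422b038638fe00000218e3f000000))) (BT.leaf (Bx.mk (nat_lit 0x84578d0c75e8000000000008457850c75be115e0431d6a0000010c7588c8ebf961db200000000000000000191db40000010c7560000000000000000000000000000000000000000000000000000000000863a905c768cd0eddc31d4500000000000000000000000000000000000000000000000000000000000000000000000000000000218e95800000323ad67385b80000000000041a716000000d8ebe1bdd92000000000000d8ed780000000000000000000000000000000000000000000000000008639fa000000df6d8181db9)))))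
noncomputable def eCo1_c7 : BT (Bx Nat) := (BT.node (nat_lit 2) (BT.node (nat_lit 1) (BT.leaf (Bx.mk (nat_lit 0x62dd3ac5ba7000000376e9b6edd34ddba657904c000000000000c9ba559374a000000000000e1ba498904880000064dd1e000001c3746386e8b70dd14b082fc000002c6ebd58dd78b1baec00000000000604174000000000002e6eb85cdd6ec1bad800000000000000000b5b93999026ad6e4b664094d0815800000000000000000dc51497b715332029000000b881699372c8000005c40b0c9b95c000003e1448000000dc80e40000000000074406cd851099b71a3b20336c287ecdb8c5d9018000000000000d0811db3723000000664088e5b90c0000034204174dc80dc50c9a101f3a6e3d6c405e0000017102a000000000000c0814593728000000000000000001c0a12800000706c4600000000000000000000000fd10780000037141c6e8836dcd869c8a0cb94418000000e05059c220ab83614742826e91049d1b08b7201072401ee0803a01006b8200c744016e48029d9004bd44087a6c0efd1019f9b02be200480400708500a20300800000))) (BT.leaf (Bx.mk (nat_lit 0xd083b8000002b21474adec0000001190af276f430000009c8504000000000005e427c99bd64000003720cb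000000cdbbf93b7820000005041d600000000000366f18524266b5bc2169083000000000000000000000000000000000009c8545c906880000050429edc8338000000000000000000000000000000000058dea494855dc376e8000005042a8000001590668000006cdde00000015b759af20b25a29620000018a2573136ad5a2954b512a569b5400000056dcd400000168a342d44675a6cccbdb98d990312f44605e6cbec451798a22eb1365c584192b9bb20000000000000000000000018376200000000000000000163761000000000000b5ba258904433148766890cd45211aa241b5368200000000000190a3fb2447e7028f8e111edc1b3d2e6e796440f0cc51dd9a23b3336757288e6e4d9c983738b420706628de0000000000039146d7288d8e4d9ad7105300000000000000000000000346ea268dd42d1ba818104f800000)))) (BT.node (nat_lit 3) (BT.leaf (Bx.mk (nat_lit 0x4adf4c00000000000000000000000000000000000000006a2aca00000000000276f9e56df0c00000000000000000000000dd15a5b9bb4266fae0000008dbed5b37b7366f6d00000099bec800000000000000000000000000002620fb00000089bbe561093266f234e41ea000001390792b14df48dda4a885400000000000054429cb4534c00000296f560000000000016908f2f20ef000000b0846800000000000000000b084a400000246f275041f000000000000000000000000b9bbcd8108f8000005a2a24000000000000000005e425a00000171085b3150a000000b08458000000000005c41c80000017379bb2212c0000008c85855b7a30000004a4288adbd74000000000004e42b8000000000000000005ede7a000001b1065000000000000000000000003714e8000000adbcc8000002921305a420a0000010109c800000000000d88404000000000000000000000016108bae20e600000000000163789a8a4ed000000000001ab787000000)))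 (BT.leaf (Bx.mk (nat_lit 0xc90e180000000000084860d222c0a43780548b2aa8de5131bc92545794a6ef000000120ab52845b0506f5e9cdd9930ab78000000000009d15b000000000000464332a9165d51bcb0000000000009915fd31bbf26457d4c6ef800000171bc82d159a508aeaa0ddd150ac628458b506f140000000000000000052df54a5bea40000000000000000000000000000000000000000ad162159bc3a96f9d4edf38000001a0ac200000054df1ab055cd61bb8b36f8900000000000000000000000)))))
noncomputable def eCo1_c8 : BT (Bx Nat) := (BT.node (nat_lit 2) (BT.node (nat_lit 1) (BT.leaf (Bx.mk (nat_lit 0x5320fedd8219bb0428000004e8d8aa63ab400000312497000000a11b094236080000072c4bac22ad0000003324905234de000000000002f60835e8d4000000172a5f00000076c4c0e4e97c00000000000000000c892e532330ba606770c0ccb86ad9c3039b746920000000000017b0268000005ec094dcb958000000000005ec058000001b9728b1602960a8b600000182a2c800000000000c1515c0000033463b000000d580e40000000000068c06c000001b1720b56033000000d8b8f9ab018382e3c64c090000001b1223345445000000d5510d9b121372e346c4880d5c8fc0000036243d000000000000000003054536874a4e4b8a991228355428000000000000000000000006a7422000001a2313b44626000000000001d300bb6241c7ac42af4e851b170cb8461e76a83adc9059e300dbc601a000000d11891a3011bc2e1070a81ef0b839caa06800000724816f8b829d1204ba460882740eed1819e1d02c12e047e480704680a20300800000)))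 (BT.leaf (Bx.mk (nat_lit 0x6ac25800000112ab100000056c28c98ed140000025555d000000c1848d4aaa000000060c240bd84f400000000000000000cd53b800000000000000000000001a49748000006cc22eae2cc9b308a2d6105000000000000000000000004afda60000014aaa8000000000000a9553800000000000000000000000000000000000000000000013c5ab2772dc000000a9554c000002c92cc000000000000000002d60b2000000000000000000000000000009d81d800000000000000000b581a400000000000000000d8bae98b0312b46bc568d76b58178000002f6072000000b9532000000000000000000b98a694303d000000000000000001ab14ab060940000000000017b044000000000000c06a1000000000000000000c5820000000308aa36a34f8b582b96a36200000060c0f09c6a5800000318ea85c8d6ad98171a9748b260700000000000016a358351a6d5a8d42bdfa08000003024a553210ee189f9c1d3eaf60a260c4d8b982280000032549e)))) (BT.node (nat_lit 3) (BT.leaf (Bx.mk (nat_lit 0x80edb5bb1b3800000000000000001830c0a547a94aab5a000001d31b9000000000000e585d52c5c680000039176a751eecfb0bf000000468f467556c4000001f8ba56cc2fa0000014c7c7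80000000000000000000000246129000000bcbd112307c2b2f4150c24400000000000236152565dbc998344000002b2edb52c19c922d61697692860dd5a5d9ea583680000000000000000000000000000000000000000b24bec000000000004cc24c000000000002860f50000000000018497900000000000000000000000214710000000ccbc3000000000000665e12a9839800000332f0654c22600000000000362eff48aa90d8bbf12aab00000006c5df29d550c00000000000625deca5556c00000312ef34d16b20000000000000000000000000000000000288b346e5dceb6a42142383b72ee557165e000000000000000000000000000012b080000000000000a58ba1930998000004ec22a000001749720000004c5e5c91fc3c0000026a70d))) (BT.leaf (Bx.mk (nat_lit 0x6a4f00000001961c20000000000010b0dc2261900000000000010b0d92247bd000000000000db0b7800000000000891ee40000025637f468f7400000000000000000000000718689230bc000000000000922ed0f30b4000000000000751ea8faac0000000000000000000000000000000000009d8624000001d61825cc722922edc000002347b3000000bdfd98000002347bc000000d98e2d230b88000006ac31cd5fdd142acd0000004cc30a946e313a3c3a68ba00000007ba6618b1bc9e61a1)))))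
noncomputable def eCo1_c9 : BT (Bx Nat) := (BT.node (nat_lit 2) (BT.node (nat_lit 1) (BT.leaf (Bx.mk (nat_lit 0x630d3a0000000000037869b0000000000000000000000065012c000000000000000000000000000000000000000065011e000001c404600000000000000000000000000000000000000000000000000000000000000000000000000000000000000000000000000000000000000000000000000000000000000000000000000000000000000000000000000000000000000000000000000000000000000000000000000000000000000000000000000000000000000000000000000000000000000000000000000000000000000000000000000000000003d5234000000000001ea918bd2230000000000000000000000000000000000000000000000000000000000000000000000000000000000000000000000000000000000000000000000000000000000000000000000000000001f2d0abe38140000000000000000000000000000000000000000000000000000fd48280000000000000000000000201c0280000082440708580a20300800000))) (BT.leaf (Bx.mk (nat_lit 0x61023800000000000000000000000000000000000000000000000000000000000000000000000000000000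00000000000000000000000000000000000000000000000000000000000000000000000000000000000000000000000000000000000000000000000000000000000000000000000000000000000000000000000000000000000000000000000000000000000000000000000000000000000000000000000000000000000000000000000000000000000000000000000000000000000000000000000000000000002e8c87000000000000000000000000000000000000000000000000000000000000000000000000000cc59dc0000000000000000000000000000000000662cde0000000000039166d000000000000000000000005b01480000000000000000000000000000000000000000)))) (BT.node (nat_lit 3) (BT.leaf (Bx.mk (nat_lit 0x2c23100000000000000000000000000000000000000000000000000000c08c0c000003652ff000000000000000000000000000000000018917b80000000000000000000000000000000000000000000003122eb000000000001ba97500000000000000000000000000000000000000000000000000000000000000000000000000000000000000000000000000000000000000000000000005f025c00000000000000000))) (BT.leaf (Bx.mk (nat_lit 0x0)))))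
noncomputable def eCo1_c10 : BT (Bx Nat) := (BT.node (nat_lit 2) (BT.node (nat_lit 1) (BT.leaf (Bx.mk (nat_lit 0x86646f100c0a201804332368805fb100be8000003a32e18664680000022017a000000000000000002201774402ed866462000002199184402e8000001100b8e2017143322d8805bf100b7219916000000000001100b5a199154402d38805a10cc8a40000000000086644f100b1e201634402c3880580c9e8f0000004402bd0000010cc88c000004402b6000001100ac620157c33220880555100a9dd1817c3321e880549100a8a1990ec4029d8805370cc86e2014b000000866435100a3e20146000000866431100a1e201424332178804ff1009f21990ac402778804e90cc85220137c4026d7264930cc84a201344402658664231009862012f4332108804b600000219907c402558804a400000220127c4024c86641b10092220122c3320c8804851008fe19905c4023b8804710cc82a2011ac402328664131008ba20115c4022888044b10088a2010fc4021c88043310085a20109bf4e067e900af8c821f1903c130038064090c300620201000000))) (BT.leaf (Bx.mk (nat_lit 0x713638bcca461993dc403820000010cc9e800000000000000000000002201bdc332758806f4000001d187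04403778806ed0cc9c61993837309e4f86589a6cb9cca4fc3326c000001100dcc000000000000000010cc9a5d983c3932f18664cf100dbc00000433266000000000001c4d7bbd9479000000000001b9855b5333c8664c1100da800000000000000000000001a4da13994ac8806cb100d90000002d33110000010cc966201b144035f8664b0000002201ad0000000000000000021992a4403588806aa000000000004403520000010cc9400000000000055466a0000021992700000086649b100d22201a28000000000010cc92c0000044033f866495100cee2019d4332470000010cc91a2019a4403317065d2d8cbb000000000000000001100cae201940000000000010cc906201924403210000000000018517f0000000000000000000000043323d880631100c5620189000000866475100c3e20186c33239880615100c1c00000000000)))) (BT.node (nat_lit 3) (BT.leaf (Bx.mk (nat_lit 0x8665eb0ccbcc000000000008665e10ccbbc000000000008665cc000000000000000008665bc000000000000000000000010ccb480000000000000000000000219965c332ca0000010ccb1400000000000866588000000000000000000000010ccb04000004332bc88076a0000021995d800000000000000002201d8800000000000000002201d6800000000001100eb0000004332ae00000000000219956c403a7000000cccb3400000000000866550000000000003630d40000010cca94fd159204f498807407e6d2d49959c332a1000001100e761995000000000000094cbaa201cd000000866535100e6000000433299000000000000000000000000000000000021994a000000000001100e3c00000000000000000000001d1881800000000001100e30000000000000000010cca2571864000000000001100e24000000000006129930cca0c0000044038686650400000000000000000726632000002201c243327d)))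 (BT.leaf (Bx.mk (nat_lit 0x4a635000000000000000000314756000001998cc80000000000000000000000000000000000000000000000000000000000000000000000000000000000000000000000000000000000000000000000002e6786000000000002433c70000000000000000000000000000000000000000000000000000000000000000000000000010cccb5919e080000000000000000000000000000000000000000000000000000000000000000000043331600000000000219987000000000000000000000004333010000010ccbf000000000000)))))
noncomputable def eCo1_p : BT (Bx Nat) := (BT.node (nat_lit 2) (BT.node (nat_lit 1) (BT.leaf (Bx.mk (nat_lit 0x71b94e370dc6e138d8a71b06e3609c6a338d4571a14e340dc68138cca71986e3309c64338c8571894e3109c60538c0371804e2e19c5c2b8b4a71686e2d09c58538b027158ce2b15c54538a8371504e2929c521b8a4261394c271984e2b09866130ac25198485309066120ac23298463308c561094c21198422b080a6100cc201583e33078a60f0cc1e1583a53074660e8ac1b298363306c560d14c1a198342b064660c14c18198302b05ca60b8cc171582a53054660a8ac14298283305056098cc122982433048560894c11198222a840a50806a100941e5283c350784a0e2941c1a838250694a0d0d41a12830a50606a0c094165282c350584a0a294141a828250494a090d4121202064040a8071900e2a01864030a8051900a298103302046030cc061100862010a20128000000000)))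 (BT.leaf (Bx.mk (nat_lit 0x83e0d07c160f6541ec683d8b07a2a0f4341e8583b8b0761a0ec2c1d4a83a8d075160e8341cc58390b0712a0e0541bc68378b06d1a0da2c1b0a8360d06c160d6341ac5835150692a0d0341a05833950671a0ce2c198a8330d066160ca3419458320d0622a0c2341845830150601a0c02c17ca82f8d05f160bc34178582e8b05c15cb63396c572d14e5929cb21b964272c14e580dcb01395ca72a8ce5515ca853950372a04e5219ca42b944372884e5029ca01b94027278ce4f15c9c53938272694e4d0dc9a1393067260ae4b29c961b92c272514e4819c902b91ca72386e4629c8c1b91827228ce4515c8853910372194e430dc861390867210ae4129c821b904272006e4009c7e338fc571f14e3e0dc7c138f4a71e86e3d09c76338ec571d14e3a0dc74138e4a71c86e3909c70338e05)))) (BT.node (nat_lit 3) (BT.leaf (Bx.mk (nat_lit 0x97c072f80a5ec1cbd8297a952f32a5e41cbc82978152ef2a5ce1cb9c2973152e50e5ca14b7c596f152dd0e5ba14b6c396d852d22a5a21cb442967872cf0a59654b28a8630d0c52a18a343145862150c41a1882c30868610b0c12a1822c2f0a85e0d0bc16176542ec685d8b0b82a170342e0585b8d0b71616a2c2d058588b0b01615e342b8a8570d0ae1615a542b468568b0aa16152342a45854150a81a1502c29c6853150a52a1483429058518b0a21a1442c284a8508d0a1161405428068500b09d161382c26c684d1509a1a1342c264a84c8d0991612c2c254a84a8d0951612854250684a0b093161242c23c58470d08d161183422ca8458d08b161145422868450b0892a10e3421c5843150861610a5421068420b0832a1063420c5841150821a1042c1fc683f8b07e2a0fc2c1f4a)))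 (BT.leaf (Bx.mk (nat_lit 0xabd0d57a16aee355d86ab78d56f16ad4355a85ab20d362166c01cd8029ae8735d0a6b814d6439ac85358166ae54d5839ab053540a6a254d4039a80534f0e69a54d28a9a40b3460e68c14d1459a2153430e68614d0439a08533d0e67a14cdca999873330a66454cc039980532d2a6562cca8a994873290a64c1cc982991873230a63e1cc7c298f153170e62e14c58a98a073140a61c54c243984853082a60c14c04a97e8b2fc2a5f61cbec2)))))
noncomputable def eCo1_e0 : BT Nat := (BT.node (nat_lit 20352) (BT.node (nat_lit 9792) (BT.node (nat_lit 576) (BT.node (nat_lit 73) (BT.node (nat_lit 69) (BT.node (nat_lit 66) (BT.leaf (nat_lit 2)) (BT.node (nat_lit 68) (BT.leaf (nat_lit 262146)) (BT.leaf (nat_lit 524290)))) (BT.node (nat_lit 71) (BT.leaf (nat_lit 786434)) (BT.node (nat_lit 72) (BT.leaf (nat_lit 1048578)) (BT.leaf (nat_lit 1310722))))) (BT.node (nat_lit 320) (BT.node (nat_lit 128) (BT.leaf (nat_lit 1572866)) (BT.node (nat_lit 192) (BT.leaf (nat_lit 2089)) (BT.leaf (nat_lit 112665)))) (BT.node (nat_lit 448) (BT.node (nat_lit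 384) (BT.leaf (nat_lit 112653)) (BT.leaf (nat_lit 112649))) (BT.node (nat_lit 512) (BT.leaf (nat_lit 112645)) (BT.leaf (nat_lit 4117)))))) (BT.node (nat_lit 3648) (BT.node (nat_lit 1152) (BT.node (nat_lit 1024) (BT.leaf (nat_lit 107293)) (BT.node (nat_lit 1088) (BT.leaf (nat_lit 9993)) (BT.leaf (nat_lit 102413)))) (BT.node (nat_lit 2496) (BT.leaf (nat_lit 106013)) (BT.node (nat_lit 2688) (BT.leaf (nat_lit 22809)) (BT.leaf (nat_lit 113429))))) (BT.node (nat_lit 6144) (BT.node (nat_lit 4480) (BT.leaf (nat_lit 113417)) (BT.node (nat_lit 5696) (BT.leaf (nat_lit 41513)) (BT.leaf (nat_lit 50729)))) (BT.node (nat_lit 8384) (BT.node (nat_lit 8320) (BT.leaf (nat_lit 41225)) (BT.leaf (nat_lit 41229))) (BT.node (nat_lit 9472) (BT.leaf (nat_lit 67609)) (BT.leaf (nat_lit 74025))))))) (BT.node (nat_lit 14016) (BT.node (nat_lit 12032) (BT.node (nat_lit 10304) (BT.node (nat_lit 9856) (BT.leaf (nat_lit 75817)) (BT.node (nat_lit 10240) (BT.leaf (nat_lit 76585)) (BT.leaf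 (nat_lit 78121)))) (BT.node (nat_lit 10368) (BT.leaf (nat_lit 78889)) (BT.node (nat_lit 11968) (BT.leaf (nat_lit 50693)) (BT.leaf (nat_lit 87337))))) (BT.node (nat_lit 12608) (BT.node (nat_lit 12352) (BT.leaf (nat_lit 88105)) (BT.node (nat_lit 12544) (BT.leaf (nat_lit 88617)) (BT.leaf (nat_lit 89897)))) (BT.node (nat_lit 13376) (BT.node (nat_lit 12672) (BT.leaf (nat_lit 90665)) (BT.leaf (nat_lit 90633))) (BT.node (nat_lit 13952) (BT.leaf (nat_lit 113157)) (BT.leaf (nat_lit 87817)))))) (BT.node (nat_lit 18816) (BT.node (nat_lit 16064) (BT.node (nat_lit 14144) (BT.leaf (nat_lit 86805)) (BT.node (nat_lit 15488) (BT.leaf (nat_lit 88337)) (BT.leaf (nat_lit 88349)))) (BT.node (nat_lit 18368) (BT.node (nat_lit 16896) (BT.leaf (nat_lit 104221)) (BT.leaf (nat_lit 47893))) (BT.node (nat_lit 18496) (BT.leaf (nat_lit 37909)) (BT.leaf (nat_lit 89861))))) (BT.node (nat_lit 19136) (BT.node (nat_lit 18944) (BT.leaf (nat_lit 39189)) (BT.node (nat_lit 19008) (BT.leaf (nat_lit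 76557)) (BT.leaf (nat_lit 39445)))) (BT.node (nat_lit 19712) (BT.node (nat_lit 19520) (BT.leaf (nat_lit 104729)) (BT.leaf (nat_lit 87301))) (BT.node (nat_lit 20288) (BT.leaf (nat_lit 41485)) (BT.leaf (nat_lit 81433)))))))) (BT.node (nat_lit 25024) (BT.node (nat_lit 22592) (BT.node (nat_lit 21952) (BT.node (nat_lit 21760) (BT.node (nat_lit 20672) (BT.leaf (nat_lit 90377)) (BT.node (nat_lit 21696) (BT.leaf (nat_lit 73477)) (BT.leaf (nat_lit 90381)))) (BT.node (nat_lit 21824) (BT.leaf (nat_lit 47897)) (BT.node (nat_lit 21888) (BT.leaf (nat_lit 88077)) (BT.leaf (nat_lit 48149))))) (BT.node (nat_lit 22144) (BT.node (nat_lit 22016) (BT.leaf (nat_lit 48153)) (BT.node (nat_lit 22080) (BT.leaf (nat_lit 112153)) (BT.leaf (nat_lit 49429)))) (BT.node (nat_lit 22464) (BT.node (nat_lit 22336) (BT.leaf (nat_lit 88081)) (BT.leaf (nat_lit 50197))) (BT.node (nat_lit 22528) (BT.leaf (nat_lit 90637)) (BT.leaf (nat_lit 50453)))))) (BT.node (nat_lit 23424) (BT.node (nat_lit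 23040) (BT.node (nat_lit 22656) (BT.leaf (nat_lit 50457)) (BT.node (nat_lit 22912) (BT.leaf (nat_lit 114201)) (BT.leaf (nat_lit 103969)))) (BT.node (nat_lit 23232) (BT.node (nat_lit 23104) (BT.leaf (nat_lit 104201)) (BT.leaf (nat_lit 104209))) (BT.node (nat_lit 23360) (BT.leaf (nat_lit 104217)) (BT.leaf (nat_lit 103949))))) (BT.node (nat_lit 24320) (BT.node (nat_lit 23808) (BT.leaf (nat_lit 104205)) (BT.node (nat_lit 24064) (BT.leaf (nat_lit 105993)) (BT.leaf (nat_lit 73481)))) (BT.node (nat_lit 24576) (BT.node (nat_lit 24512) (BT.leaf (nat_lit 102425)) (BT.leaf (nat_lit 113437))) (BT.node (nat_lit 24640) (BT.leaf (nat_lit 111637)) (BT.leaf (nat_lit 103945))))))) (BT.node (nat_lit 27008) (BT.node (nat_lit 26048) (BT.node (nat_lit 25728) (BT.node (nat_lit 25088) (BT.leaf (nat_lit 113173)) (BT.node (nat_lit 25600) (BT.leaf (nat_lit 103941)) (BT.leaf (nat_lit 113697)))) (BT.node (nat_lit 25920) (BT.leaf (nat_lit 111365)) (BT.node (nat_lit 25984) (BT.leaf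 (nat_lit 75277)) (BT.leaf (nat_lit 76041))))) (BT.node (nat_lit 26560) (BT.node (nat_lit 26176) (BT.leaf (nat_lit 76045)) (BT.node (nat_lit 26496) (BT.leaf (nat_lit 114193)) (BT.leaf (nat_lit 113669)))) (BT.node (nat_lit 26816) (BT.node (nat_lit 26752) (BT.leaf (nat_lit 111621)) (BT.leaf (nat_lit 88333))) (BT.node (nat_lit 26880) (BT.leaf (nat_lit 113945)) (BT.leaf (nat_lit 104197)))))) (BT.node (nat_lit 28032) (BT.node (nat_lit 27520) (BT.node (nat_lit 27200) (BT.leaf (nat_lit 87049)) (BT.node (nat_lit 27264) (BT.leaf (nat_lit 103965)) (BT.leaf (nat_lit 103953)))) (BT.node (nat_lit 27840) (BT.node (nat_lit 27776) (BT.leaf (nat_lit 106001)) (BT.leaf (nat_lit 113689))) (BT.node (nat_lit 27904) (BT.leaf (nat_lit 87561)) (BT.leaf (nat_lit 87565))))) (BT.node (nat_lit 28288) (BT.node (nat_lit 28096) (BT.leaf (nat_lit 114181)) (BT.node (nat_lit 28160) (BT.leaf (nat_lit 88329)) (BT.leaf (nat_lit 113953)))) (BT.node (nat_lit 28416) (BT.node (nat_lit 28352) (BT.leaf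 (nat_lit 89353)) (BT.leaf (nat_lit 89357))) (BT.node (nat_lit 28480) (BT.leaf (nat_lit 90121)) (BT.leaf (nat_lit 90125)))))))))
noncomputable def eCo1_e : BT Nat := eCo1_e0
noncomputable def eCo1_cols : List (BT (Bx Nat)) := [eCo1_c0, eCo1_c1, eCo1_c2, eCo1_c3, eCo1_c4, eCo1_c5, eCo1_c6, eCo1_c7, eCo1_c8, eCo1_c9, eCo1_c10]
noncomputable def eCo1_ch (x j : Nat) : Bx Nat := chunkG eCo1_cols (nat_lit 4) x j
noncomputable def eCo1_L (x : Nat) : Bx (Nat → Nat) := lookG eCo1_ch (nat_lit 7) (nat_lit 127) (nat_lit 23) (nat_lit 8388607) x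
noncomputable def eCo1_pc (_ j : Nat) : Bx Nat := eCo1_p.get j
noncomputable def eCo1_pb : Bx (Nat → Nat) := lookG eCo1_pc (nat_lit 7) (nat_lit 127) (nat_lit 19) (nat_lit 524287) (nat_lit 0)
noncomputable def eCo1_rots : BT CW := (BT.node (nat_lit 60) (BT.node (nat_lit 30) (BT.node (nat_lit 15) (BT.node (nat_lit 7) (BT.node (nat_lit 3) (BT.node (nat_lit 1) (BT.leaf ⟨[], (nat_lit 1000000), (nat_lit 0), (nat_lit 0), (nat_lit 0)⟩) (BT.node (nat_lit 2) (BT.leaf ⟨[], (nat_lit 1000000), (nat_lit 0), (nat_lit 0), (nat_lit 1)⟩) (BT.leaf ⟨[], (nat_lit 1000000), (nat_lit 0), (nat_lit 0), (nat_lit 2)⟩))) (BT.node (nat_lit 5) (BT.node (nat_lit 4) (BT.leaf ⟨[(nat_lit 3), (nat_lit 2)], (nat_lit 145), (nat_lit 1), (nat_lit 0), (nat_lit 3)⟩) (BT.leaf ⟨[(nat_lit 6), (nat_lit 5)], (nat_lit 143), (nat_lit 1), (nat_lit 0), (nat_lit 3)⟩)) (BT.node (nat_lit 6) (BT.leaf ⟨[(nat_lit 10), (nat_lit 10)], (nat_lit 121), (nat_lit 0), (nat_lit 0), (nat_lit 3)⟩) (BT.leaf ⟨[(nat_lit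 1), (nat_lit 10), (nat_lit 1), (nat_lit 10)], (nat_lit 129), (nat_lit 1), (nat_lit 0), (nat_lit 4)⟩)))) (BT.node (nat_lit 11) (BT.node (nat_lit 9) (BT.node (nat_lit 8) (BT.leaf ⟨[(nat_lit 2), (nat_lit 10), (nat_lit 3), (nat_lit 10)], (nat_lit 130), (nat_lit 1), (nat_lit 0), (nat_lit 4)⟩) (BT.leaf ⟨[(nat_lit 3), (nat_lit 2)], (nat_lit 145), (nat_lit 1), (nat_lit 0), (nat_lit 4)⟩)) (BT.node (nat_lit 10) (BT.leaf ⟨[(nat_lit 7), (nat_lit 10), (nat_lit 7), (nat_lit 10)], (nat_lit 131), (nat_lit 1), (nat_lit 0), (nat_lit 4)⟩) (BT.leaf ⟨[(nat_lit 9), (nat_lit 10), (nat_lit 9), (nat_lit 7), (nat_lit 10)], (nat_lit 128), (nat_lit 1), (nat_lit 0), (nat_lit 4)⟩))) (BT.node (nat_lit 13) (BT.node (nat_lit 12) (BT.leaf ⟨[(nat_lit 4), (nat_lit 10), (nat_lit 4), (nat_lit 7), (nat_lit 10)], (nat_lit 132), (nat_lit 1), (nat_lit 0), (nat_lit 4)⟩) (BT.leaf ⟨[(nat_lit 8), (nat_lit 7), (nat_lit 1), (nat_lit 4), (nat_lit 1), (nat_lit 4)], (nat_lit 20), (nat_lit 4), (nat_lit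 0), (nat_lit 4)⟩)) (BT.node (nat_lit 14) (BT.leaf ⟨[(nat_lit 6), (nat_lit 5)], (nat_lit 143), (nat_lit 1), (nat_lit 0), (nat_lit 4)⟩) (BT.leaf ⟨[(nat_lit 1), (nat_lit 6), (nat_lit 1), (nat_lit 5)], (nat_lit 9), (nat_lit 2), (nat_lit 0), (nat_lit 4)⟩))))) (BT.node (nat_lit 22) (BT.node (nat_lit 18) (BT.node (nat_lit 16) (BT.leaf ⟨[(nat_lit 7), (nat_lit 6), (nat_lit 8), (nat_lit 5)], (nat_lit 13), (nat_lit 1), (nat_lit 0), (nat_lit 4)⟩) (BT.node (nat_lit 17) (BT.leaf ⟨[(nat_lit 9), (nat_lit 6), (nat_lit 9), (nat_lit 5)], (nat_lit 125), (nat_lit 2), (nat_lit 0), (nat_lit 4)⟩) (BT.leaf ⟨[(nat_lit 8), (nat_lit 6), (nat_lit 7), (nat_lit 5), (nat_lit 7)], (nat_lit 17), (nat_lit 2), (nat_lit 0), (nat_lit 4)⟩))) (BT.node (nat_lit 20) (BT.node (nat_lit 19) (BT.leaf ⟨[(nat_lit 4), (nat_lit 6), (nat_lit 3), (nat_lit 8), (nat_lit 2), (nat_lit 5)], (nat_lit 22), (nat_lit 2), (nat_lit 0), (nat_lit 4)⟩) (BT.leaf ⟨[(nat_lit 5), (nat_lit 6)], (nat_lit 143), (nat_lit 0),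 (nat_lit 0), (nat_lit 4)⟩)) (BT.node (nat_lit 21) (BT.leaf ⟨[(nat_lit 6), (nat_lit 6), (nat_lit 6)], (nat_lit 152), (nat_lit 0), (nat_lit 0), (nat_lit 4)⟩) (BT.leaf ⟨[(nat_lit 1), (nat_lit 5), (nat_lit 1), (nat_lit 6)], (nat_lit 9), (nat_lit 0), (nat_lit 0), (nat_lit 4)⟩)))) (BT.node (nat_lit 26) (BT.node (nat_lit 24) (BT.node (nat_lit 23) (BT.leaf ⟨[(nat_lit 8), (nat_lit 5), (nat_lit 7), (nat_lit 6)], (nat_lit 13), (nat_lit 3), (nat_lit 0), (nat_lit 4)⟩) (BT.leaf ⟨[(nat_lit 10), (nat_lit 6), (nat_lit 10), (nat_lit 6), (nat_lit 10), (nat_lit 1), (nat_lit 6)], (nat_lit 280), (nat_lit 2), (nat_lit 0), (nat_lit 4)⟩)) (BT.node (nat_lit 25) (BT.leaf ⟨[(nat_lit 10), (nat_lit 10)], (nat_lit 121), (nat_lit 0), (nat_lit 0), (nat_lit 4)⟩) (BT.leaf ⟨[(nat_lit 4), (nat_lit 7), (nat_lit 10), (nat_lit 4), (nat_lit 10)], (nat_lit 132), (nat_lit 3), (nat_lit 0), (nat_lit 4)⟩))) (BT.node (nat_lit 28) (BT.node (nat_lit 27) (BT.leaf ⟨[(nat_lit 7), (nat_lit 3), (nat_lit 7),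 (nat_lit 2)], (nat_lit 11), (nat_lit 1), (nat_lit 0), (nat_lit 4)⟩) (BT.leaf ⟨[(nat_lit 9), (nat_lit 3), (nat_lit 9), (nat_lit 2)], (nat_lit 123), (nat_lit 2), (nat_lit 0), (nat_lit 4)⟩)) (BT.node (nat_lit 29) (BT.leaf ⟨[(nat_lit 8), (nat_lit 3), (nat_lit 5), (nat_lit 4), (nat_lit 7), (nat_lit 6), (nat_lit 2)], (nat_lit 27), (nat_lit 1), (nat_lit 0), (nat_lit 4)⟩) (BT.leaf ⟨[(nat_lit 2), (nat_lit 3)], (nat_lit 145), (nat_lit 0), (nat_lit 0), (nat_lit 4)⟩)))))) (BT.node (nat_lit 45) (BT.node (nat_lit 37) (BT.node (nat_lit 33) (BT.node (nat_lit 31) (BT.leaf ⟨[(nat_lit 3), (nat_lit 3), (nat_lit 3)], (nat_lit 151), (nat_lit 0), (nat_lit 0), (nat_lit 4)⟩) (BT.node (nat_lit 32) (BT.leaf ⟨[(nat_lit 4), (nat_lit 3), (nat_lit 4), (nat_lit 3)], (nat_lit 155), (nat_lit 0), (nat_lit 0), (nat_lit 4)⟩) (BT.leaf ⟨[(nat_lit 4), (nat_lit 4)], (nat_lit 1), (nat_lit 0), (nat_lit 0), (nat_lit 4)⟩))) (BT.node (nat_lit 35) (BT.node (nat_lit 34) (BT.leaf ⟨[(nat_lit 7), (nat_lit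 2), (nat_lit 7), (nat_lit 3)], (nat_lit 11), (nat_lit 3), (nat_lit 0), (nat_lit 4)⟩) (BT.leaf ⟨[(nat_lit 8), (nat_lit 4), (nat_lit 8), (nat_lit 4)], (nat_lit 15), (nat_lit 1), (nat_lit 0), (nat_lit 4)⟩)) (BT.node (nat_lit 36) (BT.leaf ⟨[(nat_lit 10), (nat_lit 3), (nat_lit 10), (nat_lit 2)], (nat_lit 130), (nat_lit 2), (nat_lit 0), (nat_lit 4)⟩) (BT.leaf ⟨[(nat_lit 1), (nat_lit 3), (nat_lit 6), (nat_lit 2), (nat_lit 1), (nat_lit 3), (nat_lit 6), (nat_lit 2)], (nat_lit 180), (nat_lit 3), (nat_lit 0), (nat_lit 4)⟩)))) (BT.node (nat_lit 41) (BT.node (nat_lit 39) (BT.node (nat_lit 38) (BT.leaf ⟨[(nat_lit 1), (nat_lit 1)], (nat_lit 0), (nat_lit 0), (nat_lit 0), (nat_lit 4)⟩) (BT.leaf ⟨[(nat_lit 10), (nat_lit 2), (nat_lit 10), (nat_lit 3)], (nat_lit 130), (nat_lit 0), (nat_lit 0), (nat_lit 4)⟩)) (BT.node (nat_lit 40) (BT.leaf ⟨[(nat_lit 1), (nat_lit 3), (nat_lit 1), (nat_lit 3), (nat_lit 1), (nat_lit 3)], (nat_lit 166), (nat_lit 1), (nat_lit 0), (nat_lit 4)⟩)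 (BT.leaf ⟨[(nat_lit 9), (nat_lit 5), (nat_lit 9), (nat_lit 6)], (nat_lit 125), (nat_lit 0), (nat_lit 0), (nat_lit 4)⟩))) (BT.node (nat_lit 43) (BT.node (nat_lit 42) (BT.leaf ⟨[(nat_lit 8), (nat_lit 1), (nat_lit 8), (nat_lit 1)], (nat_lit 14), (nat_lit 1), (nat_lit 0), (nat_lit 4)⟩) (BT.leaf ⟨[(nat_lit 4), (nat_lit 5), (nat_lit 4), (nat_lit 1), (nat_lit 2), (nat_lit 8), (nat_lit 3), (nat_lit 6)], (nat_lit 32), (nat_lit 5), (nat_lit 0), (nat_lit 4)⟩)) (BT.node (nat_lit 44) (BT.leaf ⟨[(nat_lit 4), (nat_lit 8), (nat_lit 7), (nat_lit 1), (nat_lit 4), (nat_lit 1)], (nat_lit 20), (nat_lit 3), (nat_lit 0), (nat_lit 4)⟩) (BT.leaf ⟨[(nat_lit 9), (nat_lit 2), (nat_lit 9), (nat_lit 3)], (nat_lit 123), (nat_lit 0), (nat_lit 0), (nat_lit 4)⟩))))) (BT.node (nat_lit 52) (BT.node (nat_lit 48) (BT.node (nat_lit 46) (BT.leaf ⟨[(nat_lit 1), (nat_lit 2), (nat_lit 6), (nat_lit 3), (nat_lit 1), (nat_lit 2), (nat_lit 6), (nat_lit 3)], (nat_lit 178), (nat_lit 3), (nat_lit 0),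 (nat_lit 4)⟩) (BT.node (nat_lit 47) (BT.leaf ⟨[(nat_lit 6), (nat_lit 10), (nat_lit 6), (nat_lit 10), (nat_lit 1), (nat_lit 6), (nat_lit 10)], (nat_lit 280), (nat_lit 3), (nat_lit 0), (nat_lit 4)⟩) (BT.leaf ⟨[(nat_lit 8), (nat_lit 8)], (nat_lit 3), (nat_lit 0), (nat_lit 0), (nat_lit 4)⟩))) (BT.node (nat_lit 50) (BT.node (nat_lit 49) (BT.leaf ⟨[(nat_lit 8), (nat_lit 2), (nat_lit 5), (nat_lit 4), (nat_lit 6), (nat_lit 3)], (nat_lit 22), (nat_lit 5), (nat_lit 0), (nat_lit 4)⟩) (BT.leaf ⟨[(nat_lit 1), (nat_lit 2), (nat_lit 1), (nat_lit 2), (nat_lit 1), (nat_lit 2)], (nat_lit 19), (nat_lit 0), (nat_lit 0), (nat_lit 4)⟩)) (BT.node (nat_lit 51) (BT.leaf ⟨[(nat_lit 4), (nat_lit 2), (nat_lit 4), (nat_lit 2)], (nat_lit 8), (nat_lit 1), (nat_lit 0), (nat_lit 4)⟩) (BT.leaf ⟨[(nat_lit 5), (nat_lit 1), (nat_lit 6), (nat_lit 1)], (nat_lit 9), (nat_lit 1), (nat_lit 0), (nat_lit 4)⟩)))) (BT.node (nat_lit 56) (BT.node (nat_lit 54) (BT.node (nat_lit 53) (BT.leaf ⟨[(nat_lit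 1), (nat_lit 8), (nat_lit 1), (nat_lit 8)], (nat_lit 14), (nat_lit 0), (nat_lit 0), (nat_lit 4)⟩) (BT.leaf ⟨[(nat_lit 3), (nat_lit 10), (nat_lit 2), (nat_lit 10)], (nat_lit 130), (nat_lit 3), (nat_lit 0), (nat_lit 4)⟩)) (BT.node (nat_lit 55) (BT.leaf ⟨[(nat_lit 7), (nat_lit 7)], (nat_lit 2), (nat_lit 0), (nat_lit 0), (nat_lit 4)⟩) (BT.leaf ⟨[(nat_lit 4), (nat_lit 7), (nat_lit 4), (nat_lit 7)], (nat_lit 12), (nat_lit 0), (nat_lit 0), (nat_lit 4)⟩))) (BT.node (nat_lit 58) (BT.node (nat_lit 57) (BT.leaf ⟨[(nat_lit 8), (nat_lit 3), (nat_lit 6), (nat_lit 4), (nat_lit 5), (nat_lit 4), (nat_lit 1), (nat_lit 2)], (nat_lit 32), (nat_lit 2), (nat_lit 0), (nat_lit 4)⟩) (BT.leaf ⟨[(nat_lit 4), (nat_lit 6), (nat_lit 2), (nat_lit 7), (nat_lit 8), (nat_lit 3), (nat_lit 5), (nat_lit 8)], (nat_lit 34), (nat_lit 6), (nat_lit 0), (nat_lit 4)⟩)) (BT.node (nat_lit 59) (BT.leaf ⟨[(nat_lit 3), (nat_lit 5), (nat_lit 10), (nat_lit 6), (nat_lit 8), (nat_lit 3), (nat_lit 1), (nat_lit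 4), (nat_lit 1), (nat_lit 5), (nat_lit 10), (nat_lit 6), (nat_lit 2), (nat_lit 5), (nat_lit 10), (nat_lit 6), (nat_lit 3), (nat_lit 5), (nat_lit 10), (nat_lit 6), (nat_lit 4), (nat_lit 5), (nat_lit 10), (nat_lit 6), (nat_lit 2), (nat_lit 5), (nat_lit 10), (nat_lit 6)], (nat_lit 137), (nat_lit 19), (nat_lit 0), (nat_lit 4)⟩) (BT.leaf ⟨[(nat_lit 4), (nat_lit 1), (nat_lit 4), (nat_lit 8), (nat_lit 7), (nat_lit 1)], (nat_lit 20), (nat_lit 1), (nat_lit 0), (nat_lit 4)⟩))))))) (BT.node (nat_lit 90) (BT.node (nat_lit 75) (BT.node (nat_lit 67) (BT.node (nat_lit 63) (BT.node (nat_lit 61) (BT.leaf ⟨[(nat_lit 10), (nat_lit 4), (nat_lit 7), (nat_lit 10), (nat_lit 4)], (nat_lit 132), (nat_lit 2), (nat_lit 0), (nat_lit 4)⟩) (BT.node (nat_lit 62) (BT.leaf ⟨[(nat_lit 1), (nat_lit 3), (nat_lit 5), (nat_lit 2), (nat_lit 1), (nat_lit 3), (nat_lit 5), (nat_lit 2)], (nat_lit 33), (nat_lit 0), (nat_lit 0), (nat_lit 4)⟩) (BT.leaf ⟨[(nat_lit 8), (nat_lit 2), (nat_lit 8), (nat_lit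 2), (nat_lit 8), (nat_lit 2)], (nat_lit 23), (nat_lit 1), (nat_lit 0), (nat_lit 4)⟩))) (BT.node (nat_lit 65) (BT.node (nat_lit 64) (BT.leaf ⟨[(nat_lit 9), (nat_lit 9)], (nat_lit 120), (nat_lit 0), (nat_lit 0), (nat_lit 4)⟩) (BT.leaf ⟨[(nat_lit 1), (nat_lit 4), (nat_lit 7), (nat_lit 8), (nat_lit 1), (nat_lit 4)], (nat_lit 21), (nat_lit 2), (nat_lit 0), (nat_lit 4)⟩)) (BT.node (nat_lit 66) (BT.leaf ⟨[(nat_lit 1), (nat_lit 2), (nat_lit 5), (nat_lit 3), (nat_lit 1), (nat_lit 2), (nat_lit 5), (nat_lit 3)], (nat_lit 31), (nat_lit 0), (nat_lit 0), (nat_lit 4)⟩) (BT.leaf ⟨[(nat_lit 9), (nat_lit 1), (nat_lit 9), (nat_lit 1)], (nat_lit 122), (nat_lit 0), (nat_lit 0), (nat_lit 4)⟩)))) (BT.node (nat_lit 71) (BT.node (nat_lit 69) (BT.node (nat_lit 68) (BT.leaf ⟨[(nat_lit 1), (nat_lit 7), (nat_lit 1), (nat_lit 7)], (nat_lit 10), (nat_lit 0), (nat_lit 0), (nat_lit 4)⟩) (BT.leaf ⟨[(nat_lit 8), (nat_lit 7), (nat_lit 8), (nat_lit 7)], (nat_lit 16), (nat_lit 1), (nat_lit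 0), (nat_lit 4)⟩)) (BT.node (nat_lit 70) (BT.leaf ⟨[(nat_lit 9), (nat_lit 4), (nat_lit 9), (nat_lit 4)], (nat_lit 124), (nat_lit 0), (nat_lit 0), (nat_lit 4)⟩) (BT.leaf ⟨[(nat_lit 8), (nat_lit 1), (nat_lit 4), (nat_lit 1), (nat_lit 4), (nat_lit 7)], (nat_lit 21), (nat_lit 5), (nat_lit 0), (nat_lit 4)⟩))) (BT.node (nat_lit 73) (BT.node (nat_lit 72) (BT.leaf ⟨[(nat_lit 8), (nat_lit 4), (nat_lit 1), (nat_lit 4), (nat_lit 1), (nat_lit 7)], (nat_lit 167), (nat_lit 1), (nat_lit 0), (nat_lit 4)⟩) (BT.leaf ⟨[(nat_lit 8), (nat_lit 6), (nat_lit 7), (nat_lit 8), (nat_lit 5)], (nat_lit 18), (nat_lit 1), (nat_lit 0), (nat_lit 4)⟩)) (BT.node (nat_lit 74) (BT.leaf ⟨[(nat_lit 10), (nat_lit 5), (nat_lit 10), (nat_lit 5), (nat_lit 1), (nat_lit 10), (nat_lit 5)], (nat_lit 133), (nat_lit 2), (nat_lit 0), (nat_lit 4)⟩) (BT.leaf ⟨[(nat_lit 6), (nat_lit 1), (nat_lit 5), (nat_lit 1)], (nat_lit 9), (nat_lit 3), (nat_lit 0), (nat_lit 4)⟩))))) (BT.node (nat_lit 82) (BT.node (nat_lit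 78) (BT.node (nat_lit 76) (BT.leaf ⟨[(nat_lit 5), (nat_lit 5), (nat_lit 5)], (nat_lit 5), (nat_lit 0), (nat_lit 0), (nat_lit 4)⟩) (BT.node (nat_lit 77) (BT.leaf ⟨[(nat_lit 10), (nat_lit 1), (nat_lit 10), (nat_lit 1)], (nat_lit 129), (nat_lit 0), (nat_lit 0), (nat_lit 4)⟩) (BT.leaf ⟨[(nat_lit 3), (nat_lit 5), (nat_lit 10), (nat_lit 6), (nat_lit 2), (nat_lit 6), (nat_lit 1), (nat_lit 4), (nat_lit 3), (nat_lit 5), (nat_lit 10), (nat_lit 6), (nat_lit 2), (nat_lit 5), (nat_lit 10), (nat_lit 6), (nat_lit 3), (nat_lit 5), (nat_lit 10), (nat_lit 6), (nat_lit 5), (nat_lit 5), (nat_lit 10), (nat_lit 6), (nat_lit 2), (nat_lit 5), (nat_lit 10), (nat_lit 6)], (nat_lit 138), (nat_lit 19), (nat_lit 0), (nat_lit 4)⟩))) (BT.node (nat_lit 80) (BT.node (nat_lit 79) (BT.leaf ⟨[(nat_lit 2), (nat_lit 5), (nat_lit 3), (nat_lit 5), (nat_lit 2), (nat_lit 5), (nat_lit 3), (nat_lit 6), (nat_lit 2), (nat_lit 5), (nat_lit 3), (nat_lit 5), (nat_lit 2), (nat_lit 5), (nat_lit 3), (nat_lit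 6)], (nat_lit 119), (nat_lit 0), (nat_lit 0), (nat_lit 4)⟩) (BT.leaf ⟨[(nat_lit 3), (nat_lit 6), (nat_lit 4), (nat_lit 8), (nat_lit 3), (nat_lit 1), (nat_lit 8), (nat_lit 2), (nat_lit 6), (nat_lit 2), (nat_lit 5), (nat_lit 8), (nat_lit 1), (nat_lit 6)], (nat_lit 262), (nat_lit 8), (nat_lit 0), (nat_lit 4)⟩)) (BT.node (nat_lit 81) (BT.leaf ⟨[(nat_lit 10), (nat_lit 7), (nat_lit 10), (nat_lit 7)], (nat_lit 131), (nat_lit 0), (nat_lit 0), (nat_lit 4)⟩) (BT.leaf ⟨[(nat_lit 7), (nat_lit 5), (nat_lit 7), (nat_lit 8), (nat_lit 6)], (nat_lit 17), (nat_lit 4), (nat_lit 0), (nat_lit 4)⟩)))) (BT.node (nat_lit 86) (BT.node (nat_lit 84) (BT.node (nat_lit 83) (BT.leaf ⟨[(nat_lit 8), (nat_lit 3), (nat_lit 1), (nat_lit 4), (nat_lit 6), (nat_lit 4), (nat_lit 5), (nat_lit 2)], (nat_lit 179), (nat_lit 5), (nat_lit 0), (nat_lit 4)⟩) (BT.leaf ⟨[(nat_lit 8), (nat_lit 7), (nat_lit 6), (nat_lit 7), (nat_lit 5)], (nat_lit 164), (nat_lit 2), (nat_lit 0), (nat_lit 4)⟩)) (BT.node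 (nat_lit 85) (BT.leaf ⟨[(nat_lit 2), (nat_lit 5), (nat_lit 3), (nat_lit 6), (nat_lit 2), (nat_lit 6), (nat_lit 3), (nat_lit 6), (nat_lit 2), (nat_lit 5), (nat_lit 3), (nat_lit 6), (nat_lit 2), (nat_lit 6), (nat_lit 3), (nat_lit 6)], (nat_lit 263), (nat_lit 1), (nat_lit 0), (nat_lit 4)⟩) (BT.leaf ⟨[(nat_lit 2), (nat_lit 6), (nat_lit 3), (nat_lit 6), (nat_lit 4), (nat_lit 5), (nat_lit 8), (nat_lit 3), (nat_lit 6), (nat_lit 2), (nat_lit 5), (nat_lit 3), (nat_lit 1), (nat_lit 4), (nat_lit 3), (nat_lit 5)], (nat_lit 265), (nat_lit 3), (nat_lit 0), (nat_lit 4)⟩))) (BT.node (nat_lit 88) (BT.node (nat_lit 87) (BT.leaf ⟨[(nat_lit 2), (nat_lit 4), (nat_lit 2), (nat_lit 4)], (nat_lit 8), (nat_lit 0), (nat_lit 0), (nat_lit 4)⟩) (BT.leaf ⟨[(nat_lit 2), (nat_lit 2), (nat_lit 2)], (nat_lit 4), (nat_lit 0), (nat_lit 0), (nat_lit 4)⟩)) (BT.node (nat_lit 89) (BT.leaf ⟨[(nat_lit 3), (nat_lit 9), (nat_lit 2), (nat_lit 9)], (nat_lit 123), (nat_lit 3), (nat_lit 0), (nat_lit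 4)⟩) (BT.leaf ⟨[(nat_lit 2), (nat_lit 8), (nat_lit 3), (nat_lit 5), (nat_lit 4), (nat_lit 7), (nat_lit 6)], (nat_lit 27), (nat_lit 0), (nat_lit 0), (nat_lit 4)⟩)))))) (BT.node (nat_lit 105) (BT.node (nat_lit 97) (BT.node (nat_lit 93) (BT.node (nat_lit 91) (BT.leaf ⟨[(nat_lit 3), (nat_lit 4), (nat_lit 8), (nat_lit 3), (nat_lit 6), (nat_lit 4), (nat_lit 1), (nat_lit 7), (nat_lit 5)], (nat_lit 193), (nat_lit 2), (nat_lit 0), (nat_lit 4)⟩) (BT.node (nat_lit 92) (BT.leaf ⟨[(nat_lit 3), (nat_lit 6), (nat_lit 7), (nat_lit 5), (nat_lit 4), (nat_lit 8), (nat_lit 3), (nat_lit 7), (nat_lit 4)], (nat_lit 216), (nat_lit 8), (nat_lit 0), (nat_lit 4)⟩) (BT.leaf ⟨[(nat_lit 2), (nat_lit 1), (nat_lit 3), (nat_lit 5), (nat_lit 2), (nat_lit 1), (nat_lit 3), (nat_lit 5)], (nat_lit 33), (nat_lit 3), (nat_lit 0), (nat_lit 4)⟩))) (BT.node (nat_lit 95) (BT.node (nat_lit 94) (BT.leaf ⟨[(nat_lit 3), (nat_lit 5), (nat_lit 7), (nat_lit 4), (nat_lit 6), (nat_lit 2), (nat_lit 8)], (nat_lit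 174), (nat_lit 6), (nat_lit 0), (nat_lit 4)⟩) (BT.leaf ⟨[(nat_lit 2), (nat_lit 5), (nat_lit 8), (nat_lit 6), (nat_lit 3), (nat_lit 5), (nat_lit 4), (nat_lit 8), (nat_lit 6)], (nat_lit 64), (nat_lit 0), (nat_lit 0), (nat_lit 4)⟩)) (BT.node (nat_lit 96) (BT.leaf ⟨[(nat_lit 4), (nat_lit 8), (nat_lit 4), (nat_lit 8)], (nat_lit 15), (nat_lit 0), (nat_lit 0), (nat_lit 4)⟩) (BT.leaf ⟨[(nat_lit 10), (nat_lit 9), (nat_lit 10), (nat_lit 9), (nat_lit 7)], (nat_lit 128), (nat_lit 0), (nat_lit 0), (nat_lit 4)⟩)))) (BT.node (nat_lit 101) (BT.node (nat_lit 99) (BT.node (nat_lit 98) (BT.leaf ⟨[(nat_lit 4), (nat_lit 5), (nat_lit 2), (nat_lit 8), (nat_lit 3), (nat_lit 1), (nat_lit 4), (nat_lit 6)], (nat_lit 179), (nat_lit 2), (nat_lit 0), (nat_lit 4)⟩) (BT.leaf ⟨[(nat_lit 3), (nat_lit 7), (nat_lit 2), (nat_lit 7)], (nat_lit 11), (nat_lit 2), (nat_lit 0), (nat_lit 4)⟩)) (BT.node (nat_lit 100) (BT.leaf ⟨[(nat_lit 2), (nat_lit 5), (nat_lit 3), (nat_lit 8), (nat_lit 7), (nat_lit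 1), (nat_lit 2), (nat_lit 5), (nat_lit 2), (nat_lit 6), (nat_lit 4), (nat_lit 5)], (nat_lit 107), (nat_lit 7), (nat_lit 0), (nat_lit 4)⟩) (BT.leaf ⟨[(nat_lit 3), (nat_lit 8), (nat_lit 4), (nat_lit 3), (nat_lit 1), (nat_lit 6), (nat_lit 4), (nat_lit 5), (nat_lit 7)], (nat_lit 185), (nat_lit 4), (nat_lit 0), (nat_lit 4)⟩))) (BT.node (nat_lit 103) (BT.node (nat_lit 102) (BT.leaf ⟨[(nat_lit 4), (nat_lit 9), (nat_lit 4), (nat_lit 9)], (nat_lit 124), (nat_lit 1), (nat_lit 0), (nat_lit 4)⟩) (BT.leaf ⟨[(nat_lit 2), (nat_lit 7), (nat_lit 3), (nat_lit 7)], (nat_lit 11), (nat_lit 0), (nat_lit 0), (nat_lit 4)⟩)) (BT.node (nat_lit 104) (BT.leaf ⟨[(nat_lit 2), (nat_lit 5), (nat_lit 4), (nat_lit 6), (nat_lit 3), (nat_lit 8)], (nat_lit 22), (nat_lit 0), (nat_lit 0), (nat_lit 4)⟩) (BT.leaf ⟨[(nat_lit 6), (nat_lit 2), (nat_lit 5), (nat_lit 3), (nat_lit 5), (nat_lit 2), (nat_lit 5), (nat_lit 3), (nat_lit 6), (nat_lit 2), (nat_lit 5), (nat_lit 3), (nat_lit 5), (nat_lit 2),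 (nat_lit 5), (nat_lit 3)], (nat_lit 119), (nat_lit 7), (nat_lit 0), (nat_lit 4)⟩))))) (BT.node (nat_lit 112) (BT.node (nat_lit 108) (BT.node (nat_lit 106) (BT.leaf ⟨[(nat_lit 5), (nat_lit 3), (nat_lit 4), (nat_lit 7), (nat_lit 3), (nat_lit 6), (nat_lit 2), (nat_lit 8), (nat_lit 3)], (nat_lit 207), (nat_lit 7), (nat_lit 0), (nat_lit 4)⟩) (BT.node (nat_lit 107) (BT.leaf ⟨[(nat_lit 5), (nat_lit 2), (nat_lit 1), (nat_lit 3), (nat_lit 5), (nat_lit 2), (nat_lit 1), (nat_lit 3)], (nat_lit 33), (nat_lit 2), (nat_lit 0), (nat_lit 4)⟩) (BT.leaf ⟨[(nat_lit 6), (nat_lit 7), (nat_lit 8), (nat_lit 5), (nat_lit 8)], (nat_lit 18), (nat_lit 2), (nat_lit 0), (nat_lit 4)⟩))) (BT.node (nat_lit 110) (BT.node (nat_lit 109) (BT.leaf ⟨[(nat_lit 5), (nat_lit 4), (nat_lit 1), (nat_lit 4), (nat_lit 6), (nat_lit 7), (nat_lit 1)], (nat_lit 172), (nat_lit 4), (nat_lit 0), (nat_lit 4)⟩) (BT.leaf ⟨[(nat_lit 6), (nat_lit 3), (nat_lit 8), (nat_lit 2), (nat_lit 5), (nat_lit 4)], (nat_lit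 22), (nat_lit 3), (nat_lit 0), (nat_lit 4)⟩)) (BT.node (nat_lit 111) (BT.leaf ⟨[(nat_lit 1), (nat_lit 4), (nat_lit 1), (nat_lit 8), (nat_lit 7), (nat_lit 4)], (nat_lit 168), (nat_lit 3), (nat_lit 0), (nat_lit 4)⟩) (BT.leaf ⟨[(nat_lit 6), (nat_lit 3), (nat_lit 1), (nat_lit 2), (nat_lit 6), (nat_lit 3), (nat_lit 1), (nat_lit 2)], (nat_lit 178), (nat_lit 1), (nat_lit 0), (nat_lit 4)⟩)))) (BT.node (nat_lit 116) (BT.node (nat_lit 114) (BT.node (nat_lit 113) (BT.leaf ⟨[(nat_lit 5), (nat_lit 8), (nat_lit 6), (nat_lit 1), (nat_lit 4), (nat_lit 1), (nat_lit 4)], (nat_lit 24), (nat_lit 4), (nat_lit 0), (nat_lit 4)⟩) (BT.leaf ⟨[(nat_lit 6), (nat_lit 7), (nat_lit 5), (nat_lit 4), (nat_lit 7), (nat_lit 8), (nat_lit 4)], (nat_lit 29), (nat_lit 1), (nat_lit 0), (nat_lit 4)⟩)) (BT.node (nat_lit 115) (BT.leaf ⟨[(nat_lit 5), (nat_lit 7), (nat_lit 6), (nat_lit 8)], (nat_lit 13), (nat_lit 0), (nat_lit 0), (nat_lit 4)⟩) (BT.leaf ⟨[(nat_lit 8), (nat_lit 2), (nat_lit 1), (nat_lit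 3), (nat_lit 7), (nat_lit 8), (nat_lit 2), (nat_lit 1), (nat_lit 3)], (nat_lit 44), (nat_lit 7), (nat_lit 0), (nat_lit 4)⟩))) (BT.node (nat_lit 118) (BT.node (nat_lit 117) (BT.leaf ⟨[(nat_lit 5), (nat_lit 7), (nat_lit 4), (nat_lit 6), (nat_lit 3), (nat_lit 5), (nat_lit 4), (nat_lit 6), (nat_lit 2)], (nat_lit 210), (nat_lit 4), (nat_lit 0), (nat_lit 4)⟩) (BT.leaf ⟨[(nat_lit 6), (nat_lit 8), (nat_lit 7), (nat_lit 5), (nat_lit 8)], (nat_lit 165), (nat_lit 4), (nat_lit 0), (nat_lit 4)⟩)) (BT.node (nat_lit 119) (BT.leaf ⟨[(nat_lit 3), (nat_lit 4), (nat_lit 3), (nat_lit 4)], (nat_lit 155), (nat_lit 1), (nat_lit 0), (nat_lit 4)⟩) (BT.leaf ⟨[(nat_lit 0), (nat_lit 10), (nat_lit 6), (nat_lit 2), (nat_lit 5), (nat_lit 10), (nat_lit 6), (nat_lit 3), (nat_lit 5), (nat_lit 10), (nat_lit 6), (nat_lit 6), (nat_lit 5), (nat_lit 10), (nat_lit 6), (nat_lit 2), (nat_lit 5), (nat_lit 10), (nat_lit 6), (nat_lit 3), (nat_lit 5), (nat_lit 10), (nat_lit 6), (nat_lit 2), (nat_lit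 4), (nat_lit 1), (nat_lit 5), (nat_lit 3), (nat_lit 5)], (nat_lit 285), (nat_lit 6), (nat_lit 1), (nat_lit 4)⟩))))))))
noncomputable def eCo1_hcs : List CW := [⟨[(nat_lit 1)], (nat_lit 0), (nat_lit 0), (nat_lit 0), (nat_lit 0)⟩, ⟨[(nat_lit 2)], (nat_lit 1), (nat_lit 0), (nat_lit 0), (nat_lit 0)⟩, ⟨[(nat_lit 4)], (nat_lit 2), (nat_lit 0), (nat_lit 0), (nat_lit 0)⟩, ⟨[(nat_lit 5)], (nat_lit 3), (nat_lit 0), (nat_lit 0), (nat_lit 0)⟩, ⟨[(nat_lit 7)], (nat_lit 4), (nat_lit 0), (nat_lit 0), (nat_lit 0)⟩, ⟨[(nat_lit 8)], (nat_lit 5), (nat_lit 0), (nat_lit 0), (nat_lit 0)⟩, ⟨[(nat_lit 9)], (nat_lit 6), (nat_lit 0), (nat_lit 0), (nat_lit 0)⟩, ⟨[(nat_lit 1)], (nat_lit 7), (nat_lit 0), (nat_lit 0), (nat_lit 0)⟩, ⟨[(nat_lit 3)], (nat_lit 8), (nat_lit 0), (nat_lit 0), (nat_lit 0)⟩, ⟨[(nat_lit 4)], (nat_lit 9), (nat_lit 0), (nat_lit 0), (nat_lit 0)⟩, ⟨[(nat_lit 6)], (nat_lit 10), (nat_lit 0), (nat_lit 0), (nat_lit 0)⟩, ⟨[(nat_lit 7)], (nat_lit 11), (nat_lit 0), (nat_lit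 0), (nat_lit 0)⟩, ⟨[(nat_lit 8)], (nat_lit 12), (nat_lit 0), (nat_lit 0), (nat_lit 0)⟩, ⟨[(nat_lit 9)], (nat_lit 13), (nat_lit 0), (nat_lit 0), (nat_lit 0)⟩]
noncomputable def eCo1_H (x j : Nat) : Bx (Nat → Nat → Nat) := mkH eCo1_L eCo1_pb.1 eCo1_e.get (lmap CW.w eCo1_hcs) (nat_lit 1) (nat_lit 2) (nat_lit 11) (nat_lit 512) (nat_lit 65536) (nat_lit 32767) x (eCo1_rots.get j)
noncomputable def eCo1_F (x b : Nat) : Bool := blkOK eCo1_H eCo1_ch (nat_lit 2) (nat_lit 512) (nat_lit 128) (nat_lit 7) (nat_lit 127) (nat_lit 23) (nat_lit 8388607) x b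

theorem eCo1_k0_0 : allFrom (eCo1_F (nat_lit 0)) (nat_lit 0) (nat_lit 8) = true := by decide +kernel
theorem eCo1_k1_0 : allFrom (eCo1_F (nat_lit 1)) (nat_lit 0) (nat_lit 8) = true := by decide +kernel
theorem eCo1_k2_0 : allFrom (eCo1_F (nat_lit 2)) (nat_lit 0) (nat_lit 8) = true := by decide +kernel
theorem eCo1_k3_0 : allFrom (eCo1_F (nat_lit 3)) (nat_lit 0) (nat_lit 8) = true := by decide +kernel
theorem eCo1_k4_0 : allFrom (eCo1_F (nat_lit 4)) (nat_lit 0) (nat_lit 8) = true := by decide +kernel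
theorem eCo1_k5_0 : allFrom (eCo1_F (nat_lit 5)) (nat_lit 0) (nat_lit 8) = true := by decide +kernel
theorem eCo1_k6_0 : allFrom (eCo1_F (nat_lit 6)) (nat_lit 0) (nat_lit 8) = true := by decide +kernel
theorem eCo1_k7_0 : allFrom (eCo1_F (nat_lit 7)) (nat_lit 0) (nat_lit 8) = true := by decide +kernel
theorem eCo1_k8_0 : allFrom (eCo1_F (nat_lit 8)) (nat_lit 0) (nat_lit 8) = true := by decide +kernel
theorem eCo1_k9_0 : allFrom (eCo1_F (nat_lit 9)) (nat_lit 0) (nat_lit 8) = true := by decide +kernel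
theorem eCo1_k10_0 : allFrom (eCo1_F (nat_lit 10)) (nat_lit 0) (nat_lit 8) = true := by decide +kernel

noncomputable def eCo2_c0 : BT (Bx Nat) := (BT.node (nat_lit 2) (BT.node (nat_lit 1) (BT.leaf (Bx.mk (nat_lit 0x180c5200000000000000000000000000000000000000000000000000007832f000000000000000000000000d0629220cbc0000000000000000000000000000000000000000000000000000803320a0605000000000000000000000000000003818e87032d80000000000000000000000000000000000000000000000000001e0c5800000000000000000000000000000000000000000000002818b000000000000000000000000000000c063700000000000000000130633000000000000000000000000000003418dc00000000000100c0800000000000000000160c52000000000000000000000000000000000009060500000018181048303800000180c282c18280000000000000000000000000000000000000000000000000000000000000000000000000000000000000000000000000000000000000000000000000a060e000000181808000000000000000001c1808383020000000a0c0620181440301840603060c0404180400000000000))) (BT.leaf (Bx.mk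 (nat_lit 0x401b50000000e06d300000000000000000000000060c0630184068315000000240da8000000000000000000000000000000000000000000000000000000000000000000000000000000000c06de1e0dba3018985030480000000000000000000000000000000000000000000000000001a0c4e000000000000000001c0c523c19780000000000000000000000000000120665220cc800000000000000000000000441990883328000000000000000008032f13065d000000000000000001306871e0cbc000000000000000000000000000000000000000000000000000000000000000000000000000000000000001a0c520000000000000000000000000000000000000000240ce000000000000000000000000000000000000000000000000000009833a9406740000000000000000012067f00000000000000000000000000000000000000000000000000000000000000000000000000000000000000000000)))) (BT.node (nat_lit 3) (BT.leaf (Bx.mk (nat_lit 0x280ed80000000000013076b2dc2dc4c1dd8903b2800000220ec8481db00000013076e00000000000000000000000220eca401d9000000000000260eca0000000000000000000000000000000000000000220de4401bc49837d0000000000000000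00983701206df1a0dbc381b7400000000000000000481b788836e9206e000000000000000000000000000000441b50a0369800000000000501c44000001206fa0000000000000000000000000000000000000000000000240dbc0000008836f000000000000000000000000000001e0da608180400000000000000000000000000000000001e0df04c1bc8903788000000000000000000000000000000000000000000000000000000000000000000001206d4000000541be0000001106f200000000000000000000000000000000000000000000001a0da60000008837900000000000000000000000000000000000000000000000000001e0da60000008037900000000000000000000000000000))) (BT.leaf (Bx.mk (nat_lit 0x903cc80000000000000000000000000000000000000000000001407822a0f14541e3c00000140785280ed04c1de4a83b20000002a0eec501dbc000000000000000004c1e14983b393076e220eda4c1dd800000120777)))))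
noncomputable def eCo2_c1 : BT (Bx Nat) := (BT.node (nat_lit 2) (BT.node (nat_lit 1) (BT.leaf (Bx.mk (nat_lit 0x5f118ee93a38000002b88ca7658d6ec79a9d8734aa88a5509d68ec3999644542a4eb76c9d46000001b2750b64ead76f8bad93a79b27583d7c60000000000001d273c800000589d48e939d94275c2a4ea7000000000001b274ebc4e6c6c9d5cd93a81d2737b00e3b605874c078e580729302c51603ca0dcb0f180721302c41603c80bd39657a72c2f4e57701c90e0b11dc0f23390e2b725854e478a5c9617b74e4f6e9c9cdd3935c8719392c31723c60bd39557a72a2f4e537a1c70f4b0dde8f1b0000005e9cb8bd396c000003c4e3f789c7cf138f5e87173d2c2d7a3c58e13915c2722384e43709c92f138d5e271a3c4e33709c98e1392dc2725390e1c64d030c9a08dc870cb2681b629c4cec3859d290f3b6411761c26e53885db20a384e28629c48fd305dc2712b14e277c9c34000001fae093a4e1d749c3ef93855d27103b2c0c763c16f4b029e8f04ba4e10749c1ef13839e2706bd52067e980af13821f2703c02c04803c0704380a18300800000))) (BT.leaf (Bx.mk (nat_lit 0x509e62993d1400000392ce3000000a93cdc00000284f486c1ddad43bd400000000000689e80d13cfc00000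000000723da6000001aa77b800000000000e83b89c8774000000709e0000000000000000000000000000001327a5a64f4a000000a13cd400000360ed500000000000000000344f2a00000000000000000344f2f709dde00000170f452e0e894e9d8400000170f602e0ebf549d1aa939f17075f000000000000b8b26d70f4d2e0e995c1d2ca2233d427438000005a9d98b53b24000000000006c5956d87aa9b0754a9526556c8e8d83a98000002964776e58c6000001b873137526d6cc938dc397dba93836649f000000d53ae9aa75c80000056f8c8d53ad8000002d68676e58e6dc79c9b8738b7525e6a9d58dc39b9ba930b54eaf0000000000016a7622c8485000000b53b0d627442a88ce000000ec7a09d8740af88c85f1178ec39f95c4658000000000000000016a7682d82955311820000015a74c000000000000000001d2748af88bd)))) (BT.node (nat_lit 3) (BT.leaf (Bx.mk (nat_lit 0x1987b32a0f774c9f2600000000000000000529ef8953e3c00000000000000000000001327c0800000509f08993e2800000324f866e1ec800000000000244f8b000000c93df5927c0364f6b4e5aac9c7d5548f8f2c1f50543e32b0b53d7168e0000005c5a0ab87c1160f932c2d23000000993d8d327b1282d11503e207c3d4400000000000000000b87c1d70f8db41f384e1dc29cb38138f6fa91ef8685a660000013967f271efd6a3dd6d07ca000000350ef36a59e4d47bc5a1697341f2d4e1e64743ce400000000000563df40000014966f291edd00000000000148f7f8000006a3da80000019a79e352cee000000d4b36000000000000501e4400000150f860000000000000000016078aac1f13000000a13d85c8f84ad4f5d5a9e9ae4b40c000000000000000000000015a790800000569e400000013a7aa00000000000000000000000294f25000000000000000000000005a9e9c0000000000000000000000000000000000391ee7)))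 (BT.leaf (Bx.mk (nat_lit 0xd87ce000000461f340000000000000000000000000000000000250f904e1ef6b03de8000000000004c1eecb03dd1607bca51f694a1ed09c3db800000250f70663edacc3db000000290f6f0000009c3d9d387b8b30f65)))))
noncomputable def eCo2_c2 : BT (Bx Nat) := (BT.node (nat_lit 2) (BT.node (nat_lit 1) (BT.leaf (Bx.mk (nat_lit 0x80790000000211e1b403c7d00000000000000000423c348078f000000211e19c03c7500000000000000000423c3100000000000211e1800000000000000000000000423c2d8078d000000211e1600000000000100f35e11e1500000000000108f0a40000041102886059c000000000004302ca86058e00000000000000000860582000000000004302bc0000010c0ade1815a00000086055f0c0ab18082b41101f86054f0c0a900000043029f8605390440721814bc302947c78850c0a3e181460000008220330c0a1e181420000008604ff0c09f20880b4302778604e800000218137c3026c00000104404e18133c302640000010c09821812e80000084782100f09e01e290000008078480000000000000000080788b08f03601e0f00000084781900f06e01e1c423c0b00000100f0ca11e05403c1580785708f02601e094302268604470c08821810ec3021a86042f0c085218108c23c0480781108f00e01e0343020786040b04400a18300800000)))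 (BT.leaf (Bx.mk (nat_lit 0x20d950000000af553800000253d4a000000000000000000000000000008cf558000000000000000000000000000041106e456654000000000000000003db2bd0441a5f1e730000006e7a0600000208833243d070000009accdc0000000000000000000000208831233ceb0000000000000000032b3204e7a5c0000000000000000000000100f33c00000000000000000000000000000000000000000000000000000000000000108f14e01e610000000000000000000000000000000000000000000000423c4e00000100f51800000403cb500000000000000000423c4b80796000000211e2500000000000000000000000423c4700000000000211e2300000000000000000000000423c4480794000000211e21c03c9d0000000000000000000000000000000000211e20403c9500000000000000000423c3e00000000000000000403c8d00000000000201e89423c3a80791100f42e11e1cc03c8500000000000201e83423c37)))) (BT.node (nat_lit 3) (BT.leaf (Bx.mk (nat_lit 0x1188b33211794e22ec000000000001e3d885222e600000000000000000000000f845c000000000000527b1c8cf62c000000000005422d600000000000223d7400000000000000000253d7f00000000000136ab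08000000000000000010ea7c00000049aa5e000001008a080000082218692c5340000024d51e000000000000000000000000000000000000000000000000000080f5740000000000041621200000000000000000000000000000000004110ae49aa2600000000000000000000000000000000000000004f9e38000000000000000005bb29e000001158948000000000000000000000000000082213c96c3617e192000000000000b8f3d000000000000457db40000020884b34af1b000000a6ec440000040acde6761a800000101ea2800000000000aea3ba08844800000527a0a000000000000000006349ac00000208843000000000000000000000004110814e7a6af8f420000000000000000010273f800000343d1d))) (BT.leaf (Bx.mk (nat_lit 0x4823267c45b80000022118d4422f600000000000000000000000a445bc000000000000000008845dd308b20000000000008c45a000000000000)))))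
noncomputable def eCo2_c3 : BT (Bx Nat) := (BT.node (nat_lit 2) (BT.node (nat_lit 1) (BT.leaf (Bx.mk (nat_lit 0x84246e00000209f3e42123600000000000000000413e7784246800000209f3a42123300000000000000000413e6f842463004bb209f3642123000000000000200973413e6784245b004b8609f3242122c00000000000209f3042122a00000104f9761091480000086059e000000000004302cb8605900000000000000000086058505b094000004302bd0000010c0ae21815a8000008605610c0ab4000000000008605510c0a960b60fc302a086053afdb0fe1814c43029582d8390c0a4218146b2762f0000010c0a2218142c16c198605010c09f5fb6194302788604eb05b05a1813843026d0000000000021813443026582d8270c09861812f40125c827c4d08484000000413e2384241e00000209f1042120e00000104f87610906800000827c350848320091dc13e178424170048d609f0a42120a80245d04f84610904c302278604490c08861810f43021b8604310c085618109413e0784240904f81610901c3020886040d00480a10400800000))) (BT.leaf (Bx.mk (nat_lit 0xfc4c0800000000000000000ab35200000020135d000000000000000002fc12600000000000000000000000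5771de000000000000000004989b000000000000000000000000fdb3960b63480000000000000000000000243f3500000000000000000000000000000844c8c0000024132a82d8c4c04c3c000000000004fa67a00000000000000000827d9d08496c0000000000000000000000000000413ec78424ae0000000000000000000000104fb06109298000000000000000000000042125000000000000000000413eb784249c00000209f5a42124d00000000000000000413eaf842497004d0209f5642124a0000000000000000000000084248e0000000000042124600000000000000000413e9f84248800000209f4e42124300000000000000000413e9784248200000209f4a4212400000000000000000000000084247c00000209f4642123d0000000000020098ac13e87842475004c3609f4242123900000000000200984413e7f)))) (BT.node (nat_lit 3) (BT.leaf (Bx.mk (nat_lit 0x4cdac80000010b6b500000042271e000001889be00000000000000000000000236d68000000000000000003d1372000000784e480000000000000000000000000000221382000000884df400000251385000000000001289b09a6d4c0000000000010e6a50000000000000000000000000000000000092dbc800000000000000000000000000001f12fc000000000001189ab0000000000009b5be00000000000000000105b2d90e68c800000000000000000f89ac80000000000000000131f97000000000000000000000000000004a25bc00000146683800000000000000000000000000004626b6a3334c000002bc1580000000000000000000000000000000000000000000000000000000000000003112d40000008c4d51ab680000000662640ab04e000000416c8e0000000000000000000000046267f05b2254098f0000000000000000000000000000082d90c000000000003f6d064b6dc105b20555a898000007141c60000012cf72000000)))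 (BT.leaf (Bx.mk (nat_lit 0x19a196000000c6865c0000000000000000000000000000000000000000000000000000000000000007db62c00000000000000000a9b5bc0000000000048dadc000000000001f6d780000000000000000000000000000099b5d000000000000)))))
noncomputable def eCo2_c4 : BT (Bx Nat) := (BT.node (nat_lit 2) (BT.node (nat_lit 1) (BT.leaf (Bx.mk (nat_lit 0xd50a79b203e0000006ab0c6c90a696b85fb8406070ccc2e061d8000003742955c8516d499c973854ae42875c8510dd0a39da0360000000000000000013a1588000004e8596c061997a1608000006884f6c50a65ba13bb74278000000dd01740000000000058e06ec89934000002a702d60e0ae000000000002b424b644c5800000173820b070500000000000018a12d00000058f0a8e8992992d2b0000005ee07ce498e5eb3242e784e6ce0860000016a128ba2633000000b9091dc381eb3742f6c8470c560c5c212337663b5684b6dc98d8000003a582a728480cd99718211d3c26300000000000014a12c31425370cc5ce508d1c1314b41816688028d19854000003e4023000000d86071b200d36661b7c303ef90074000003542226a8440d50885c0c0cb9401770843000000000000334227723026f10045da1090000007e4c1ee16031f9306b7420e744c16d56841e9304bb4007748410f90015ea1033c34047e4c0704600a18300800000)))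 (BT.leaf (Bx.mk (nat_lit 0x4c86be0000000000000000058b1e0adc5380000033431e00000098d42800000000000000000990cf40000000000000000085e51d48c8737411854e262000000000003018e80000000000000000000000000000000000000000264305000000000000000000000000000008c9b9c00000264329000000000000000003443205ae29aa9c20c000002842a1000000a99a00000000000005080cea199a0000002f40c700000000000000000000000000000c10191833328000000000000000017a05e2e42bd00000000000150c40ad409f5acd40c062d80000000000000000000000140c34800000000000000001ca0563842ad58e1260000016a138ad408f5acd20c9c299ba04237668556f1760000014b868000000588570d861f9aa04e34429d000000cc99e990c31000000000000000001c203a38667500000000000180c44ac42a7000000e061b9ba04636428d5eb0e60000017a148af406f5ecce0d46218000000000000000000000014a15c800000)))) (BT.node (nat_lit 3) (BT.leaf (Bx.mk (nat_lit 0x3ccf24000000000002a196f56e31a000001433c529196a62e2ee859e41438c0b3197400000000000128cb88000005286f8b06590000000000000000000000000000022418200000000000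0000002b436e000000000000000000000004f8dfe0000011a1888000000000000000000000000000000000000000000000000000000000000000000000000000000000000016216980000000000000000000000000000000000000000000000000005e4e4a000000000000000004ae26a0000013ac7900000000000000000000000000000518e5e000000000000000004486060000000000021d138000000971d580000025cb0f0000000000013ac6c0000005a31b8000000000002ec72a000000000000000003526d4000000d09be000000000000684e3600000161386000000000000889c24000002b58f96a4e0e000001263ae8000004886580000000000000000068ce1a0000010a18b0000006886260000013ac70000000478e66c963f800000000000))) (BT.leaf (Bx.mk (nat_lit 0x1b279746b32a0000000000000000000000000000000000000000348740610679121cf800000458ed6750dfc00000000000000000000001521bd80000044870a9d0de4000000000000000000000011a0c58000000000000000013a1ba800000)))))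
noncomputable def eCo2_c5 : BT (Bx Nat) := (BT.node (nat_lit 2) (BT.node (nat_lit 1) (BT.leaf (Bx.mk (nat_lit 0x8606080000000000000000084506b00a1ee181804302ff8605fae5abaa1817d4302f884506500a1ce1817a4302f18605df0c0bb61817580000084505d00a1ae181738000008605c90c0b8a1816fc302dd8450570c0b68000000000008605ab0c0b5218169c302d184504e0000021816680000000000108a096181628000000000010c0b0211411800000860574000002014274302b200000100a12c000004302aa84503d00a11e181510000008050890c0a6a1140dc0284186052508a06a0141f42281986051508a0620141d43028284502f00a0de1813d4228158050690c09ca1140a4028318450270c09aa1140940282d00000108a046014153428568604b50c095dbb5144302538604a000000218126c3024a0000010c091a18121ba283c8604810c08f5d940e43023986046ce8a0be18119c3023076502d0c08b218114c2280880502108a01e0140742280680501908a0160140543020f86041b0c082e18104c228028050090c080e18300800000))) (BT.leaf (Bx.mk (nat_lit 0x108a1dc0000042287600000100a3ee1143a000000645258cca286114388000008606db08a1c20147942286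f00000108a1b800000000000000000000001b943cc22869000000000000000000000008450cc000002181b4c228658051c108a1920146f00000000000100a36c0000042286100000108a17c0000000000000000108a170000000000008606c50c0d84000004303608606be0000000000043035c8606b4000000000004303594ed64f0c0d56181a98000008606a0000002181a743034d00000100a2ee181a643034986069099acec0000043034484509800000000000430343860684d5ab721819f43033c84509100a2ae1819c4303378606690c0cca1819880000084508a0000021819843032f86065ad5abdc00000430328845084000002181934303250000010c0c8a1819043031e84507e0000021818e8000008606360000021818c80000000000100a22e1818b4303138606210c0c3a1818600000000000100a20e18184c30307)))) (BT.node (nat_lit 3) (BT.leaf (Bx.mk (nat_lit 0x4303a000000000000000000000000000000000000000000000000000010c0e5c0000000000084519f00a58c000001c99520000000000021146400000084518e0000000000000000086072308a30a014ab4228c100000074a3321145f80000084517c000000000001a993a86071908a2e0000000000000000010c0e24000000000000000000000021145743038784515a0000000000040293d0000006ca2e6114548000000000010c0e0c0000000000084514c000000000003298f600000108a27c000000000008606fc000000000004029290000000000000000000000084512c00000000000000000000000000000000004228900000000000000000000000000000100a45c0000000000080522800000211443c0291184510c0000000000000000000000108a204000000000000000000000021143fc029058450fd08a1f61143e3698e9)))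 (BT.leaf (Bx.mk (nat_lit 0x42296c42531708a5a00000000000080533108a596114b20000000000000000000000000000000000000000000000000000000000000000000000000000000000000000000000000000000000000000000000000)))))
noncomputable def eCo2_c6 : BT (Bx Nat) := (BT.node (nat_lit 2) (BT.node (nat_lit 1) (BT.leaf (Bx.mk (nat_lit 0x86060b0c0c0e181814303018254f50870d5c4a748000008605fd0c0bf21817dc302f98254e50870ca1817ac302f28605e10c0bb8000000000008254d50870ba181740000000000010c0b8e181704302de0000010c0b6e1816c0000008605ac000000000004302d28254b508709c00000412a5784384cd4a8a218163412a5384384800000209528421c2386057704a93610e10c302b3825495087080000004302ab82548d08707a18151c12a4384383b0c0a6e09520421c1b86052704a8f610e0d3b2a1c86051704a8e610e0c43028382546d08705e1813dc12a3384382b0c09ce09518421c1476542d0c09ae09516421c128604c704a8a610e08b61c258604b70c09621812b4302548604a20000021812743024b8604930c091e181223c5e198604830c08fa1811e43023a86046ef1784e1811a43023186045f0c08b618115412a0f84381104a83610e03c12a0b84380d04a82610e02c3021086041d0c083218105412a038438050c081210500800000)))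 (BT.leaf (Bx.mk (nat_lit 0x8438f000000210e3b8000008255f50871d400000421c7468393c00000000000421c7100000104abc610e38412aef8438de00000210e370000008438dae071d9a8e800000008438d200000000000421c6700000108719800000412adf8438cb04ab7610e32341cae8255b50871880000000000000000000000210e2fc21c5e8438bb04ab4610e2e0000008606c6000000000001e9552000000000002181af43035d8606b704ab1610e2a8000008606b10c0d5a181aa421c528606a30c0d3c0000000000082557508713ce4a9d43034a0000010c0d1c00000430345000001087130000000000000000010c0d061819fc3033d8255550871221819c80000086066b0c0ccc00000000000825545087115a4a7b00000086065d0c0cb218195430329825535087108000000000008606490c0c8c0000043031f8255250870fc0000043031c0000010c0c68000000000008255150870ee1818bc303148606230c0c3c000000000008255050870e218185000000)))) (BT.node (nat_lit 3) (BT.leaf (Bx.mk (nat_lit 0x10874ac000000000000000000000000000000000000000000000000000000000000000000000000004303a186073f0c0e7a10e79c3039c00000000000210e70c3039a8607330c0e62181c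b4303958256c508733e10e67000000000000000002095ae421cc88256b508731c0000000000000000104ad5610e61412b538439826c7582095a8421cbf0000010872f610e5e00000000000104ad2610e5c421cb7000000000002095a2421cb40000000000000000000000082567d0872b60959e421cac4a396c0000020959c421ca90000000000020959a421ca70000010872980000000000084394104acb610e4fb32af700000000000209594421c9c00000108726610e4c00000000000108725800000421c9582563d08725210e4880000084391e00000210e4680000082562d08722400000412b1384391000000209588421c8700000108721800000421c8500000104ac2610e4080000084390000000209582421c7f00000000000000000421c79))) (BT.leaf (Bx.mk (nat_lit 0x2095d0421d700000000000000000000000000000000000000000412b97843acc000000000000000000000000000000000000000000000000000000000421d4b452b3600000210ea3000000843a806a567400000000000843a6c00000000000000000)))))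
noncomputable def eCo2_c7 : BT (Bx Nat) := (BT.node (nat_lit 2) (BT.node (nat_lit 1) (BT.leaf (Bx.mk (nat_lit 0x60dd3ed9ba79b374eb66e9c5c41360000000000000000062dd2e000001bb74ab76e946041260000018b748b16e9062dd1eddba39bb74680000056418c000000000000000000000000000017b7612f6ec1000000b5bafc000000000000000000000017b75e00000058dc9cc88134000002c6e4b644094cc81580000000000064405800000173715322029000000b4816c000000000005a40b0c5b95c000003d1448000000d880e40000000000072406cd451099371a3a20336a287ec9b8c5d1018000000000000cc811dab723000000644088e1b90c0000033204172dc80d850c99901f396e3d6a405e0000016902a316e53000000bc81458b728000000000000000001b8a128000006e6c4600000000000000000000000f910780000036141c6c8836d8d869c0a0cb84418000000dc505800000373614722826e510480000036201070401edc8039f9006b7200c724016e08029d1004bc4408786c0ef91019f1b02bd20047e400704500a18300800000))) (BT.leaf (Bx.mk (nat_lit 0xd88350000002d6f4d00000099bc28000002720f40000008c8528000000000004edec200000000000000000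58de1800000000000000000000000000000000000000000000000000000000026213f00000098856c000000000004242a20000000000000000000000000000000000356efa68de3ca9baed7105d2c14b9588970b0dadd71059000000588960b0dabc000003044ad606d5800000000000000000000000c1119581b320000005c28c40000018222f30365d5641a4b5bb44000002b6ecf56dd9c00000000000000000000000000000000000000000000000000017b764000000000000c0822990a44b24488646d0ed05219a224280000000000000000188a40b14480626cfedc51f9ba23eb7367c000000c481e990a3cb24478646ceee051d9c223ab836745edce6cc81c990a38b24470646cdee051b9c22368000005a41560000000000000000062dd4ecdba98000000000005e414600000183750b06ea0)))) (BT.node (nat_lit 3) (BT.leaf (Bx.mk (nat_lit 0x5a2aec00000000000000000662ac800000000000286f81662ae8b1bdfd58ab5326f7700000000000000000000000682aca00000000000000000000000a9bdd400000246f860000000000019b7b7b26f7b000000000001410778000004c41fe000000000002520df000000000000000000000000000008885754109f00000000000000000000000232150000000b084817107c00000000000089bbc8000002b211b00000000000000000000000000000000000000000000000000009dbd55290aa000000000000000000000000000005c425e00000153782ae212d000000b484395908c8000005ade6e0000000000031212c000000000001210a280000000000000000000000000000000000b883a800000000000000000d4834c0000000000054de90000001537988000003e4272000000000000000006a420e00000171097352104000000000000000002d20eb0000009e8bd80000000000068de260000015909a80000000000000000000000000000)))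 (BT.leaf (Bx.mk (nat_lit 0x4c2ad6845641290c380000000000000000160ab7000000442ad8a455e4000000000000000009455a0000002c1580000000a855cd48abc000000)))))
noncomputable def eCo2_c8 : BT (Bx Nat) := (BT.node (nat_lit 2) (BT.node (nat_lit 1) (BT.leaf (Bx.mk (nat_lit 0x6cc10e00000000000288eb4000000c09268000002748cb4e9194bc6a59c312f2f8abc000000c8924940d3880000052919c00000173042ae48a4000000b55b14000003a62617074c0000001324642a56ac00000095218800000000000000000dd81d5b244a000000000000b98134000000000005cc094d8b958000000000005cc058c980adb1728b060295eacb80000017ab2d2f5659000000bd595c0000032483b000000d180e40000000000066c06c00000000000346033000000d4b8f9a3018372e3c62c090dcb8e9a9223335645000000d1590d931210000006a4880d1c8fc0000035243d000000000000000002f56536674a400000189228345628000000000000000000000006874220000019a413b34826000000000001cb00bb5241c78c42af0e851a970cb7481e74ac3ad89059db00dbb601a000000cd20919b011bb2e106eac1eecb839c2b06800000704816f4b829c9204b9480880740ee92019d9d02c02e047c480700680a18300800000)))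 (BT.leaf (Bx.mk (nat_lit 0x50ae86bd8491730a1000000000000000001ab08fad96d364adee000000000000000000000000000012aba48000000000000000019cb768000005516620000000000000000000000091fb6400000000000000000000000000000000004cc27c00000142bad000000000000000000000000000004ce5ca000000000003361200000000000016305d000000000000000000000000000004cc0f0000000000000000004ec18200000163035000000000000a182b54456380000049157e000000000002e6074000000b55b44000002b60900000000000016b14ea7607c000000000000000000000000000000000014a461296064000000b9822800000000000000000bc6a1800000000000000000c18208000002f8aa85f154ed069f800000000000000000bd81e930d4c800000611d5e0000016a45eb5605d685d26c581c8000002c48b858916ed069b962452ae7e84000000bc92a944844b762806e74feb982997b136ad608c000000c55a8944840b66088)))) (BT.node (nat_lit 3) (BT.leaf (Bx.mk (nat_lit 0xe30b900000049171a0000011abc98000004eaf00922e0920dbc258b844bbefe776df40000000000048af1c955d90000000000004dbb14000000000001f619046af1e000001447be000000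000000000000000000000000000000000017179fa361550000009d837400000000000000000b8bb81245ae0000004cc278000000000002224da000000000000000000000000000000000012307880000000000000000000000256128000000be5bf4000002663570000009e5b7c000002757530000000000000000020491600000000000181788ac6104645e1e0000000000000000054c226bcbc157d588352f03000000d4bc09a9780a6574400000000000142bafb02efe0000000000000000034aad46c5df2000000000000000000000000000016558627490b0000000000000000000000056ae5e918418000002e612d000000000001431760000004cc23000000129798237f1553166e969c49730972d8b3468c25800000000000000000))) (BT.leaf (Bx.mk (nat_lit 0x645f2c5d265400000000000000000000000000000000000000000000000000000000044c2f20000000000020496844c2ce000000000000000003eaf2800000000000000000000000000000000000000000000008d85d800000266177)))))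
noncomputable def eCo2_c9 : BT (Bx Nat) := (BT.node (nat_lit 2) (BT.node (nat_lit 1) (BT.leaf (Bx.mk (nat_lit 0xda1a78000000000000000000000018c04c800000000000de0258000000000000000000000018c048800000000000de0238000000000000000000000016c362000000000000b61b0c00000000000000000ae02fc000000000005f017c000000000000000000000000000000000000000000000000000000000000000000000000000000000000000000000000000000000000000000000000000000000000000000000000000000000000000000000000000000000000000000000000000000000000000000001e111c80000078a86e000000000003c5434784466000001e2a18bc223000000000000000000000000000000000001e1114800000000000000000000000000000000000000000000000000000000000000000000000000000000000000000003d46187a702e000001ea30abd3814000000000001e9c08800000000000000000000000000007c4416f95029f1104800000000000fd1819f9c0280000080440704580a18300800000))) (BT.leaf (Bx.mk (nat_lit 0xd604680000000000000000000000000000000000000000000000000000000000000000000015a3ab800000000000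000000000000000000000000000000000000000000000000000000000000000000000000000000000000000000000000000000000000000000000000000000000000000000000000000000000005900cc000000000000000005918c4c0597c00000000000000000000000000000000000000000000000000000000000000000000000000000000000000b61b24000000000000000000000016c644800000000000d05a1800000000000000000000000000000000000000000000000000000000000000000000190b3c800000000000e059d80000000000000000000000190b38800000000000e059b80000000000000000000000164054800000000000ce02980000000000000000000000184350bb4680)))) (BT.node (nat_lit 3) (BT.leaf (Bx.mk (nat_lit 0x662ee800000000000000000000000000000000000000000000000000000000020878b0000000000014c0c8a147860000000000000000000000000000000000000000000000000000b155040000000000000000000000161173ac54e300000000000000000000000000000000000000002a22da5ca9ac0000000000000000000000000000000000000000000000000000000000000000000000000000000000000000000000000000000000000000000000000000002b23160000000000000000000000064aa1e000000000002f23090000000000000000035550300000000000000000000000000000c08c00000000000006ca9f8000000000000000000000000000018117a000000000000d953b8000000000000000000000000000000000000000000000000000000000630266000000000000000000000000000017409800000074460e0000000000000000069025800000000000000000)))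 (BT.leaf (Bx.mk (nat_lit 0x1e559b0000000000000000000000000000000000000000000000000000000001511b4800000000000000000000000000003f02d8000000000000000000000000000000000000000000000000000000000000000)))))
noncomputable def eCo2_c10 : BT (Bx Nat) := (BT.node (nat_lit 2) (BT.node (nat_lit 1) (BT.leaf (Bx.mk (nat_lit 0x86060d08c8d800000000000000000e4cba21191a00000000000108c8cc000000000008605ef0c0bda11918c302f300000108c8c2181760000008605d50c0ba611916c302e68605cb08c8b2181708000008605b908c8aa1816cc302d7846452000000000004232278605a0000000000004302cc860592c5e8f0000004302c486058708c88e1815fc302be0000010c0ae61815b4232208605630c0ab9c9817c2321e8605530c0a9a1190ec302a186053d08c86e1814cc302968464350c0a46181470000008464310c0a26181434232178605030c09fa1190ac302798604ed08c85218138c3026e70649308c84a18134c302668464230c098a1812fc232108604b90c096611907c302558604a400000218127c3024c84641b0c092218122c2320c8604850c08fe11905c3023b86047108c82a1811ac302328464130c08ba18115c3022886044b0c088a1810fc3021c8604330c085a18109be50067c940af4c821e9903c030037e640908300618201000000)))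 (BT.leaf (Bx.mk (nat_lit 0x8606e30c0dc0000003930e70000010c0dbc0000043036e00000108c9c9b185126c92c8464e10c0db0000000000008606d6000001c49518000008606d508c9ac000003a307a7065f8000002119338000006f3600f249ee11932c303680000010c0d9c000004232636c616400000000000430366000000000001c4959c303658606c80000016198b8000000000000000000000000000000000000000000000000000000000aaf488000000000008464a70c0d5c000004303528464a308c94000000000000537a640000021192743034b00000108c93400000430346000000d4cb6c0000000000000000108c92a181a00000008606770c0cea1192380000086066d08c918000000000006e65da0000000000000000000000108c90e1819580000086064e0000021192080000000000108c902181908000000000000000000000000000000000108c8f4000004303180000000000021191d43031586062508c8e618186c3030b0000000000021191bc30308)))) (BT.node (nat_lit 3) (BT.leaf (Bx.mk (nat_lit 0x84665c0000000000042332084663d08cc721198dc2331984662708cc440000042330784660a0000021197fc232fe8465f508cbe2181cec232f28465df08cbae181cdc232e08465bd08cb6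21196a4232d3860728000002181c9800000000000752d42181c9000000000000000000000002551260000010c0e400000043038f00000000000105e669c335e3736c10c0e3a181c69d33338465710c0e2c0000043038a00000108cad2181c4000000000000000001a986d00000086070c000002181c280000000000108caa8f5e5d1f514786070908ca9e181c10000003d3698a0caee181c08000008607010c0dfc0000000000084653b0c0df40000000000000000090cd60000000000004736b2a4cb180000043037c0000010c0dec0000043037a8606f2e4c426181bc0000005a61a2000002119440000008606ee000002181bb000000000000be4b4800000430375000000000001c198d0000008606e908c9fe181b98000006f363b0c0dc8000003632e3))) (BT.leaf (Bx.mk (nat_lit 0x1218c4800000000000000002119b69c33878466d290c631318c1b2317e000000000000000004233638466c308cd740000042335600000108cd3a119a680000084669508cd21199d08000003b933908ccfc000004233370000000000000000042332f)))))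
noncomputable def eCo2_p : BT (Bx Nat) := (BT.node (nat_lit 2) (BT.node (nat_lit 1) (BT.leaf (Bx.mk (nat_lit 0x71b84e3629c6c1b8d8271a8ce3515c68538d0371a04e3329c661b8cc27190ce3215c62538c4371884e3029c601b8c027170ce2e15c5a538b4371684e2c29c581b8b027158ce2a29c541b8a8271494e290dc521309ca6138cc271584c5309866130ac25198485309066120ac23298463308c561094c21198422b080a6100cc201583e33078a60f0cc1e1583a53074660e8ac1b298363306c560d14c1a198342b064660c14c18198302b05ca60b8cc171582a53054660a8ac14298283305056098cc122982433048560894c11198222a840a50806a100941e5283c350784a0e2941c1a838250694a0d0d41a12830a50606a0c094165282c350584a0a294141a828250494a090d4121202064040a8071900e2a01864030a8051900a298103302046030cc061100862010a20128000000000))) (BT.leaf (Bx.mk (nat_lit 0x83c0b0771a0ee2c1d8683a8d075160e8341d05839950722a0e2341c45838150701a0e02c1bc68378b06e1a0dc2c1b4a8368b06b2a0d4541a468348b0682a0ce5419c58330d066160ca5419468328b0641a0c82c18ca8310d062160c25418468301505f1a0be2c178582e8ae5c19cb82b96ca72d86e5b09cb22b960a72c06e5809cae5395c372b84e5519caa2b950a72994e530dca613948572894e5029ca01b94027278ce4f15c9c53938372704e4d29c9a1b93427260ce4c15c965392c372584e4a29c941b92827240ce4815c8e5391c372384e4629c8c1b91827228ce4515c8853910372204e4329c861b90c27210ce4215c8253904372084e4029c801b900271f8ce3f15c7c538f8371f04e3d29c7a1b8f4271d8ce3b15c74538e8371d04e3929c721b8e4271c0ce3815c6e538dc3))))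 (BT.node (nat_lit 3) (BT.leaf (Bx.mk (nat_lit 0x9971532b1665454c80a98f1531c2a63654c64a989953112a61854c1ca982953022a5fe54bf8a97d152f82a5e62cbc8a977952eb2a5c22cb80a96f152d82a5a854b4ca8678d0cf1619c2c33058658b0c91a1903432058638d0c7161882c30c6861150c21a1842c30468608b0c02a17e342fc585f0d0bd161782c2e4585c150b81a1702c2dc585b0d0b42a168342d058580b0af1615c342b4a8568d0ad16158342b05855950aa2a152342a458540b0a72a14e3429c58530d0a61614a2c28458500b09f1a13e2c278684e9509d1a13834270584d95099161302c25c684b0d0961612a54254584a0d094161222c24068478b08e1a11a2c230a8448d089161105422068440b0872a10e3421c58430d0861610a542145842150811a1022c200a8400b07f2a0fe341fc583f0d07d1a0f8341e45))) (BT.leaf (Bx.mk (nat_lit 0x2ae0355c05ab78d56e1aada555b06ab4955681aace355986ab30b5651aac834d8ca9b09535d2a6ae2cd58a9aa1534e2a69a54d2c59a5153482a68c2cd14a9a00b33f2a67a54cdca99b0b3352a66254cbca)))))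
noncomputable def eCo2_e0 : BT Nat := (BT.node (nat_lit 15424) (BT.node (nat_lit 5952) (BT.node (nat_lit 640) (BT.node (nat_lit 128) (BT.node (nat_lit 69) (BT.node (nat_lit 66) (BT.leaf (nat_lit 2)) (BT.node (nat_lit 68) (BT.leaf (nat_lit 262146)) (BT.leaf (nat_lit 524290)))) (BT.node (nat_lit 72) (BT.node (nat_lit 71) (BT.leaf (nat_lit 786434)) (BT.leaf (nat_lit 1048578))) (BT.node (nat_lit 73) (BT.leaf (nat_lit 1310722)) (BT.leaf (nat_lit 1572866))))) (BT.node (nat_lit 320) (BT.node (nat_lit 192) (BT.leaf (nat_lit 99097)) (BT.node (nat_lit 256) (BT.leaf (nat_lit 90645)) (BT.leaf (nat_lit 28685)))) (BT.node (nat_lit 448) (BT.node (nat_lit 384) (BT.leaf (nat_lit 49677)) (BT.leaf (nat_lit 49673))) (BT.node (nat_lit 576) (BT.leaf (nat_lit 77081)) (BT.leaf (nat_lit 49685)))))) (BT.node (nat_lit 2816) (BT.node (nat_lit 2432) (BT.node (nat_lit 896) (BT.leaf (nat_lit 49689)) (BT.node (nat_lit 1024) (BT.leaf (nat_lit 57349)) (BT.leaf (nat_lit 88837)))) (BT.node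 (nat_lit 2624) (BT.node (nat_lit 2496) (BT.leaf (nat_lit 70413)) (BT.leaf (nat_lit 79633))) (BT.node (nat_lit 2688) (BT.leaf (nat_lit 49669)) (BT.leaf (nat_lit 87301))))) (BT.node (nat_lit 4096) (BT.node (nat_lit 3520) (BT.node (nat_lit 3264) (BT.leaf (nat_lit 52997)) (BT.leaf (nat_lit 38153))) (BT.node (nat_lit 3712) (BT.leaf (nat_lit 40717)) (BT.leaf (nat_lit 48145)))) (BT.node (nat_lit 4736) (BT.node (nat_lit 4352) (BT.leaf (nat_lit 37901)) (BT.leaf (nat_lit 46877))) (BT.node (nat_lit 5312) (BT.leaf (nat_lit 16389)) (BT.leaf (nat_lit 49421))))))) (BT.node (nat_lit 11776) (BT.node (nat_lit 8128) (BT.node (nat_lit 6464) (BT.node (nat_lit 6016) (BT.leaf (nat_lit 52749)) (BT.node (nat_lit 6400) (BT.leaf (nat_lit 47117)) (BT.leaf (nat_lit 88853)))) (BT.node (nat_lit 7168) (BT.node (nat_lit 7104) (BT.leaf (nat_lit 51217)) (BT.leaf (nat_lit 61209))) (BT.node (nat_lit 7488) (BT.leaf (nat_lit 90901)) (BT.leaf (nat_lit 64025))))) (BT.node (nat_lit 9536) (BT.node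 (nat_lit 9216) (BT.leaf (nat_lit 72725)) (BT.node (nat_lit 9472) (BT.leaf (nat_lit 47137)) (BT.leaf (nat_lit 73241)))) (BT.node (nat_lit 10688) (BT.node (nat_lit 10176) (BT.leaf (nat_lit 37897)) (BT.leaf (nat_lit 77333))) (BT.node (nat_lit 11712) (BT.leaf (nat_lit 47133)) (BT.leaf (nat_lit 83993)))))) (BT.node (nat_lit 13184) (BT.node (nat_lit 12352) (BT.node (nat_lit 12032) (BT.leaf (nat_lit 84501)) (BT.node (nat_lit 12096) (BT.leaf (nat_lit 85273)) (BT.leaf (nat_lit 85529)))) (BT.node (nat_lit 12736) (BT.node (nat_lit 12416) (BT.leaf (nat_lit 87061)) (BT.leaf (nat_lit 87573))) (BT.node (nat_lit 12800) (BT.leaf (nat_lit 51213)) (BT.leaf (nat_lit 89365))))) (BT.node (nat_lit 14208) (BT.node (nat_lit 13504) (BT.node (nat_lit 13248) (BT.leaf (nat_lit 90393)) (BT.leaf (nat_lit 52745))) (BT.node (nat_lit 14144) (BT.leaf (nat_lit 48149)) (BT.leaf (nat_lit 88857)))) (BT.node (nat_lit 14336) (BT.node (nat_lit 14272) (BT.leaf (nat_lit 79629)) (BT.leaf (nat_lit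 51221))) (BT.node (nat_lit 15296) (BT.leaf (nat_lit 87581)) (BT.leaf (nat_lit 92969)))))))) (BT.node (nat_lit 22336) (BT.node (nat_lit 19392) (BT.node (nat_lit 17472) (BT.node (nat_lit 15872) (BT.node (nat_lit 15488) (BT.leaf (nat_lit 53013)) (BT.node (nat_lit 15552) (BT.leaf (nat_lit 79625)) (BT.leaf (nat_lit 28713)))) (BT.node (nat_lit 16704) (BT.node (nat_lit 16000) (BT.leaf (nat_lit 89353)) (BT.leaf (nat_lit 100905))) (BT.node (nat_lit 16832) (BT.leaf (nat_lit 89361)) (BT.leaf (nat_lit 95273))))) (BT.node (nat_lit 18304) (BT.node (nat_lit 17600) (BT.leaf (nat_lit 95785)) (BT.node (nat_lit 18176) (BT.leaf (nat_lit 73733)) (BT.leaf (nat_lit 96809)))) (BT.node (nat_lit 19264) (BT.node (nat_lit 18432) (BT.leaf (nat_lit 97065)) (BT.leaf (nat_lit 97321))) (BT.node (nat_lit 19328) (BT.leaf (nat_lit 77337)) (BT.leaf (nat_lit 98089)))))) (BT.node (nat_lit 21312) (BT.node (nat_lit 20288) (BT.node (nat_lit 19840) (BT.leaf (nat_lit 90373)) (BT.node (nat_lit 19904)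 (BT.leaf (nat_lit 42793)) (BT.leaf (nat_lit 99369)))) (BT.node (nat_lit 20992) (BT.node (nat_lit 20416) (BT.leaf (nat_lit 85261)) (BT.leaf (nat_lit 99881))) (BT.node (nat_lit 21120) (BT.leaf (nat_lit 73221)) (BT.leaf (nat_lit 101161))))) (BT.node (nat_lit 21888) (BT.node (nat_lit 21760) (BT.node (nat_lit 21376) (BT.leaf (nat_lit 101673)) (BT.leaf (nat_lit 101929))) (BT.node (nat_lit 21824) (BT.leaf (nat_lit 73229)) (BT.leaf (nat_lit 87577)))) (BT.node (nat_lit 22208) (BT.node (nat_lit 22144) (BT.leaf (nat_lit 102441)) (BT.leaf (nat_lit 89121))) (BT.node (nat_lit 22272) (BT.leaf (nat_lit 77581)) (BT.leaf (nat_lit 89369))))))) (BT.node (nat_lit 24704) (BT.node (nat_lit 23808) (BT.node (nat_lit 22720) (BT.node (nat_lit 22592) (BT.leaf (nat_lit 102953)) (BT.node (nat_lit 22656) (BT.leaf (nat_lit 103209)) (BT.leaf (nat_lit 90905)))) (BT.node (nat_lit 23424) (BT.node (nat_lit 23232) (BT.leaf (nat_lit 103465)) (BT.leaf (nat_lit 103197))) (BT.node (nat_lit 23488)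 (BT.leaf (nat_lit 101893)) (BT.leaf (nat_lit 100873))))) (BT.node (nat_lit 24192) (BT.node (nat_lit 24000) (BT.node (nat_lit 23936) (BT.leaf (nat_lit 102921)) (BT.leaf (nat_lit 102929))) (BT.node (nat_lit 24128) (BT.leaf (nat_lit 92933)) (BT.leaf (nat_lit 101637)))) (BT.node (nat_lit 24512) (BT.node (nat_lit 24320) (BT.leaf (nat_lit 102917)) (BT.leaf (nat_lit 103185))) (BT.node (nat_lit 24576) (BT.leaf (nat_lit 101149)) (BT.leaf (nat_lit 97285)))))) (BT.node (nat_lit 25408) (BT.node (nat_lit 24896) (BT.node (nat_lit 24768) (BT.leaf (nat_lit 102925)) (BT.node (nat_lit 24832) (BT.leaf (nat_lit 105769)) (BT.leaf (nat_lit 100869)))) (BT.node (nat_lit 25216) (BT.node (nat_lit 24960) (BT.leaf (nat_lit 102177)) (BT.leaf (nat_lit 102941))) (BT.node (nat_lit 25280) (BT.leaf (nat_lit 103177)) (BT.leaf (nat_lit 97033))))) (BT.node (nat_lit 25728) (BT.node (nat_lit 25536) (BT.node (nat_lit 25472) (BT.leaf (nat_lit 97041)) (BT.leaf (nat_lit 103201))) (BT.node (nat_lit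 25600) (BT.leaf (nat_lit 101125)) (BT.leaf (nat_lit 101137)))) (BT.node (nat_lit 25856) (BT.node (nat_lit 25792) (BT.leaf (nat_lit 97037)) (BT.leaf (nat_lit 97029))) (BT.node (nat_lit 26432) (BT.leaf (nat_lit 101153)) (BT.leaf (nat_lit 99865)))))))))
noncomputable def eCo2_e : BT Nat := eCo2_e0
noncomputable def eCo2_cols : List (BT (Bx Nat)) := [eCo2_c0, eCo2_c1, eCo2_c2, eCo2_c3, eCo2_c4, eCo2_c5, eCo2_c6, eCo2_c7, eCo2_c8, eCo2_c9, eCo2_c10]
noncomputable def eCo2_ch (x j : Nat) : Bx Nat := chunkG eCo2_cols (nat_lit 4) x j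
noncomputable def eCo2_L (x : Nat) : Bx (Nat → Nat) := lookG eCo2_ch (nat_lit 7) (nat_lit 127) (nat_lit 23) (nat_lit 8388607) x
noncomputable def eCo2_pc (_ j : Nat) : Bx Nat := eCo2_p.get j
noncomputable def eCo2_pb : Bx (Nat → Nat) := lookG eCo2_pc (nat_lit 7) (nat_lit 127) (nat_lit 19) (nat_lit 524287) (nat_lit 0)
noncomputable def eCo2_rots : BT CW := (BT.node (nat_lit 56) (BT.node (nat_lit 28) (BT.node (nat_lit 14) (BT.node (nat_lit 7) (BT.node (nat_lit 3) (BT.node (nat_lit 1) (BT.leaf ⟨[], (nat_lit 1000000), (nat_lit 0), (nat_lit 0), (nat_lit 0)⟩) (BT.node (nat_lit 2) (BT.leaf ⟨[], (nat_lit 1000000), (nat_lit 0), (nat_lit 0), (nat_lit 1)⟩) (BT.leaf ⟨[], (nat_lit 1000000), (nat_lit 0), (nat_lit 0), (nat_lit 2)⟩))) (BT.node (nat_lit 5) (BT.node (nat_lit 4) (BT.leaf ⟨[(nat_lit 3), (nat_lit 2)], (nat_lit 145), (nat_lit 1), (nat_lit 0), (nat_lit 3)⟩) (BT.leaf ⟨[(nat_lit 6), (nat_lit 5)], (nat_lit 143), (nat_lit 1), (nat_lit 0), (nat_lit 3)⟩)) (BT.node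 (nat_lit 6) (BT.leaf ⟨[(nat_lit 10), (nat_lit 10)], (nat_lit 121), (nat_lit 0), (nat_lit 0), (nat_lit 3)⟩) (BT.leaf ⟨[(nat_lit 1), (nat_lit 10), (nat_lit 1), (nat_lit 10)], (nat_lit 129), (nat_lit 1), (nat_lit 0), (nat_lit 4)⟩)))) (BT.node (nat_lit 10) (BT.node (nat_lit 8) (BT.leaf ⟨[(nat_lit 2), (nat_lit 10), (nat_lit 3), (nat_lit 10)], (nat_lit 130), (nat_lit 1), (nat_lit 0), (nat_lit 4)⟩) (BT.node (nat_lit 9) (BT.leaf ⟨[(nat_lit 3), (nat_lit 2)], (nat_lit 145), (nat_lit 1), (nat_lit 0), (nat_lit 4)⟩) (BT.leaf ⟨[(nat_lit 7), (nat_lit 10), (nat_lit 7), (nat_lit 10)], (nat_lit 131), (nat_lit 1), (nat_lit 0), (nat_lit 4)⟩))) (BT.node (nat_lit 12) (BT.node (nat_lit 11) (BT.leaf ⟨[(nat_lit 9), (nat_lit 10), (nat_lit 9), (nat_lit 7), (nat_lit 10)], (nat_lit 128), (nat_lit 1), (nat_lit 0), (nat_lit 4)⟩) (BT.leaf ⟨[(nat_lit 4), (nat_lit 10), (nat_lit 4), (nat_lit 7), (nat_lit 10)], (nat_lit 132), (nat_lit 1), (nat_lit 0), (nat_lit 4)⟩)) (BT.node (nat_lit 13)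 (BT.leaf ⟨[(nat_lit 8), (nat_lit 7), (nat_lit 1), (nat_lit 4), (nat_lit 1), (nat_lit 4)], (nat_lit 20), (nat_lit 4), (nat_lit 0), (nat_lit 4)⟩) (BT.leaf ⟨[(nat_lit 6), (nat_lit 5)], (nat_lit 143), (nat_lit 1), (nat_lit 0), (nat_lit 4)⟩))))) (BT.node (nat_lit 21) (BT.node (nat_lit 17) (BT.node (nat_lit 15) (BT.leaf ⟨[(nat_lit 1), (nat_lit 6), (nat_lit 1), (nat_lit 5)], (nat_lit 9), (nat_lit 2), (nat_lit 0), (nat_lit 4)⟩) (BT.node (nat_lit 16) (BT.leaf ⟨[(nat_lit 7), (nat_lit 6), (nat_lit 8), (nat_lit 5)], (nat_lit 13), (nat_lit 1), (nat_lit 0), (nat_lit 4)⟩) (BT.leaf ⟨[(nat_lit 9), (nat_lit 6), (nat_lit 9), (nat_lit 5)], (nat_lit 125), (nat_lit 2), (nat_lit 0), (nat_lit 4)⟩))) (BT.node (nat_lit 19) (BT.node (nat_lit 18) (BT.leaf ⟨[(nat_lit 8), (nat_lit 6), (nat_lit 7), (nat_lit 5), (nat_lit 7)], (nat_lit 17), (nat_lit 2), (nat_lit 0), (nat_lit 4)⟩) (BT.leaf ⟨[(nat_lit 4), (nat_lit 6), (nat_lit 3), (nat_lit 8), (nat_lit 2), (nat_lit 5)], (nat_lit 22), (nat_lit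 2), (nat_lit 0), (nat_lit 4)⟩)) (BT.node (nat_lit 20) (BT.leaf ⟨[(nat_lit 5), (nat_lit 6)], (nat_lit 143), (nat_lit 0), (nat_lit 0), (nat_lit 4)⟩) (BT.leaf ⟨[(nat_lit 6), (nat_lit 6), (nat_lit 6)], (nat_lit 152), (nat_lit 0), (nat_lit 0), (nat_lit 4)⟩)))) (BT.node (nat_lit 24) (BT.node (nat_lit 22) (BT.leaf ⟨[(nat_lit 1), (nat_lit 5), (nat_lit 1), (nat_lit 6)], (nat_lit 9), (nat_lit 0), (nat_lit 0), (nat_lit 4)⟩) (BT.node (nat_lit 23) (BT.leaf ⟨[(nat_lit 8), (nat_lit 5), (nat_lit 7), (nat_lit 6)], (nat_lit 13), (nat_lit 3), (nat_lit 0), (nat_lit 4)⟩) (BT.leaf ⟨[(nat_lit 10), (nat_lit 6), (nat_lit 10), (nat_lit 6), (nat_lit 10), (nat_lit 1), (nat_lit 6)], (nat_lit 280), (nat_lit 2), (nat_lit 0), (nat_lit 4)⟩))) (BT.node (nat_lit 26) (BT.node (nat_lit 25) (BT.leaf ⟨[(nat_lit 10), (nat_lit 10)], (nat_lit 121), (nat_lit 0), (nat_lit 0), (nat_lit 4)⟩) (BT.leaf ⟨[(nat_lit 4), (nat_lit 7), (nat_lit 10), (nat_lit 4), (nat_lit 10)], (nat_lit 132), (nat_lit 3),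 (nat_lit 0), (nat_lit 4)⟩)) (BT.node (nat_lit 27) (BT.leaf ⟨[(nat_lit 7), (nat_lit 3), (nat_lit 7), (nat_lit 2)], (nat_lit 11), (nat_lit 1), (nat_lit 0), (nat_lit 4)⟩) (BT.leaf ⟨[(nat_lit 9), (nat_lit 3), (nat_lit 9), (nat_lit 2)], (nat_lit 123), (nat_lit 2), (nat_lit 0), (nat_lit 4)⟩)))))) (BT.node (nat_lit 42) (BT.node (nat_lit 35) (BT.node (nat_lit 31) (BT.node (nat_lit 29) (BT.leaf ⟨[(nat_lit 8), (nat_lit 3), (nat_lit 5), (nat_lit 4), (nat_lit 7), (nat_lit 6), (nat_lit 2)], (nat_lit 27), (nat_lit 1), (nat_lit 0), (nat_lit 4)⟩) (BT.node (nat_lit 30) (BT.leaf ⟨[(nat_lit 2), (nat_lit 3)], (nat_lit 145), (nat_lit 0), (nat_lit 0), (nat_lit 4)⟩) (BT.leaf ⟨[(nat_lit 3), (nat_lit 3), (nat_lit 3)], (nat_lit 151), (nat_lit 0), (nat_lit 0), (nat_lit 4)⟩))) (BT.node (nat_lit 33) (BT.node (nat_lit 32) (BT.leaf ⟨[(nat_lit 4), (nat_lit 3), (nat_lit 4), (nat_lit 3)], (nat_lit 155), (nat_lit 0), (nat_lit 0), (nat_lit 4)⟩) (BT.leaf ⟨[(nat_lit 4), (nat_lit 4)], (nat_lit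 1), (nat_lit 0), (nat_lit 0), (nat_lit 4)⟩)) (BT.node (nat_lit 34) (BT.leaf ⟨[(nat_lit 7), (nat_lit 2), (nat_lit 7), (nat_lit 3)], (nat_lit 11), (nat_lit 3), (nat_lit 0), (nat_lit 4)⟩) (BT.leaf ⟨[(nat_lit 9), (nat_lit 2), (nat_lit 9), (nat_lit 3)], (nat_lit 123), (nat_lit 0), (nat_lit 0), (nat_lit 4)⟩)))) (BT.node (nat_lit 38) (BT.node (nat_lit 36) (BT.leaf ⟨[(nat_lit 8), (nat_lit 4), (nat_lit 8), (nat_lit 4)], (nat_lit 15), (nat_lit 1), (nat_lit 0), (nat_lit 4)⟩) (BT.node (nat_lit 37) (BT.leaf ⟨[(nat_lit 10), (nat_lit 3), (nat_lit 10), (nat_lit 2)], (nat_lit 130), (nat_lit 2), (nat_lit 0), (nat_lit 4)⟩) (BT.leaf ⟨[(nat_lit 1), (nat_lit 3), (nat_lit 6), (nat_lit 2), (nat_lit 1), (nat_lit 3), (nat_lit 6), (nat_lit 2)], (nat_lit 180), (nat_lit 3), (nat_lit 0), (nat_lit 4)⟩))) (BT.node (nat_lit 40) (BT.node (nat_lit 39) (BT.leaf ⟨[(nat_lit 1), (nat_lit 1)], (nat_lit 0), (nat_lit 0), (nat_lit 0), (nat_lit 4)⟩) (BT.leaf ⟨[(nat_lit 10), (nat_lit 2), (nat_lit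 10), (nat_lit 3)], (nat_lit 130), (nat_lit 0), (nat_lit 0), (nat_lit 4)⟩)) (BT.node (nat_lit 41) (BT.leaf ⟨[(nat_lit 1), (nat_lit 3), (nat_lit 1), (nat_lit 3), (nat_lit 1), (nat_lit 3)], (nat_lit 166), (nat_lit 1), (nat_lit 0), (nat_lit 4)⟩) (BT.leaf ⟨[(nat_lit 9), (nat_lit 5), (nat_lit 9), (nat_lit 6)], (nat_lit 125), (nat_lit 0), (nat_lit 0), (nat_lit 4)⟩))))) (BT.node (nat_lit 49) (BT.node (nat_lit 45) (BT.node (nat_lit 43) (BT.leaf ⟨[(nat_lit 8), (nat_lit 1), (nat_lit 8), (nat_lit 1)], (nat_lit 14), (nat_lit 1), (nat_lit 0), (nat_lit 4)⟩) (BT.node (nat_lit 44) (BT.leaf ⟨[(nat_lit 4), (nat_lit 5), (nat_lit 4), (nat_lit 1), (nat_lit 2), (nat_lit 8), (nat_lit 3), (nat_lit 6)], (nat_lit 32), (nat_lit 5), (nat_lit 0), (nat_lit 4)⟩) (BT.leaf ⟨[(nat_lit 4), (nat_lit 8), (nat_lit 7), (nat_lit 1), (nat_lit 4), (nat_lit 1)], (nat_lit 20), (nat_lit 3), (nat_lit 0), (nat_lit 4)⟩))) (BT.node (nat_lit 47) (BT.node (nat_lit 46) (BT.leaf ⟨[(nat_lit 1), (nat_lit 2),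 (nat_lit 6), (nat_lit 3), (nat_lit 1), (nat_lit 2), (nat_lit 6), (nat_lit 3)], (nat_lit 178), (nat_lit 3), (nat_lit 0), (nat_lit 4)⟩) (BT.leaf ⟨[(nat_lit 6), (nat_lit 10), (nat_lit 6), (nat_lit 10), (nat_lit 1), (nat_lit 6), (nat_lit 10)], (nat_lit 280), (nat_lit 3), (nat_lit 0), (nat_lit 4)⟩)) (BT.node (nat_lit 48) (BT.leaf ⟨[(nat_lit 8), (nat_lit 8)], (nat_lit 3), (nat_lit 0), (nat_lit 0), (nat_lit 4)⟩) (BT.leaf ⟨[(nat_lit 8), (nat_lit 2), (nat_lit 5), (nat_lit 4), (nat_lit 6), (nat_lit 3)], (nat_lit 22), (nat_lit 5), (nat_lit 0), (nat_lit 4)⟩)))) (BT.node (nat_lit 52) (BT.node (nat_lit 50) (BT.leaf ⟨[(nat_lit 1), (nat_lit 2), (nat_lit 1), (nat_lit 2), (nat_lit 1), (nat_lit 2)], (nat_lit 19), (nat_lit 0), (nat_lit 0), (nat_lit 4)⟩) (BT.node (nat_lit 51) (BT.leaf ⟨[(nat_lit 4), (nat_lit 2), (nat_lit 4), (nat_lit 2)], (nat_lit 8), (nat_lit 1), (nat_lit 0), (nat_lit 4)⟩) (BT.leaf ⟨[(nat_lit 1), (nat_lit 8), (nat_lit 1), (nat_lit 8)], (nat_lit 14), (nat_lit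 0), (nat_lit 0), (nat_lit 4)⟩))) (BT.node (nat_lit 54) (BT.node (nat_lit 53) (BT.leaf ⟨[(nat_lit 5), (nat_lit 1), (nat_lit 6), (nat_lit 1)], (nat_lit 9), (nat_lit 1), (nat_lit 0), (nat_lit 4)⟩) (BT.leaf ⟨[(nat_lit 3), (nat_lit 10), (nat_lit 2), (nat_lit 10)], (nat_lit 130), (nat_lit 3), (nat_lit 0), (nat_lit 4)⟩)) (BT.node (nat_lit 55) (BT.leaf ⟨[(nat_lit 7), (nat_lit 7)], (nat_lit 2), (nat_lit 0), (nat_lit 0), (nat_lit 4)⟩) (BT.leaf ⟨[(nat_lit 4), (nat_lit 7), (nat_lit 4), (nat_lit 7)], (nat_lit 12), (nat_lit 0), (nat_lit 0), (nat_lit 4)⟩))))))) (BT.node (nat_lit 84) (BT.node (nat_lit 70) (BT.node (nat_lit 63) (BT.node (nat_lit 59) (BT.node (nat_lit 57) (BT.leaf ⟨[(nat_lit 8), (nat_lit 3), (nat_lit 6), (nat_lit 4), (nat_lit 5), (nat_lit 4), (nat_lit 1), (nat_lit 2)], (nat_lit 32), (nat_lit 2), (nat_lit 0), (nat_lit 4)⟩) (BT.node (nat_lit 58) (BT.leaf ⟨[(nat_lit 4), (nat_lit 6), (nat_lit 2), (nat_lit 7), (nat_lit 8), (nat_lit 3), (nat_lit 5), (nat_lit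 8)], (nat_lit 34), (nat_lit 6), (nat_lit 0), (nat_lit 4)⟩) (BT.leaf ⟨[(nat_lit 3), (nat_lit 5), (nat_lit 10), (nat_lit 6), (nat_lit 7), (nat_lit 4), (nat_lit 2), (nat_lit 5), (nat_lit 10), (nat_lit 6), (nat_lit 2), (nat_lit 5), (nat_lit 10), (nat_lit 6), (nat_lit 3), (nat_lit 5), (nat_lit 10), (nat_lit 6), (nat_lit 4), (nat_lit 5), (nat_lit 10), (nat_lit 6), (nat_lit 2), (nat_lit 5), (nat_lit 10), (nat_lit 6)], (nat_lit 137), (nat_lit 19), (nat_lit 0), (nat_lit 4)⟩))) (BT.node (nat_lit 61) (BT.node (nat_lit 60) (BT.leaf ⟨[(nat_lit 4), (nat_lit 1), (nat_lit 4), (nat_lit 8), (nat_lit 7), (nat_lit 1)], (nat_lit 20), (nat_lit 1), (nat_lit 0), (nat_lit 4)⟩) (BT.leaf ⟨[(nat_lit 10), (nat_lit 4), (nat_lit 7), (nat_lit 10), (nat_lit 4)], (nat_lit 132), (nat_lit 2), (nat_lit 0), (nat_lit 4)⟩)) (BT.node (nat_lit 62) (BT.leaf ⟨[(nat_lit 1), (nat_lit 3), (nat_lit 5), (nat_lit 2), (nat_lit 1), (nat_lit 3), (nat_lit 5), (nat_lit 2)], (nat_lit 33), (nat_lit 0), (nat_lit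 0), (nat_lit 4)⟩) (BT.leaf ⟨[(nat_lit 8), (nat_lit 2), (nat_lit 8), (nat_lit 2), (nat_lit 8), (nat_lit 2)], (nat_lit 23), (nat_lit 1), (nat_lit 0), (nat_lit 4)⟩)))) (BT.node (nat_lit 66) (BT.node (nat_lit 64) (BT.leaf ⟨[(nat_lit 9), (nat_lit 9)], (nat_lit 120), (nat_lit 0), (nat_lit 0), (nat_lit 4)⟩) (BT.node (nat_lit 65) (BT.leaf ⟨[(nat_lit 1), (nat_lit 4), (nat_lit 7), (nat_lit 8), (nat_lit 1), (nat_lit 4)], (nat_lit 21), (nat_lit 2), (nat_lit 0), (nat_lit 4)⟩) (BT.leaf ⟨[(nat_lit 1), (nat_lit 2), (nat_lit 5), (nat_lit 3), (nat_lit 1), (nat_lit 2), (nat_lit 5), (nat_lit 3)], (nat_lit 31), (nat_lit 0), (nat_lit 0), (nat_lit 4)⟩))) (BT.node (nat_lit 68) (BT.node (nat_lit 67) (BT.leaf ⟨[(nat_lit 9), (nat_lit 1), (nat_lit 9), (nat_lit 1)], (nat_lit 122), (nat_lit 0), (nat_lit 0), (nat_lit 4)⟩) (BT.leaf ⟨[(nat_lit 1), (nat_lit 7), (nat_lit 1), (nat_lit 7)], (nat_lit 10), (nat_lit 0), (nat_lit 0), (nat_lit 4)⟩)) (BT.node (nat_lit 69) (BT.leaf ⟨[(nat_lit 8),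 (nat_lit 7), (nat_lit 8), (nat_lit 7)], (nat_lit 16), (nat_lit 1), (nat_lit 0), (nat_lit 4)⟩) (BT.leaf ⟨[(nat_lit 9), (nat_lit 4), (nat_lit 9), (nat_lit 4)], (nat_lit 124), (nat_lit 0), (nat_lit 0), (nat_lit 4)⟩))))) (BT.node (nat_lit 77) (BT.node (nat_lit 73) (BT.node (nat_lit 71) (BT.leaf ⟨[(nat_lit 8), (nat_lit 1), (nat_lit 4), (nat_lit 1), (nat_lit 4), (nat_lit 7)], (nat_lit 21), (nat_lit 5), (nat_lit 0), (nat_lit 4)⟩) (BT.node (nat_lit 72) (BT.leaf ⟨[(nat_lit 8), (nat_lit 4), (nat_lit 1), (nat_lit 4), (nat_lit 1), (nat_lit 7)], (nat_lit 167), (nat_lit 1), (nat_lit 0), (nat_lit 4)⟩) (BT.leaf ⟨[(nat_lit 10), (nat_lit 5), (nat_lit 10), (nat_lit 5), (nat_lit 1), (nat_lit 10), (nat_lit 5)], (nat_lit 133), (nat_lit 2), (nat_lit 0), (nat_lit 4)⟩))) (BT.node (nat_lit 75) (BT.node (nat_lit 74) (BT.leaf ⟨[(nat_lit 6), (nat_lit 1), (nat_lit 5), (nat_lit 1)], (nat_lit 9), (nat_lit 3), (nat_lit 0), (nat_lit 4)⟩) (BT.leaf ⟨[(nat_lit 8), (nat_lit 6), (nat_lit 7),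 (nat_lit 8), (nat_lit 5)], (nat_lit 18), (nat_lit 1), (nat_lit 0), (nat_lit 4)⟩)) (BT.node (nat_lit 76) (BT.leaf ⟨[(nat_lit 5), (nat_lit 5), (nat_lit 5)], (nat_lit 5), (nat_lit 0), (nat_lit 0), (nat_lit 4)⟩) (BT.leaf ⟨[(nat_lit 10), (nat_lit 1), (nat_lit 10), (nat_lit 1)], (nat_lit 129), (nat_lit 0), (nat_lit 0), (nat_lit 4)⟩)))) (BT.node (nat_lit 80) (BT.node (nat_lit 78) (BT.leaf ⟨[(nat_lit 2), (nat_lit 5), (nat_lit 3), (nat_lit 5), (nat_lit 2), (nat_lit 5), (nat_lit 3), (nat_lit 6), (nat_lit 2), (nat_lit 5), (nat_lit 3), (nat_lit 5), (nat_lit 2), (nat_lit 5), (nat_lit 3), (nat_lit 6)], (nat_lit 119), (nat_lit 0), (nat_lit 0), (nat_lit 4)⟩) (BT.node (nat_lit 79) (BT.leaf ⟨[(nat_lit 3), (nat_lit 6), (nat_lit 4), (nat_lit 8), (nat_lit 3), (nat_lit 1), (nat_lit 8), (nat_lit 2), (nat_lit 6), (nat_lit 2), (nat_lit 5), (nat_lit 8), (nat_lit 1), (nat_lit 6)], (nat_lit 262), (nat_lit 8), (nat_lit 0), (nat_lit 4)⟩) (BT.leaf ⟨[(nat_lit 3), (nat_lit 5), (nat_lit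 10), (nat_lit 6), (nat_lit 2), (nat_lit 8), (nat_lit 6), (nat_lit 3), (nat_lit 5), (nat_lit 10), (nat_lit 6), (nat_lit 2), (nat_lit 5), (nat_lit 10), (nat_lit 6), (nat_lit 3), (nat_lit 5), (nat_lit 10), (nat_lit 6), (nat_lit 5), (nat_lit 5), (nat_lit 10), (nat_lit 6), (nat_lit 2), (nat_lit 5), (nat_lit 10), (nat_lit 6)], (nat_lit 138), (nat_lit 19), (nat_lit 0), (nat_lit 4)⟩))) (BT.node (nat_lit 82) (BT.node (nat_lit 81) (BT.leaf ⟨[(nat_lit 7), (nat_lit 5), (nat_lit 7), (nat_lit 8), (nat_lit 6)], (nat_lit 17), (nat_lit 4), (nat_lit 0), (nat_lit 4)⟩) (BT.leaf ⟨[(nat_lit 2), (nat_lit 5), (nat_lit 10), (nat_lit 6), (nat_lit 3), (nat_lit 5), (nat_lit 10), (nat_lit 6), (nat_lit 6), (nat_lit 5), (nat_lit 10), (nat_lit 6), (nat_lit 2), (nat_lit 5), (nat_lit 10), (nat_lit 6), (nat_lit 3), (nat_lit 5), (nat_lit 10), (nat_lit 6), (nat_lit 2), (nat_lit 5), (nat_lit 8), (nat_lit 3), (nat_lit 5), (nat_lit 10), (nat_lit 6)], (nat_lit 285), (nat_lit 7), (nat_lit 0),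 (nat_lit 4)⟩)) (BT.node (nat_lit 83) (BT.leaf ⟨[(nat_lit 8), (nat_lit 3), (nat_lit 1), (nat_lit 4), (nat_lit 6), (nat_lit 4), (nat_lit 5), (nat_lit 2)], (nat_lit 179), (nat_lit 5), (nat_lit 0), (nat_lit 4)⟩) (BT.leaf ⟨[(nat_lit 2), (nat_lit 5), (nat_lit 10), (nat_lit 6), (nat_lit 3), (nat_lit 5), (nat_lit 10), (nat_lit 6), (nat_lit 5), (nat_lit 5), (nat_lit 10), (nat_lit 6), (nat_lit 2), (nat_lit 5), (nat_lit 10), (nat_lit 6), (nat_lit 3), (nat_lit 5), (nat_lit 10), (nat_lit 6), (nat_lit 2), (nat_lit 8), (nat_lit 6), (nat_lit 3), (nat_lit 5), (nat_lit 10), (nat_lit 6)], (nat_lit 138), (nat_lit 3), (nat_lit 0), (nat_lit 4)⟩)))))) (BT.node (nat_lit 98) (BT.node (nat_lit 91) (BT.node (nat_lit 87) (BT.node (nat_lit 85) (BT.leaf ⟨[(nat_lit 8), (nat_lit 7), (nat_lit 6), (nat_lit 7), (nat_lit 5)], (nat_lit 164), (nat_lit 2), (nat_lit 0), (nat_lit 4)⟩) (BT.node (nat_lit 86) (BT.leaf ⟨[(nat_lit 2), (nat_lit 5), (nat_lit 3), (nat_lit 6), (nat_lit 2), (nat_lit 6),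 (nat_lit 3), (nat_lit 6), (nat_lit 2), (nat_lit 5), (nat_lit 3), (nat_lit 6), (nat_lit 2), (nat_lit 6), (nat_lit 3), (nat_lit 6)], (nat_lit 263), (nat_lit 1), (nat_lit 0), (nat_lit 4)⟩) (BT.leaf ⟨[(nat_lit 2), (nat_lit 6), (nat_lit 3), (nat_lit 6), (nat_lit 4), (nat_lit 5), (nat_lit 8), (nat_lit 3), (nat_lit 6), (nat_lit 2), (nat_lit 5), (nat_lit 3), (nat_lit 1), (nat_lit 4), (nat_lit 3), (nat_lit 5)], (nat_lit 265), (nat_lit 3), (nat_lit 0), (nat_lit 4)⟩))) (BT.node (nat_lit 89) (BT.node (nat_lit 88) (BT.leaf ⟨[(nat_lit 2), (nat_lit 4), (nat_lit 2), (nat_lit 4)], (nat_lit 8), (nat_lit 0), (nat_lit 0), (nat_lit 4)⟩) (BT.leaf ⟨[(nat_lit 2), (nat_lit 2), (nat_lit 2)], (nat_lit 4), (nat_lit 0), (nat_lit 0), (nat_lit 4)⟩)) (BT.node (nat_lit 90) (BT.leaf ⟨[(nat_lit 3), (nat_lit 1), (nat_lit 2), (nat_lit 6), (nat_lit 3), (nat_lit 1), (nat_lit 2), (nat_lit 6)], (nat_lit 178), (nat_lit 2), (nat_lit 0), (nat_lit 4)⟩) (BT.leaf ⟨[(nat_lit 3), (nat_lit 4), (nat_lit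 3), (nat_lit 4)], (nat_lit 155), (nat_lit 1), (nat_lit 0), (nat_lit 4)⟩)))) (BT.node (nat_lit 94) (BT.node (nat_lit 92) (BT.leaf ⟨[(nat_lit 3), (nat_lit 6), (nat_lit 7), (nat_lit 5), (nat_lit 2), (nat_lit 7), (nat_lit 5), (nat_lit 4), (nat_lit 6)], (nat_lit 213), (nat_lit 8), (nat_lit 0), (nat_lit 4)⟩) (BT.node (nat_lit 93) (BT.leaf ⟨[(nat_lit 2), (nat_lit 5), (nat_lit 8), (nat_lit 6), (nat_lit 3), (nat_lit 5), (nat_lit 4), (nat_lit 8), (nat_lit 6)], (nat_lit 64), (nat_lit 0), (nat_lit 0), (nat_lit 4)⟩) (BT.leaf ⟨[(nat_lit 10), (nat_lit 7), (nat_lit 10), (nat_lit 7)], (nat_lit 131), (nat_lit 0), (nat_lit 0), (nat_lit 4)⟩))) (BT.node (nat_lit 96) (BT.node (nat_lit 95) (BT.leaf ⟨[(nat_lit 2), (nat_lit 4), (nat_lit 1), (nat_lit 2), (nat_lit 6), (nat_lit 4), (nat_lit 3), (nat_lit 1), (nat_lit 2), (nat_lit 6)], (nat_lit 220), (nat_lit 2), (nat_lit 0), (nat_lit 4)⟩) (BT.leaf ⟨[(nat_lit 3), (nat_lit 9), (nat_lit 2), (nat_lit 9)], (nat_lit 123), (nat_lit 3), (nat_lit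 0), (nat_lit 4)⟩)) (BT.node (nat_lit 97) (BT.leaf ⟨[(nat_lit 2), (nat_lit 8), (nat_lit 3), (nat_lit 5), (nat_lit 4), (nat_lit 7), (nat_lit 6)], (nat_lit 27), (nat_lit 0), (nat_lit 0), (nat_lit 4)⟩) (BT.leaf ⟨[(nat_lit 3), (nat_lit 4), (nat_lit 8), (nat_lit 3), (nat_lit 6), (nat_lit 4), (nat_lit 1), (nat_lit 7), (nat_lit 5)], (nat_lit 193), (nat_lit 2), (nat_lit 0), (nat_lit 4)⟩))))) (BT.node (nat_lit 105) (BT.node (nat_lit 101) (BT.node (nat_lit 99) (BT.leaf ⟨[(nat_lit 4), (nat_lit 8), (nat_lit 4), (nat_lit 8)], (nat_lit 15), (nat_lit 0), (nat_lit 0), (nat_lit 4)⟩) (BT.node (nat_lit 100) (BT.leaf ⟨[(nat_lit 10), (nat_lit 9), (nat_lit 10), (nat_lit 9), (nat_lit 7)], (nat_lit 128), (nat_lit 0), (nat_lit 0), (nat_lit 4)⟩) (BT.leaf ⟨[(nat_lit 4), (nat_lit 5), (nat_lit 2), (nat_lit 8), (nat_lit 3), (nat_lit 1), (nat_lit 4), (nat_lit 6)], (nat_lit 179), (nat_lit 2), (nat_lit 0), (nat_lit 4)⟩))) (BT.node (nat_lit 103) (BT.node (nat_lit 102) (BT.leaf ⟨[(nat_lit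 3), (nat_lit 7), (nat_lit 2), (nat_lit 7)], (nat_lit 11), (nat_lit 2), (nat_lit 0), (nat_lit 4)⟩) (BT.leaf ⟨[(nat_lit 2), (nat_lit 5), (nat_lit 4), (nat_lit 6), (nat_lit 3), (nat_lit 8)], (nat_lit 22), (nat_lit 0), (nat_lit 0), (nat_lit 4)⟩)) (BT.node (nat_lit 104) (BT.leaf ⟨[(nat_lit 4), (nat_lit 9), (nat_lit 4), (nat_lit 9)], (nat_lit 124), (nat_lit 1), (nat_lit 0), (nat_lit 4)⟩) (BT.leaf ⟨[(nat_lit 3), (nat_lit 1), (nat_lit 3), (nat_lit 1), (nat_lit 3), (nat_lit 1)], (nat_lit 166), (nat_lit 0), (nat_lit 0), (nat_lit 4)⟩)))) (BT.node (nat_lit 108) (BT.node (nat_lit 106) (BT.leaf ⟨[(nat_lit 2), (nat_lit 7), (nat_lit 3), (nat_lit 7)], (nat_lit 11), (nat_lit 0), (nat_lit 0), (nat_lit 4)⟩) (BT.node (nat_lit 107) (BT.leaf ⟨[(nat_lit 3), (nat_lit 8), (nat_lit 2), (nat_lit 5), (nat_lit 4), (nat_lit 6)], (nat_lit 22), (nat_lit 4), (nat_lit 0), (nat_lit 4)⟩) (BT.leaf ⟨[(nat_lit 2), (nat_lit 9), (nat_lit 3), (nat_lit 9)], (nat_lit 123), (nat_lit 1), (nat_lit 0),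 (nat_lit 4)⟩))) (BT.node (nat_lit 110) (BT.node (nat_lit 109) (BT.leaf ⟨[(nat_lit 8), (nat_lit 2), (nat_lit 1), (nat_lit 3), (nat_lit 7), (nat_lit 8), (nat_lit 2), (nat_lit 1), (nat_lit 3)], (nat_lit 44), (nat_lit 7), (nat_lit 0), (nat_lit 4)⟩) (BT.leaf ⟨[(nat_lit 8), (nat_lit 7), (nat_lit 4), (nat_lit 1), (nat_lit 4), (nat_lit 1)], (nat_lit 168), (nat_lit 0), (nat_lit 0), (nat_lit 4)⟩)) (BT.node (nat_lit 111) (BT.leaf ⟨[(nat_lit 8), (nat_lit 3), (nat_lit 1), (nat_lit 2), (nat_lit 8), (nat_lit 7), (nat_lit 3), (nat_lit 1), (nat_lit 2)], (nat_lit 188), (nat_lit 1), (nat_lit 0), (nat_lit 4)⟩) (BT.leaf ⟨[(nat_lit 0), (nat_lit 6), (nat_lit 8), (nat_lit 5), (nat_lit 7)], (nat_lit 13), (nat_lit 2), (nat_lit 1), (nat_lit 4)⟩))))))))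
noncomputable def eCo2_hcs : List CW := [⟨[(nat_lit 1)], (nat_lit 0), (nat_lit 0), (nat_lit 0), (nat_lit 0)⟩, ⟨[(nat_lit 2)], (nat_lit 1), (nat_lit 0), (nat_lit 0), (nat_lit 0)⟩, ⟨[(nat_lit 4)], (nat_lit 2), (nat_lit 0), (nat_lit 0), (nat_lit 0)⟩, ⟨[(nat_lit 5)], (nat_lit 3), (nat_lit 0), (nat_lit 0), (nat_lit 0)⟩, ⟨[(nat_lit 7)], (nat_lit 4), (nat_lit 0), (nat_lit 0), (nat_lit 0)⟩, ⟨[(nat_lit 8)], (nat_lit 5), (nat_lit 0), (nat_lit 0), (nat_lit 0)⟩, ⟨[(nat_lit 9)], (nat_lit 6), (nat_lit 0), (nat_lit 0), (nat_lit 0)⟩, ⟨[(nat_lit 1)], (nat_lit 7), (nat_lit 0), (nat_lit 0), (nat_lit 0)⟩, ⟨[(nat_lit 3)], (nat_lit 8), (nat_lit 0), (nat_lit 0), (nat_lit 0)⟩, ⟨[(nat_lit 4)], (nat_lit 9), (nat_lit 0), (nat_lit 0), (nat_lit 0)⟩, ⟨[(nat_lit 6)], (nat_lit 10), (nat_lit 0), (nat_lit 0), (nat_lit 0)⟩, ⟨[(nat_lit 7)], (nat_lit 11), (nat_lit 0), (nat_lit 0), (nat_lit 0)⟩, ⟨[(nat_lit 8)], (nat_lit 12), (nat_lit 0), (nat_lit 0), (nat_lit 0)⟩, ⟨[(nat_lit 9)], (nat_lit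 13), (nat_lit 0), (nat_lit 0), (nat_lit 0)⟩]
noncomputable def eCo2_H (x j : Nat) : Bx (Nat → Nat → Nat) := mkH eCo2_L eCo2_pb.1 eCo2_e.get (lmap CW.w eCo2_hcs) (nat_lit 1) (nat_lit 2) (nat_lit 11) (nat_lit 512) (nat_lit 65536) (nat_lit 32767) x (eCo2_rots.get j)
noncomputable def eCo2_F (x b : Nat) : Bool := blkOK eCo2_H eCo2_ch (nat_lit 2) (nat_lit 512) (nat_lit 128) (nat_lit 7) (nat_lit 127) (nat_lit 23) (nat_lit 8388607) x b

theorem eCo2_k0_0 : allFrom (eCo2_F (nat_lit 0)) (nat_lit 0) (nat_lit 8) = true := by decide +kernel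
theorem eCo2_k1_0 : allFrom (eCo2_F (nat_lit 1)) (nat_lit 0) (nat_lit 8) = true := by decide +kernel
theorem eCo2_k2_0 : allFrom (eCo2_F (nat_lit 2)) (nat_lit 0) (nat_lit 8) = true := by decide +kernel
theorem eCo2_k3_0 : allFrom (eCo2_F (nat_lit 3)) (nat_lit 0) (nat_lit 8) = true := by decide +kernel
theorem eCo2_k4_0 : allFrom (eCo2_F (nat_lit 4)) (nat_lit 0) (nat_lit 8) = true := by decide +kernel
theorem eCo2_k5_0 : allFrom (eCo2_F (nat_lit 5)) (nat_lit 0) (nat_lit 8) = true := by decide +kernel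
theorem eCo2_k6_0 : allFrom (eCo2_F (nat_lit 6)) (nat_lit 0) (nat_lit 8) = true := by decide +kernel
theorem eCo2_k7_0 : allFrom (eCo2_F (nat_lit 7)) (nat_lit 0) (nat_lit 8) = true := by decide +kernel
theorem eCo2_k8_0 : allFrom (eCo2_F (nat_lit 8)) (nat_lit 0) (nat_lit 8) = true := by decide +kernel
theorem eCo2_k9_0 : allFrom (eCo2_F (nat_lit 9)) (nat_lit 0) (nat_lit 8) = true := by decide +kernel
theorem eCo2_k10_0 : allFrom (eCo2_F (nat_lit 10)) (nat_lit 0) (nat_lit 8) = true := by decide +kernel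

noncomputable def eCo3_c0 : BT (Bx Nat) := (BT.node (nat_lit 2) (BT.node (nat_lit 1) (BT.leaf (Bx.mk (nat_lit 0x1a0cac00000000000000000000000000000000000000000000000000000000000000000000000000000000000000180c52000000000000000000000000000000000000000000000000000000000000000000000000000000000000000000003418a05832600000000000000000098323000000000000000000000000a0628180c5000000000000000000160c500000000000000000000000000000000000000000000000000000000000000000000000000000000000000000000000000000000000000120c5000000000000000000000000000000000000000000000000000005031408061100000000000000000000000000000000000000000000000e0c2200000000000000000000000000000000000000000000000000000000000000000000000000038304800000000000000000000000000000000000000003030280000000000000000028301840603060c0404180400000000000))) (BT.leaf (Bx.mk (nat_lit 0x98374800000000000000000000000000000000000000000000000000000000000000000000000000000000000000000000000000000003819589035a000000260da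a0000000000000000000000000000000000000000000000000000000000000000000002418440000000000000000000000000000000000160c50000000000000000000000000000000000000000000000000000000000000000000000000000000001206c10000000000008030f9006550000000000000000000000000000000000000000000000200d6a0000007832b040603000000000000000000000000000004c1a68a034c800000000000000000000000000000000000000000000009062800000000000000000000000000000000000000000000000000004c1a649032300000000000000000000000000000000000000000000001406772a0cec0000000000000000000000000000000000000000160c8e0000000000000000000000000000000000000000)))) (BT.node (nat_lit 3) (BT.leaf (Bx.mk (nat_lit 0x4c1dec90398930770040c020000008838d1106c0000000000000000000000002c0eb8501d6ca03ad130759280e64000000000001407542fa2a6541d48a83a8800000260e98441d0c983a5130746240e6a501d10983a180000000000000000000000000000240e980000008835b9207280000000000000000000000000000000000000000000000000000000000000001006d3240e86401ba800000000000000000481cd4000001006da1e0d480000000000000000000000000000000000030603000000481cbc8835a8000000000002c18cc9038d0000000000000000008837511072300000000000098373800000000000000000983890f0656280e24541c44000001406c4220d804c1b04a03600000000000004c1ad4000000000000000003c199c0000000000000000000000000000140712000000441b0400000000000000000000000000001406f22a0de200000000000000000260d68000000a83739606e600000000000000000000000)))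 (BT.leaf (Bx.mk (nat_lit 0x120783240e6c4c1ce49839812077b260efa501df0b03bd140779280ef0501ce89839c950737280f044c1cd478343930731260e60501cbc00000000000240d804c1cd89039c800000)))))
noncomputable def eCo3_c1 : BT (Bx Nat) := (BT.node (nat_lit 2) (BT.node (nat_lit 1) (BT.leaf (Bx.mk (nat_lit 0x588d66b1ca2143b542a468a000000000000000003946855ced4ab9dab5ca34100000054ed5ee8a18dd0e313a0e6152ed2a9d1a7dd072f2b7697528d42000001aa348b5469a74dcaa000001aa34ebc6e58000000000001ca338000000568d28e519b53a3512946966a8d3c000001aa3473b46646a8d36d51a41ca333af28395e387000000178e25af0e405e507ebc70f800000000000000000dca115b8e22380e2a705052e070a1b2325364649701c62e0a0c1c0e17ae4650000000b91939e071bbc283678386a0000017232a000000768c7aed18f1da31dbc0e2d785058f070adba321b746426e8c82000001da31a3b4633768c64dd1921ba323b74646701c38c578618af11380e1962bc36c11895d070b394a1e74b422e11881d2d0a000000608c46f9105dba3123046267a8c34000001f290939461d000000f51855ca30fba280c743816f0a029e0e04b94610728c1eed1839da306bc4a067c880aed1821ea303bf28047e380700380a10300800000)))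 (BT.leaf (Bx.mk (nat_lit 0x5639e800000000000381ceb588e52000000000000000007051ca000000000002a46ff00000000000132390800000000000000001187760000000000000000016238f800000000000b11c9800000000000000000e0732c00000000000000000e0a31c0000029470f00000000000000000340ed7000000cd1c559a38a33471370516ae072d000000000000000000e8a2f1d0e5db90ec6000000000000000000000000000000000012a38e0000004a8e349d1c340000027470b6a1d72000000000003946ce728d9a00000000000334709000000000001ba369b746d25a1cfe00000000000000000528ce6000000000002d288c5a3916b43a253bb5927467d000000000000000000000006a1d30a1297552d3580000050b4dcd8a16db2532b55a8d6c1caed929a1aad47800000000000a9b970000002c5e5f000000d871a9b0734b64a56688d32d9296400000000000000000add1f1623552b467e52ed62e871e5d073c2e76ae5ced48e839d400000000000)))) (BT.node (nat_lit 3) (BT.leaf (Bx.mk (nat_lit 0x643a8e00000000000325b31000000c43dace23981a1d4344be748dde093149c0000004c1e6e8dde053a3a500000000000000000000000000000608ef4c91d11a379780000000000000000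10b7ad1f778974deb0a1d548000000000000000000000000000000000046ef2c811d9503bc980000000000000000000000000000548f229d1d8903bc300000000000081bcfd023c1a26f393eea6ca1ddc400000000000000000e1d4c800000334b6a000000000001c079a0000003e8e9c00000000000000000000000851ddd0a3a60000004a8ee6791d2c00000000000000000dd1d18000001d777900000000000131492261d23000000a073f56947dad1cfa000000b47398000000000000000009ca3c938e788000005a39d200000168e7c260ec500000098730c00000281cd9000000d07341a076b3428d56839a8cca41598e822a0edd5451b8a8736d40761000000503980a07381a075c00000068396c000000000003247110000009c3c0400000000000))) (BT.leaf (Bx.mk (nat_lit 0x3c1f40000000000001d47a3000000000001287ce00000000000000000000000000000000000891d6c000000000000000007d1e21587a99847874eb6c200000000000250f5c34becc0000000000020779232ef207d1d452149f241d3d42969a00000000000000000)))))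
noncomputable def eCo3_c2 : BT (Bx Nat) := (BT.node (nat_lit 2) (BT.node (nat_lit 1) (BT.leaf (Bx.mk (nat_lit 0x104d8e5f9b3f4136387e6cf8000000000003f36e8826c6cfcd9dc000000000007e6ce800000000000000000826c66fcd9bc000004136327e6cd8000000000004136307e6cd000000209b17bf36650000000000000000041362c000000fcdb0a09b1580000000000000000209b1480000000000104d8a1f9b2b4202b1000001080abe10156800000000001080aa000000000000840549080a861014f800000840539080a661014b420294000001080a3e10146c0101c000001080a1c000004202838405000000021013ec2027b0000010809da10139c010168404dd0809ac000004202678404c800000200809c2025f8404b80000021012c42025500000000000000000000000000000fcd88c0000000000000000104d835f9b0f000000826c18fcd86df9b1bc1360b000000fcd8c609b053f36157e6c5504d825f9b0942022584044508087e1010ec2021a84042f08085210108c136047e6c1104d80df9b0342020784040b00400a10300800000))) (BT.leaf (Bx.mk (nat_lit 0x6731f1080d95452793237507f2983080d8e101b0b29ab6000000000002101afa836e700000088dc8a101ad00000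000000000000000000000000000001080d6000000000000406e29080d44000003f86df000000000002101a722aacd00000000000200836c2034c55663f080d280000000000000000000000000000420345840686a4db48000000000000000000000000000000000000000088daee1019f800000706dca0000020082f2336e98406720000012ce8742033500000000000000000000000000001080ccc00000401057840662c673fe10197a637050000000000000000000000000000104d945f9b57000000000000000000000003f36a90000000000000000000000000000104d929f9b510000007e6d400000000000000000000000104d919f9b4d000000826c8afcda5e09b22000000000000000000000004136427e6d2104d905f9b470000000000000000000000041363e7e6d100000000000041363c00000000000000000000000)))) (BT.node (nat_lit 3) (BT.leaf (Bx.mk (nat_lit 0x84457a09b89bf377d00000000000209b8880000000000000000000000000000000000000000000000000007e6ee00000000000000000000000104dc100000000000000000104dbf9f9bb34136fa00000104dbe5f9bb14136f57e6ec0a045500000000000000000000000209b750000000000000000000000000000000000104db980000000000000000000000209b6e3f374d826db40000000000000000000000104db51f9ba34136d3000000000000000003f37a00000000000000000000000000000104db0c0000000000000000104db000000000000000000104daddf9b994136b57e6e6090ddb0fd993c2039784072a0000010596cc2039247660f080e3e00855239b1d84071a000002101c5420388000001080e1800000000000000001080e0a101c00000000000000000020084da3b2f48406f894dad2101bc0000008406ec9abbede9b882236c48406e20000000000042036f00000000000121b8942036900000000000000000420367)))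 (BT.leaf (Bx.mk (nat_lit 0x306f340000000000000000000000000000000000000000000000000000000001e1149000000fcde4c0000000000000000104dc8c00000000000826e4200000000000000000826e3c00000000000000000000000fcde0e09b8c800000)))))
noncomputable def eCo3_c3 : BT (Bx Nat) := (BT.node (nat_lit 2) (BT.node (nat_lit 1) (BT.leaf (Bx.mk (nat_lit 0x100e1f60891cc0387b822470000000000000000008070ed0448d80000040387382246a000000000000000008070dd0448cc0000040386b8224640000000000040386782246000000201c3241122f0000000000000000000000082245800000201c2e41122b00000000000201c2c4112297e257100e156089144202b2000001080ac210157000000000001080aa60311200000084054b080a8a1015000000084053b080a6a1014bc20295000001080a4210147000000840515080a220310e4202848405020000021013f42027c80c4330809de1013a0000008404df0809b20310b4202688404ca000000000004202608404bb01884e1012cc202560000000000000000000000080704504483c0000000000082241d00e0760890680000080703504483000000403817822416fc48d201c0a41120a00000100e04608904c202268404470808821010f42021b8404310808561010940380782240900e01608901c2020884040cfc480a08400800000)))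 (BT.leaf (Bx.mk (nat_lit 0x60256d080d98000003462e2000001080d92101b1000000000000000002101b022131480c4fe9c4bf6101ad80000000000000000000000000000000001080d6525062406278533de9080d49cc563800000491191080d40000000000000000000000000000042034d000001080d2cf899480000000000000000000000420346840688aa8b480000000000080c4cc00000108970000000000000000000000000000000000000000000000023390c840675018979f097dc2033600000000000000000000000475194000000000000000008406640000021019826b1120000000000000000000000000000100e2b60892880000000000000000201c5441124e0000000000000000041124b00000100e2860892540389f822492000000000004112477e262b00e2660892300000080712d044914000004112440000000000000000040388f82248500e236089208000000000000000000000040388782247c000000000004038838224780000000000041123b)))) (BT.node (nat_lit 3) (BT.leaf (Bx.mk (nat_lit 0x201cbe411313000000000000000004113110000000000000000000000000000000000208985c0396f8226100000000000025632e00000100e5a60898200000000000100e5960897f00000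08225f500e5860897cc0395f8225ea00000000000000000000001044bc601cac4112ea00000000000000000000000000000000002089733338fc00000000000201ca64112dc807295044b680000000000000000100e5160896a0000008225a6000000000000000008225920000000000000000000000100e4e60896180000000000100e4d60896000000082257500e4c60895bc0392f82256a0000000000042039884072c000000000004203933c265b080e400000000000084071c8eb3ca101c5c203895225b7080e1d10992000000000001080e0e101c08000000000000000000000021ace78406fa94e416101bcbe630d8406ee904b040000027ace98406e4000001f31834203700000000000013d65a42036a00000000000000000420368))) (BT.leaf (Bx.mk (nat_lit 0x7336840000000000080c69e0000000000040634000000000000000000000000000000673e7c0000000000000000000000000000000000807325044ca00000000000000000100e63608991800000000001044c8400000000000000001044c7800000000000807305044c6800000411319)))))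
noncomputable def eCo3_c4 : BT (Bx Nat) := (BT.node (nat_lit 2) (BT.node (nat_lit 1) (BT.leaf (Bx.mk (nat_lit 0x5c790ab8e99d72e3400000000000000000000000283ca300000000000000000000000000000d1396c000000000006e74b0dd7165b8b36b63c876c7910d089a96b34c2d3c7d5a78fc000001d1d32000000000000000000000000000004c7960bc597971e540000006678e4000001b1e37363c6f000000d8e955a9e2b2b6636000000a598b17b32880000054788ec488ac000002d663f5ecc960000000000000000056d89ee489197331e382238000000b5b129ab320800000587898e488c8000002d3c456ecc76c9a8b982718373c44000000a8f151b111a800000729c52e0f0f8000002f3c3976445e00000000000283c5260789cdd70b5c1e19b72228662c2ccce8519ae0a8000007a7444000001a8b0e353a1a6ab836f4e87400000343c2168783ed0f081b8b0cb83a176e783000000000000323c26702c26ece845d1e090000007c441edd3831f1106b63c0e724416d14041e1104ba3a07727810f4e815e1e033b30047c440700580a10300800000))) (BT.leaf (Bx.mk (nat_lit 0x68456ca69c3d9916c800000000000a4f469553803322f80000000000015276d3422e90000008e9ca593378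800000589dc200000000000000000000000969c7999e7a0000004c9d88d48b980000000000000000000000000000000000000000000000000002b4ed3000000a4f3d591e7ea530ec00000000000129e89203d2c5479b8000000000000000000000008cf45c000002816b90000000000000000000000000000000000169e61253ce74e7a26b97314f5396ac3d2100000094f40c000000000006c457600000000000000000434e56ccf3fd31e842c671d4e7922a4e9d800000273a5f4eb8c0b8eab40000000000000000000000179d2e2f5c5d56cd1800000171d52000000522cf0b0ea3d62e48000000000000a5b2b000000000000000000e0ea65b9e4d2c3c69587506b17211b1d3db65c7c00000000000143359800000000000d0ea34000002a3ca700000000000000000373a6b6eb8d800000178b3fab3c96000000000001b1d40353c81)))) (BT.node (nat_lit 3) (BT.leaf (Bx.mk (nat_lit 0x131d9ca65d3a0000008cf63119ec78000005076caa1759800000000000562ed6a8edc549eb9253b2f4aba608d3cf8000001d5d94547ae6aceda551eb5293b6152bac400000000000273d824e7b06a0f59c00000283b4a50ba96c19d78000003217536276b4c0f56d19ec3233d87642eae00000000000205d7e627ab8d0ed4599ea9000000442e8200000149da1a95d4400000000000158b9700000000000078f65c00000283d4c0000000000000000000000000000088f5b800000000000000000000000000001d6d8546cf22000000000000000000000007cf65400000000000487ae0000000e9e60a1a6d4000000000000000000000000000000000000000000000046ce50819c6d6916023671900000000000159e5a0000003e7a44a88be911e9000000048cd9c0000000000024670c504586993b552b39300000000000000000000000233d1456ce16000000000002766b5000000000001253922ca7044c9d7cb05afc00000000000)))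 (BT.leaf (Bx.mk (nat_lit 0x705e7400000000000000000699e94d9ed1000000000000000000000001f3b453eba8c80ecc502e9900000044771a89763911e9ba43b7848baf20000000000024177a56766aad74d909dc0215d814876b0917564000000000005076c6a1759000000000000)))))
noncomputable def eCo3_c5 : BT (Bx Nat) := (BT.node (nat_lit 2) (BT.node (nat_lit 1) (BT.leaf (Bx.mk (nat_lit 0x1080bd210178c202f08405dd0490dc000004202eb8405d3080b98000000000000000010490d1f92394202e28405c0000001c30664202db8405b2000000000004202d48405a5080b46101684202cd82485afc918e10165c202c9840591080b1a10161c202c0824854fc916e1015ec202bb840573080ada1015a000000000000000000000004202ab00000000000210153412422000000000001f9225000000000000fc911e0920f3f2445840524000001f922142028b824836fc90fe1014341241a7e48790490660920c3f24398404f304905df921b42027182482afc90ce101354124147e4860000002101314124127e485908096a09208bf242900000108094e10128b6602784049d08092c0000042024984048d08091210120b9243a84047d0808edd120e42023884046a0000021011942022f74482d0808ae101144124087e482104901df92074124067e4819049015f920542020f84041b08082e10104c124027e480908080e10300800000)))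 (BT.leaf (Bx.mk (nat_lit 0x1f927f2096ed824908fc93ec000003f24f90000000000020923f3f24f58406bb0491f5f927900000000000000000109242c124780000010491ddf92754203558248ecfc939e0923a8000008248e600000209237bf24e18248dc0000000000041246c7e49b90491adf926d3224918248d3080d1e092343f24d58248cefc934c00000000000840684000001f9267000000000001049181f92650000008248bc0000021019ec1245d7e49880000020922e3f24c1000001049165f925f41245800000104915c000000000008248acfc92de0922abf24b5000001080cb210195000000000001080ca21019300000000000099840a10191c2032182489a0000021018fc2031d000001080c6a1018c0000000000010491221018b00000068c17f080c4e1018880000084061d080c2e10185000000824886fc924c000004203078406080000000000041244000000000000210180c202ff8405fa0000021017e4202fa8405f00000021017b000000)))) (BT.node (nat_lit 3) (BT.leaf (Bx.mk (nat_lit 0x17c390000000000000000000000000000000000020928680000048c33a70952cd929a9bbb79000000000000000000000000000007984c8e12c10000003d829a000000e61c48000000000007af5140000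0000000000000000000000000000003b76c2709590cddc50000000000010493a1f92ab00000084074a770dbccb0c5c203a40000000000000000020b543000000000000000000000007e4a90000000000001e2546000000000000000000000000000010493140000000000084073c000000de1bc4124c28407380000000000042039a840732000000e61c38000003c4aec000000000003f252d00000000000000000000000000000fc949c000004124a97e4a48000001f92910000000000000000000000042038482494400000209250800000000000000002101bfc1249a000001049265f9289000000000000000002101ba0000007e4a1800000000000000000000001080db609247bf250500000000000000000000000))) (BT.leaf (Bx.mk (nat_lit 0x1f92d3000000000000000002092a000000000000000000000000000000000000fc966c000000000000000005f0e3c0000000000037872a670d8c0000000000000000000000000000000000000000000000000000000000000000000020928e00000000000000000000000000000)))))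
noncomputable def eCo3_c6 : BT (Bx Nat) := (BT.node (nat_lit 2) (BT.node (nat_lit 1) (BT.leaf (Bx.mk (nat_lit 0x1080bd6101790000008405de00000208d1bc202ec8405d5080b9e10172c202e48405c70099c608d1a0000008405c3080b7e1016f4202dc8405b50468c61016bc202d58405a6000000000004202ce804cc50468b4000004202ca000001080b1e101624202c1804cb50468aa1015f4202bc840575080ade1015ac0265382344d00994608d12c202ac804c9d04688e10153c0264b82344500992608d1042029e804c8d04687e01322411a1e84052700990608d0ec2028c804c7d04686c0000040263b823434e898720131c411a188404f50098d608d0bc20272804c650468540000040262f823428e8985a10131c0262b82342508096e01314411a110000010809521012900000084049f0809300000042024a84048f080916101213b541984047f0808f21011d42023984046ced504e10119c2023084045d0808b210114c0260f82341100983608d03c0260b82340d00982608d02c2021084041d0808321010540260382340508081208500800000))) (BT.leaf (Bx.mk (nat_lit 0x823511009bf608d43800000804df5046a120137c411a83000001046a060137a411a7e000001009bc608d3e80000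0804ddd0469ecf8d7e0000008234f1009ba608d3bc20356804dcd0469d80000000000000000000000201370411a6f000000000000000004026db8234d9009b6608d35800000000001080d220136a411a68804da504699c00000411a65000001009b3608d32371a6d8234c3009b2608d30411a5f00000104697a1019f4026c38234bb080ce201360411a5c663537009af608d2c8000008234b000000208d2b800000804d6d04695a0135a411a55000001080cb610195800000000001080ca610193c026ab8234a000000210192420322804d4d0469361019042031e000001080c6e1018c8000000000000000021018b800000000001080c521018900000084061f080c3000000000000804d2504690d9c06c42030884060a00000210181c0268b823480000000000004203008405fc00000114076c202fb8405f3080bdc00000000000)))) (BT.node (nat_lit 3) (BT.leaf (Bx.mk (nat_lit 0xd0db81a1b390000007f24be013ba411b0d0000000000000000000000000000000000208d8300000000000000000000000000000000000772618000001dbf5a000000000000e0dad8000003d72740000000000000000000000000000000000000000000001009d5608d7400000084074c00000000000000000000000000000e8db38000003b8ee4000000000004027478235ac7edd10e8db10000003e3699046b3c000004203a100000000000208d6280000084073e00000000000000000000000000000e62b8c2039b0000000000000000000000000000000000201396411ab2804e55046ac601394411aae804e4d046ab400000402723823553009c8608d5440271f82354b009c7608d52420385804e35046a8a0138c411aa1804e2d046a7400000402713823535009c4608d4c800000804e1d046a5e101bac0270b82352c00000000000402707823521080dba01382411a8f00000000000208d44c026ff)))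 (BT.leaf (Bx.mk (nat_lit 0x1009e9608da9c11b5000000000000000000000000804f3d046ced18db9c11b37804f35046cd208d998000000000000000000000000000000000000000000000161b7c2c372c000000000000000003036a2606d6400000000000363662000002013c2411b1c0000007605a400000000000)))))
noncomputable def eCo3_c7 : BT (Bx Nat) := (BT.node (nat_lit 2) (BT.node (nat_lit 1) (BT.leaf (Bx.mk (nat_lit 0xc1925d8324b000000000000000000000002f64915ec920bd923c000000000006ac91ab47a3000000000000000000000000000003664886cc90ec592180000030648460c906000001b3240b66480543d580000000000000000000000000000173254ae64a85c3d4e00000000000000000000000b99295732522b644a00000000000188f23000000000000c478ada8a26ad6429623c50b0795000000000000583ca4c1914400000351e38000000000001c0f1ab4144062c866e478c800000316430723c5e00000190f22b46444000000c47909bb220800000643c7ee190f9a8a18b21e3c70c876000000000002c1e4f60c89c00000170f2630644b00000000000000000000000000000d8c88800000000000000000f4f878000000000006a7c36d4c869b8a0cb73e186e642ed8505800000363214702826e0f849c1908b51e106e3c1ed87839f0f06b61e0c703c16dc7829c8f04bb3e0876640ef4f819e9902bc1e047c3c0700500a10300800000)))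 (BT.leaf (Bx.mk (nat_lit 0xa47c79a0f5a000000403e5aa5946928f9580000000000000000140f84341ee9000000b47c15a0f732c1ed000000000000000000268cd8000000987c3d9b27a2d6506543e18cd93c40000000000000000000000128f8b80000000000000000000000251f206a3d6c0000016328e80000000000000000110f8d8000004a3e3200000000000000000000000ac7bbc00000000000000000000001b8f5eb51ebb00000000000163292a51f1446ca5000000128f93a765110000000000000000000000000000000000000000000000643e00d1936d58f6d3364fd562946acfa8959950800000566538bcfa697994ca9646300000000000179f2eaf325c5ac8b6c4796979f2b2f3255000000a992c95325880000000000000000000000000000000000b992b80000031147f627cfcc4c9f599f3e00000000000000000180a3c303e776064ec000001b1939ac6472603ce2c4f9bdb8a36b73e6c6e64d6c879a988a34b13e686264ce000001b9f32b73264)))) (BT.node (nat_lit 3) (BT.leaf (Bx.mk (nat_lit 0x9054f00000024658d0000009854dd31f9b2633354a7eb294cd6000000211f6d562ad6acfda9599b4a73f604e66be00000000000000000000000a995c800000313f326266629d961c00000276583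4ecb0400000000000266570000000c8555d18faa800000647ea4c8cd440000024657662cabc787dd400000000000000000c5956d8b2ad00000000000000000000000236588547e60a8ccbc000001f1f85000000000000000000000000000000000000000000000000000000000000000000000000000000000000000000000000009595e52b2bc000000000000c195a00000000000052ca94000000fb27da71ed400000000000000000241ec348c982987c8568a62a11f294e3e260000012b293000000563dfe00000168f6c80000042c9aaa87be92326980000048c9c2000000000000000004cca46907c8940f60000000000000b47c1d78a79a964e75a3e08a87bd80000000000058ca1cb853a0000002c650b00000000000168f66000000))) (BT.leaf (Bx.mk (nat_lit 0x100fce80000000000074567800000000000000000000000000000000000000000000000000000000000000090fd89219b0800000447e7488cce520ac6243f8b48671494fdf5299be00000000000000000121fa6a4334c507ecca0cd94f32a4000000507ec8a0cd8d21fa2243343)))))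
noncomputable def eCo3_c8 : BT (Bx Nat) := (BT.node (nat_lit 2) (BT.node (nat_lit 1) (BT.leaf (Bx.mk (nat_lit 0xd961ddb1a3b2e586558ad0000000000000277c786aacfcd559f4000000000004ef53e000001790458000004c81609902bd70c44b758565cf148000000000002840b20000000000016ab3e2d4094000000b132ac000003958596e68b00000012a057294c99000000c08299c2b3036565f000000d959b1aa0438000005aac920000016ab23000000000000b558ac00000352a4c5eac5000000172629800000000000b931440000033563800000000000192b1a800000000000cd58c800000342a3c66ac5ed8a8e9b151cb42044000000d8a8d99a620b15840000000d080f99b41e800000684076000000000000000005c989cc8d135b9514b0204b00000000000000000000000000000ccd0440000032402664804a000001c2b0b80000076b02aecd0500000036401e72983ad48059d2b0dba561a000000c9008d92b113a2a106c981ee8a839ba6068000006e4016f0a829c1004b840087e680ee50019d1a02bf2a047a4006fc600a10300800000))) (BT.leaf (Bx.mk (nat_lit 0x67256cd4ab695bc8e8000000000008934b179569a74d2a000000ae4bc0000002a4d0746add00000016ab82000000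000000b20b340000000000000000000000143c872490f35aae0ab1e42c0000000000000000000000000000274d1600000000000132b5c3457004e9a3ed15bf96415a00000000000000000000000244d1a5cadf29d34600000029790a0000000000000000000000000000000000000000000000000000000000000000000004aae2600000000000274d2600000000000000000000000000000000000000002758dd000000c95bfd62b8f0000000000000000000000025566f00000000000132b5400000056acc40000013ab4d2778ad68554ebd5968000002d566b000000000000000002c588e4cace600000000000000000000000a102a542b2e00000000000000000000000000000000000000000000002e78975cf12c000000000000000005cace2000000000002c40a568acaa000000000002b40a25681420000015a04aad707b)))) (BT.node (nat_lit 3) (BT.leaf (Bx.mk (nat_lit 0x47067a000000eabb9215751000000000000e26a31c7982000000000000000001f575542aea67905f50269ca37981000000b0ad59149ae80000000000071e638d20c923574b66e2cad5653592bb39b41903a6a6a9d05dd2b8afa65744000000000000000000000003c832681e634fa0cb23798000000000000103cba0000004432e69164e9120be000000000000000001a2bb335354a4882d0d15d3000000000000429b086d5de4cabc52741604e82ec0000000000000000000000000000112bbf8000000000008d5d48fabb8800000000000610660e2bb1800000000000d164c13bcc30000004083100000014958da156fa525632995be16958a225723000000995b0122b8aad2ac446f250b4ab052ab88ad2ab74cadb6b4aad552b7e8000000000008d5b50000002656d2000000995b812ac928000004d058600000132690a457095e55ea9d5ba4000002f2af256adcc0000012a6882e2aea52ade889e43571573ae92f16855c600000000000352adc)))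 (BT.leaf (Bx.mk (nat_lit 0x795d6400000000000000000000000000001a576434832e6d5da8fabad00000034af0669c51400000000000408312995cc4000002057473683166d5de112bb8225758)))))
noncomputable def eCo3_c9 : BT (Bx Nat) := (BT.node (nat_lit 2) (BT.node (nat_lit 1) (BT.leaf (Bx.mk (nat_lit 0x210300800000))) (BT.leaf (Bx.mk (nat_lit 0x0)))) (BT.node (nat_lit 3) (BT.leaf (Bx.mk (nat_lit 0x0))) (BT.leaf (Bx.mk (nat_lit 0x0)))))
noncomputable def eCo3_c10 : BT (Bx Nat) := (BT.node (nat_lit 2) (BT.node (nat_lit 1) (BT.leaf (Bx.mk (nat_lit 0x825c720000021017980000000000000000210176c12e36000001080ba20971a80000000000000000000000000000000000000002097194202dd000001080b62097184202d600000104b8bc000004202cf8405980000020971600000000000104b8ae10162c202c284057e00000000000000000825c51080ae0000004202b300000000000000000000000000001080aaa09711000000000001080a8c00000412e1f000001080a6e1014c000000825c3b080a4400000412e1b000001080a24000004202858405040000021013f800000825c2f0809e21013ac12e158404e10809b60970a4202698404cc000002097094202618404bd04b8440000042025700000000000000000412e0f8404a10809340000000000084049000000210121c12e0c8404810808f60970580000084046f04b82a1011a420231825c130808b6101154202278404490808840000042021c84043308085a10109bd48067a840af0b821e1703bf2c037c5c0904300610201000000)))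 (BT.leaf (Bx.mk (nat_lit 0x7059d60000000000042035e825cfa000002101ae0000000000000000020973ca42e866e5dee000002101abc12e768406a9080d4db427e000000000000d4bb1e101a7800000000000e0b32e09736000000000000000002101a4c12e6a6a592504b9a000000000000000000000001bbf49800000825cc9080d0400000412e636e5dbc000002101a00000006d09c4edf9ca0972ec2033c84067704b97000000420337825cb600000000000420334000000000001bbf4f412e560000000000000000042032e0000000000000000000000000000000000000000298f0100000104b93a1019280000000000000000000000000000825c95080c700000000000000000000000000000000000825c8d080c5400000412e45840621080c34000000000000000000000000000042030984060c000000000004203020000000000020971f000000000000963bb00000000000000000000000000000000000)))) (BT.node (nat_lit 3) (BT.leaf (Bx.mk (nat_lit 0x104bc440000000000000000000000000000000000825e160000000000000000000000000000000000000000825e0800000000000000000000000000000000000000000000000000000000000000000000104bbd000000412ef10000000000000000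0000000825dd200000000000412ee7825dcc00000000000000000825dc3080e8c000000000000000000000020976cc203a20000000000000000000000000000000000209767412ec984074000000000000412ec40000000000000000042039d825d8000000000000412ebc0000000000000000000000000000104bad000000000000000000000002101ca000000000001080e4400000000000000000000002101c600000000000000000000000412ea2000000000000000000000000000000000000000042037e000001080dee101bd0000000000000000020974b0000008406e60000000000000000000000104ba3e101b642036b00000000000141756000000))) (BT.leaf (Bx.mk (nat_lit 0x1ecb9900000000000000000412f3f00000095fe160979c277f756e5a84000000e97d2000000000000000000000000000000000000000020979300000000000000000000000412f21000000000000000000000000000000000000000000000000000000000000000000000)))))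
noncomputable def eCo3_p : BT (Bx Nat) := (BT.node (nat_lit 2) (BT.node (nat_lit 1) (BT.leaf (Bx.mk (nat_lit 0x71c94e390dc72138e0371c04e3719c6e2b8d8a71b06e3609c6a538d4371a84e3419c682b8cca71986e3309c64538c8371904e3115c60538c0371804e2f29c5e1b8bc27168ce2d15c58538b0371604e2b29c561b8ac27150ce2a15c521b8a4271414e280dc501309866130ac251984a2b08ca6118cc23158445308866110ac20198402b07ca60f8cc1f1583c33078560e94c1d1983a2b06ca60d8cc1b1583453068660d0ac191983033060560b94c171982e2b054a60a8cc151582853050660a0ac13198245304866090ac112982233044550814a100d4201283ca50786a0f0941c52838350704a0d0d41a12830a50606a0c094165282c350584a0a294141a828250494a090d4121202064040a8071900e2a01864030a8051900a298103302046030cc061100862010a20128000000000))) (BT.leaf (Bx.mk (nat_lit 0x8440b0871a10e2c21458420d084161063420c58410d081160fc341f8583e9507d1a0fa2c1f0583d8d07b160f2541e0683c0b0771a0ee2c1d8a83b0d076160ea341d068398d070160de341bc58370d06d1a0d8541b068360b06b1a0d62c1a8a8348d0682a0d0341a058338d067160cc2c1945832150641a0c82c18ca8308b0601a0c02c17c582f0d05e160ba54174682e8b05c2a0b834170582d950591a0b22c160682c0b0571a0ae2c158a82b0d056160aa34154572a14e540dca813948372904e510dca21394067280ae4e29c9c1b93827268ce4d15c961b92c272514e4a0dc9413924372484e4819c8e1b91c272314e460dc8c13914a72286e4509c881b91027218ce4315c8453908372104e410dc821390067200ae3f0dc7c538f8371f04e3d15c78538f0371e04e3b29c761b8ec2))))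 (BT.node (nat_lit 3) (BT.leaf (Bx.mk (nat_lit 0x98a8b3142a6261cc4c2989153112a6221cc4429878730f0a61a34c3459859530b0e61614c203984053061a60c2cc14a982153040e60814c003980052fe0e5fc14be8397d052f90e5f214bd4397a852f42a5e62cbc4a978872f10a5d41cba82974952e81a5d02cb9ca973152e60e5cc14b883970952e10a5b81cb70296d072da0a5b254b58696b0b2d40e5a814b4c3969852cf1659c54b24a964852c51a58a2cb10a961952c30e58614b086960152c00e58014af0a95d052b70e56e14ad4395a852b42a164342c858588d0b11615c342b858568d0ad16152542a468548b0a81a1502c29468528b0a41a1482c288a8510d0a21614234284584e8d09d1613454268684d0b0991a1322c25ca84b8d0971612c54258684b0b095161205424068480b08f2a11e3423c58468d08c2a1122c2206))) (BT.leaf (Bx.mk (nat_lit 0x15531aaa62d5405aa7155482aa80354fcaa9d8d53b16a70554dc5a9a0d53416a662ccb039960532b0e65614ca4a994073280a64c54c983993053230e64614c84a990873210a6401cc80298f0731e0a63834c70598d0731a0a6321cc642)))))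
noncomputable def eCo3_e0 : BT Nat := (BT.node (nat_lit 19008) (BT.node (nat_lit 10496) (BT.node (nat_lit 2624) (BT.node (nat_lit 128) (BT.node (nat_lit 69) (BT.node (nat_lit 66) (BT.leaf (nat_lit 2)) (BT.node (nat_lit 68) (BT.leaf (nat_lit 262146)) (BT.leaf (nat_lit 524290)))) (BT.node (nat_lit 72) (BT.node (nat_lit 71) (BT.leaf (nat_lit 786434)) (BT.leaf (nat_lit 1048578))) (BT.node (nat_lit 73) (BT.leaf (nat_lit 1310722)) (BT.leaf (nat_lit 1572866))))) (BT.node (nat_lit 576) (BT.node (nat_lit 256) (BT.node (nat_lit 192) (BT.leaf (nat_lit 97821)) (BT.leaf (nat_lit 64793))) (BT.node (nat_lit 320) (BT.leaf (nat_lit 103189)) (BT.leaf (nat_lit 103181)))) (BT.node (nat_lit 1984) (BT.node (nat_lit 1088) (BT.leaf (nat_lit 84761)) (BT.leaf (nat_lit 84749))) (BT.node (nat_lit 2560) (BT.leaf (nat_lit 84741)) (BT.leaf (nat_lit 98589)))))) (BT.node (nat_lit 5504) (BT.node (nat_lit 4800) (BT.node (nat_lit 3264) (BT.leaf (nat_lit 91413)) (BT.node (nat_lit 4544) (BT.leaf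 (nat_lit 83473)) (BT.leaf (nat_lit 44565)))) (BT.node (nat_lit 5184) (BT.node (nat_lit 4864) (BT.leaf (nat_lit 97309)) (BT.leaf (nat_lit 67353))) (BT.node (nat_lit 5440) (BT.leaf (nat_lit 44301)) (BT.leaf (nat_lit 91165))))) (BT.node (nat_lit 9152) (BT.node (nat_lit 7616) (BT.node (nat_lit 6592) (BT.leaf (nat_lit 97289)) (BT.leaf (nat_lit 97301))) (BT.node (nat_lit 8640) (BT.leaf (nat_lit 97285)) (BT.leaf (nat_lit 91141)))) (BT.node (nat_lit 9792) (BT.node (nat_lit 9216) (BT.leaf (nat_lit 66585)) (BT.leaf (nat_lit 36617))) (BT.node (nat_lit 9856) (BT.leaf (nat_lit 44553)) (BT.leaf (nat_lit 70677))))))) (BT.node (nat_lit 16640) (BT.node (nat_lit 12352) (BT.node (nat_lit 11520) (BT.node (nat_lit 11072) (BT.leaf (nat_lit 91401)) (BT.node (nat_lit 11136) (BT.leaf (nat_lit 75289)) (BT.leaf (nat_lit 44297)))) (BT.node (nat_lit 11712) (BT.node (nat_lit 11584) (BT.leaf (nat_lit 50185)) (BT.leaf (nat_lit 100105))) (BT.node (nat_lit 12288) (BT.leaf (nat_lit 103969))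 (BT.leaf (nat_lit 103957))))) (BT.node (nat_lit 14784) (BT.node (nat_lit 13504) (BT.node (nat_lit 12544) (BT.leaf (nat_lit 44569)) (BT.leaf (nat_lit 68617))) (BT.node (nat_lit 13952) (BT.leaf (nat_lit 91425)) (BT.leaf (nat_lit 83481)))) (BT.node (nat_lit 14976) (BT.node (nat_lit 14912) (BT.leaf (nat_lit 70661)) (BT.leaf (nat_lit 36885))) (BT.node (nat_lit 16192) (BT.leaf (nat_lit 100121)) (BT.leaf (nat_lit 68621)))))) (BT.node (nat_lit 18304) (BT.node (nat_lit 17152) (BT.node (nat_lit 16832) (BT.node (nat_lit 16704) (BT.leaf (nat_lit 92969)) (BT.leaf (nat_lit 66581))) (BT.node (nat_lit 17088) (BT.leaf (nat_lit 75529)) (BT.leaf (nat_lit 95017)))) (BT.node (nat_lit 17664) (BT.node (nat_lit 17536) (BT.leaf (nat_lit 68373)) (BT.leaf (nat_lit 77061))) (BT.node (nat_lit 18048) (BT.leaf (nat_lit 66825)) (BT.leaf (nat_lit 100101))))) (BT.node (nat_lit 18688) (BT.node (nat_lit 18560) (BT.node (nat_lit 18496) (BT.leaf (nat_lit 99853)) (BT.leaf (nat_lit 101417)))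 (BT.node (nat_lit 18624) (BT.leaf (nat_lit 74005)) (BT.leaf (nat_lit 74777)))) (BT.node (nat_lit 18880) (BT.node (nat_lit 18816) (BT.leaf (nat_lit 66833)) (BT.leaf (nat_lit 102697))) (BT.node (nat_lit 18944) (BT.leaf (nat_lit 75285)) (BT.leaf (nat_lit 100113)))))))) (BT.node (nat_lit 23616) (BT.node (nat_lit 22016) (BT.node (nat_lit 20096) (BT.node (nat_lit 19520) (BT.node (nat_lit 19264) (BT.leaf (nat_lit 68625)) (BT.node (nat_lit 19456) (BT.leaf (nat_lit 75533)) (BT.leaf (nat_lit 101897)))) (BT.node (nat_lit 19840) (BT.node (nat_lit 19776) (BT.leaf (nat_lit 102921)) (BT.leaf (nat_lit 98829))) (BT.node (nat_lit 20032) (BT.leaf (nat_lit 91153)) (BT.leaf (nat_lit 101901))))) (BT.node (nat_lit 20864) (BT.node (nat_lit 20672) (BT.node (nat_lit 20224) (BT.leaf (nat_lit 102929)) (BT.leaf (nat_lit 50217))) (BT.node (nat_lit 20736) (BT.leaf (nat_lit 100125)) (BT.leaf (nat_lit 103965)))) (BT.node (nat_lit 21184) (BT.node (nat_lit 21120) (BT.leaf (nat_lit 94485))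 (BT.leaf (nat_lit 101917))) (BT.node (nat_lit 21248) (BT.leaf (nat_lit 94741)) (BT.leaf (nat_lit 103941)))))) (BT.node (nat_lit 22848) (BT.node (nat_lit 22592) (BT.node (nat_lit 22080) (BT.leaf (nat_lit 102925)) (BT.node (nat_lit 22208) (BT.leaf (nat_lit 93961)) (BT.leaf (nat_lit 90393)))) (BT.node (nat_lit 22720) (BT.node (nat_lit 22656) (BT.leaf (nat_lit 102149)) (BT.leaf (nat_lit 92677))) (BT.node (nat_lit 22784) (BT.leaf (nat_lit 102933)) (BT.leaf (nat_lit 102433))))) (BT.node (nat_lit 23168) (BT.node (nat_lit 22976) (BT.node (nat_lit 22912) (BT.leaf (nat_lit 94469)) (BT.leaf (nat_lit 101125))) (BT.node (nat_lit 23104) (BT.leaf (nat_lit 90641)) (BT.leaf (nat_lit 66569)))) (BT.node (nat_lit 23488) (BT.node (nat_lit 23296) (BT.leaf (nat_lit 66573)) (BT.leaf (nat_lit 66857))) (BT.node (nat_lit 23552) (BT.leaf (nat_lit 92693)) (BT.leaf (nat_lit 99857))))))) (BT.node (nat_lit 25152) (BT.node (nat_lit 24384) (BT.node (nat_lit 24064) (BT.node (nat_lit 23680)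 (BT.leaf (nat_lit 68361)) (BT.node (nat_lit 23744) (BT.leaf (nat_lit 68365)) (BT.leaf (nat_lit 92945)))) (BT.node (nat_lit 24256) (BT.node (nat_lit 24128) (BT.leaf (nat_lit 98849)) (BT.leaf (nat_lit 98845))) (BT.node (nat_lit 24320) (BT.leaf (nat_lit 76073)) (BT.leaf (nat_lit 102425))))) (BT.node (nat_lit 24768) (BT.node (nat_lit 24640) (BT.node (nat_lit 24448) (BT.leaf (nat_lit 102917)) (BT.leaf (nat_lit 70697))) (BT.node (nat_lit 24704) (BT.leaf (nat_lit 94725)) (BT.leaf (nat_lit 73997)))) (BT.node (nat_lit 25024) (BT.node (nat_lit 24960) (BT.leaf (nat_lit 98825)) (BT.leaf (nat_lit 92421))) (BT.node (nat_lit 25088) (BT.leaf (nat_lit 102405)) (BT.leaf (nat_lit 99873)))))) (BT.node (nat_lit 25664) (BT.node (nat_lit 25408) (BT.node (nat_lit 25280) (BT.node (nat_lit 25216) (BT.leaf (nat_lit 100129)) (BT.leaf (nat_lit 73993))) (BT.node (nat_lit 25344) (BT.leaf (nat_lit 92437)) (BT.leaf (nat_lit 102673)))) (BT.node (nat_lit 25536) (BT.node (nat_lit 25472)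 (BT.leaf (nat_lit 94497)) (BT.leaf (nat_lit 92705))) (BT.node (nat_lit 25600) (BT.leaf (nat_lit 75273)) (BT.leaf (nat_lit 75277))))) (BT.node (nat_lit 25920) (BT.node (nat_lit 25792) (BT.node (nat_lit 25728) (BT.leaf (nat_lit 92933)) (BT.leaf (nat_lit 92449))) (BT.node (nat_lit 25856) (BT.leaf (nat_lit 94753)) (BT.leaf (nat_lit 93201)))) (BT.node (nat_lit 26048) (BT.node (nat_lit 25984) (BT.leaf (nat_lit 93969)) (BT.leaf (nat_lit 102169))) (BT.node (nat_lit 26112) (BT.leaf (nat_lit 102177)) (BT.leaf (nat_lit 101153)))))))))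
noncomputable def eCo3_e : BT Nat := eCo3_e0
noncomputable def eCo3_cols : List (BT (Bx Nat)) := [eCo3_c0, eCo3_c1, eCo3_c2, eCo3_c3, eCo3_c4, eCo3_c5, eCo3_c6, eCo3_c7, eCo3_c8, eCo3_c9, eCo3_c10]
noncomputable def eCo3_ch (x j : Nat) : Bx Nat := chunkG eCo3_cols (nat_lit 4) x j
noncomputable def eCo3_L (x : Nat) : Bx (Nat → Nat) := lookG eCo3_ch (nat_lit 7) (nat_lit 127) (nat_lit 23) (nat_lit 8388607) x
noncomputable def eCo3_pc (_ j : Nat) : Bx Nat := eCo3_p.get j
noncomputable def eCo3_pb : Bx (Nat → Nat) := lookG eCo3_pc (nat_lit 7) (nat_lit 127) (nat_lit 19) (nat_lit 524287) (nat_lit 0)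
noncomputable def eCo3_rots : BT CW := (BT.node (nat_lit 52) (BT.node (nat_lit 26) (BT.node (nat_lit 13) (BT.node (nat_lit 6) (BT.node (nat_lit 3) (BT.node (nat_lit 1) (BT.leaf ⟨[], (nat_lit 1000000), (nat_lit 0), (nat_lit 0), (nat_lit 0)⟩) (BT.node (nat_lit 2) (BT.leaf ⟨[], (nat_lit 1000000), (nat_lit 0), (nat_lit 0), (nat_lit 1)⟩) (BT.leaf ⟨[], (nat_lit 1000000), (nat_lit 0), (nat_lit 0), (nat_lit 2)⟩))) (BT.node (nat_lit 4) (BT.leaf ⟨[(nat_lit 3), (nat_lit 2)], (nat_lit 145), (nat_lit 1), (nat_lit 0), (nat_lit 3)⟩) (BT.node (nat_lit 5) (BT.leaf ⟨[(nat_lit 6), (nat_lit 5)], (nat_lit 143), (nat_lit 1), (nat_lit 0), (nat_lit 3)⟩) (BT.leaf ⟨[(nat_lit 10), (nat_lit 10)], (nat_lit 121), (nat_lit 0), (nat_lit 0), (nat_lit 3)⟩)))) (BT.node (nat_lit 9) (BT.node (nat_lit 7) (BT.leaf ⟨[(nat_lit 1), (nat_lit 10), (nat_lit 1), (nat_lit 10)], (nat_lit 129), (nat_lit 1), (nat_lit 0), (nat_lit 4)⟩) (BT.node (nat_lit 8) (BT.leaf ⟨[(nat_lit 2), (nat_lit 10), (nat_lit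 3), (nat_lit 10)], (nat_lit 130), (nat_lit 1), (nat_lit 0), (nat_lit 4)⟩) (BT.leaf ⟨[(nat_lit 3), (nat_lit 2)], (nat_lit 145), (nat_lit 1), (nat_lit 0), (nat_lit 4)⟩))) (BT.node (nat_lit 11) (BT.node (nat_lit 10) (BT.leaf ⟨[(nat_lit 7), (nat_lit 10), (nat_lit 7), (nat_lit 10)], (nat_lit 131), (nat_lit 1), (nat_lit 0), (nat_lit 4)⟩) (BT.leaf ⟨[(nat_lit 4), (nat_lit 10), (nat_lit 4), (nat_lit 7), (nat_lit 10)], (nat_lit 132), (nat_lit 1), (nat_lit 0), (nat_lit 4)⟩)) (BT.node (nat_lit 12) (BT.leaf ⟨[(nat_lit 8), (nat_lit 7), (nat_lit 1), (nat_lit 4), (nat_lit 1), (nat_lit 4)], (nat_lit 20), (nat_lit 4), (nat_lit 0), (nat_lit 4)⟩) (BT.leaf ⟨[(nat_lit 6), (nat_lit 5)], (nat_lit 143), (nat_lit 1), (nat_lit 0), (nat_lit 4)⟩))))) (BT.node (nat_lit 19) (BT.node (nat_lit 16) (BT.node (nat_lit 14) (BT.leaf ⟨[(nat_lit 1), (nat_lit 6), (nat_lit 1), (nat_lit 5)], (nat_lit 9), (nat_lit 2), (nat_lit 0), (nat_lit 4)⟩) (BT.node (nat_lit 15) (BT.leaf ⟨[(nat_lit 7), (nat_lit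 6), (nat_lit 8), (nat_lit 5)], (nat_lit 13), (nat_lit 1), (nat_lit 0), (nat_lit 4)⟩) (BT.leaf ⟨[(nat_lit 8), (nat_lit 6), (nat_lit 7), (nat_lit 5), (nat_lit 7)], (nat_lit 17), (nat_lit 2), (nat_lit 0), (nat_lit 4)⟩))) (BT.node (nat_lit 17) (BT.leaf ⟨[(nat_lit 4), (nat_lit 6), (nat_lit 3), (nat_lit 8), (nat_lit 2), (nat_lit 5)], (nat_lit 22), (nat_lit 2), (nat_lit 0), (nat_lit 4)⟩) (BT.node (nat_lit 18) (BT.leaf ⟨[(nat_lit 5), (nat_lit 6)], (nat_lit 143), (nat_lit 0), (nat_lit 0), (nat_lit 4)⟩) (BT.leaf ⟨[(nat_lit 6), (nat_lit 6), (nat_lit 6)], (nat_lit 152), (nat_lit 0), (nat_lit 0), (nat_lit 4)⟩)))) (BT.node (nat_lit 22) (BT.node (nat_lit 20) (BT.leaf ⟨[(nat_lit 1), (nat_lit 5), (nat_lit 1), (nat_lit 6)], (nat_lit 9), (nat_lit 0), (nat_lit 0), (nat_lit 4)⟩) (BT.node (nat_lit 21) (BT.leaf ⟨[(nat_lit 8), (nat_lit 5), (nat_lit 7), (nat_lit 6)], (nat_lit 13), (nat_lit 3), (nat_lit 0), (nat_lit 4)⟩) (BT.leaf ⟨[(nat_lit 10), (nat_lit 6), (nat_lit 10), (nat_lit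 6), (nat_lit 10), (nat_lit 1), (nat_lit 6)], (nat_lit 280), (nat_lit 2), (nat_lit 0), (nat_lit 4)⟩))) (BT.node (nat_lit 24) (BT.node (nat_lit 23) (BT.leaf ⟨[(nat_lit 10), (nat_lit 10)], (nat_lit 121), (nat_lit 0), (nat_lit 0), (nat_lit 4)⟩) (BT.leaf ⟨[(nat_lit 4), (nat_lit 7), (nat_lit 10), (nat_lit 4), (nat_lit 10)], (nat_lit 132), (nat_lit 3), (nat_lit 0), (nat_lit 4)⟩)) (BT.node (nat_lit 25) (BT.leaf ⟨[(nat_lit 7), (nat_lit 3), (nat_lit 7), (nat_lit 2)], (nat_lit 11), (nat_lit 1), (nat_lit 0), (nat_lit 4)⟩) (BT.leaf ⟨[(nat_lit 8), (nat_lit 3), (nat_lit 5), (nat_lit 4), (nat_lit 7), (nat_lit 6), (nat_lit 2)], (nat_lit 27), (nat_lit 1), (nat_lit 0), (nat_lit 4)⟩)))))) (BT.node (nat_lit 39) (BT.node (nat_lit 32) (BT.node (nat_lit 29) (BT.node (nat_lit 27) (BT.leaf ⟨[(nat_lit 2), (nat_lit 3)], (nat_lit 145), (nat_lit 0), (nat_lit 0), (nat_lit 4)⟩) (BT.node (nat_lit 28) (BT.leaf ⟨[(nat_lit 3), (nat_lit 3), (nat_lit 3)], (nat_lit 151), (nat_lit 0), (nat_lit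 0), (nat_lit 4)⟩) (BT.leaf ⟨[(nat_lit 4), (nat_lit 3), (nat_lit 4), (nat_lit 3)], (nat_lit 155), (nat_lit 0), (nat_lit 0), (nat_lit 4)⟩))) (BT.node (nat_lit 30) (BT.leaf ⟨[(nat_lit 4), (nat_lit 4)], (nat_lit 1), (nat_lit 0), (nat_lit 0), (nat_lit 4)⟩) (BT.node (nat_lit 31) (BT.leaf ⟨[(nat_lit 7), (nat_lit 2), (nat_lit 7), (nat_lit 3)], (nat_lit 11), (nat_lit 3), (nat_lit 0), (nat_lit 4)⟩) (BT.leaf ⟨[(nat_lit 8), (nat_lit 4), (nat_lit 8), (nat_lit 4)], (nat_lit 15), (nat_lit 1), (nat_lit 0), (nat_lit 4)⟩)))) (BT.node (nat_lit 35) (BT.node (nat_lit 33) (BT.leaf ⟨[(nat_lit 10), (nat_lit 3), (nat_lit 10), (nat_lit 2)], (nat_lit 130), (nat_lit 2), (nat_lit 0), (nat_lit 4)⟩) (BT.node (nat_lit 34) (BT.leaf ⟨[(nat_lit 1), (nat_lit 3), (nat_lit 6), (nat_lit 2), (nat_lit 1), (nat_lit 3), (nat_lit 6), (nat_lit 2)], (nat_lit 180), (nat_lit 3), (nat_lit 0), (nat_lit 4)⟩) (BT.leaf ⟨[(nat_lit 1), (nat_lit 1)], (nat_lit 0), (nat_lit 0), (nat_lit 0), (nat_lit 4)⟩))) (BT.node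 (nat_lit 37) (BT.node (nat_lit 36) (BT.leaf ⟨[(nat_lit 10), (nat_lit 2), (nat_lit 10), (nat_lit 3)], (nat_lit 130), (nat_lit 0), (nat_lit 0), (nat_lit 4)⟩) (BT.leaf ⟨[(nat_lit 1), (nat_lit 3), (nat_lit 1), (nat_lit 3), (nat_lit 1), (nat_lit 3)], (nat_lit 166), (nat_lit 1), (nat_lit 0), (nat_lit 4)⟩)) (BT.node (nat_lit 38) (BT.leaf ⟨[(nat_lit 8), (nat_lit 1), (nat_lit 8), (nat_lit 1)], (nat_lit 14), (nat_lit 1), (nat_lit 0), (nat_lit 4)⟩) (BT.leaf ⟨[(nat_lit 4), (nat_lit 5), (nat_lit 4), (nat_lit 1), (nat_lit 2), (nat_lit 8), (nat_lit 3), (nat_lit 6)], (nat_lit 32), (nat_lit 5), (nat_lit 0), (nat_lit 4)⟩))))) (BT.node (nat_lit 45) (BT.node (nat_lit 42) (BT.node (nat_lit 40) (BT.leaf ⟨[(nat_lit 4), (nat_lit 8), (nat_lit 7), (nat_lit 1), (nat_lit 4), (nat_lit 1)], (nat_lit 20), (nat_lit 3), (nat_lit 0), (nat_lit 4)⟩) (BT.node (nat_lit 41) (BT.leaf ⟨[(nat_lit 1), (nat_lit 2), (nat_lit 6), (nat_lit 3), (nat_lit 1), (nat_lit 2), (nat_lit 6), (nat_lit 3)], (nat_lit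 178), (nat_lit 3), (nat_lit 0), (nat_lit 4)⟩) (BT.leaf ⟨[(nat_lit 6), (nat_lit 10), (nat_lit 6), (nat_lit 10), (nat_lit 1), (nat_lit 6), (nat_lit 10)], (nat_lit 280), (nat_lit 3), (nat_lit 0), (nat_lit 4)⟩))) (BT.node (nat_lit 43) (BT.leaf ⟨[(nat_lit 8), (nat_lit 8)], (nat_lit 3), (nat_lit 0), (nat_lit 0), (nat_lit 4)⟩) (BT.node (nat_lit 44) (BT.leaf ⟨[(nat_lit 8), (nat_lit 2), (nat_lit 5), (nat_lit 4), (nat_lit 6), (nat_lit 3)], (nat_lit 22), (nat_lit 5), (nat_lit 0), (nat_lit 4)⟩) (BT.leaf ⟨[(nat_lit 1), (nat_lit 2), (nat_lit 1), (nat_lit 2), (nat_lit 1), (nat_lit 2)], (nat_lit 19), (nat_lit 0), (nat_lit 0), (nat_lit 4)⟩)))) (BT.node (nat_lit 48) (BT.node (nat_lit 46) (BT.leaf ⟨[(nat_lit 4), (nat_lit 2), (nat_lit 4), (nat_lit 2)], (nat_lit 8), (nat_lit 1), (nat_lit 0), (nat_lit 4)⟩) (BT.node (nat_lit 47) (BT.leaf ⟨[(nat_lit 1), (nat_lit 8), (nat_lit 1), (nat_lit 8)], (nat_lit 14), (nat_lit 0), (nat_lit 0), (nat_lit 4)⟩) (BT.leaf ⟨[(nat_lit 5), (nat_lit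 1), (nat_lit 6), (nat_lit 1)], (nat_lit 9), (nat_lit 1), (nat_lit 0), (nat_lit 4)⟩))) (BT.node (nat_lit 50) (BT.node (nat_lit 49) (BT.leaf ⟨[(nat_lit 3), (nat_lit 10), (nat_lit 2), (nat_lit 10)], (nat_lit 130), (nat_lit 3), (nat_lit 0), (nat_lit 4)⟩) (BT.leaf ⟨[(nat_lit 7), (nat_lit 7)], (nat_lit 2), (nat_lit 0), (nat_lit 0), (nat_lit 4)⟩)) (BT.node (nat_lit 51) (BT.leaf ⟨[(nat_lit 4), (nat_lit 7), (nat_lit 4), (nat_lit 7)], (nat_lit 12), (nat_lit 0), (nat_lit 0), (nat_lit 4)⟩) (BT.leaf ⟨[(nat_lit 8), (nat_lit 3), (nat_lit 6), (nat_lit 4), (nat_lit 5), (nat_lit 4), (nat_lit 1), (nat_lit 2)], (nat_lit 32), (nat_lit 2), (nat_lit 0), (nat_lit 4)⟩))))))) (BT.node (nat_lit 78) (BT.node (nat_lit 65) (BT.node (nat_lit 58) (BT.node (nat_lit 55) (BT.node (nat_lit 53) (BT.leaf ⟨[(nat_lit 4), (nat_lit 6), (nat_lit 2), (nat_lit 7), (nat_lit 8), (nat_lit 3), (nat_lit 5), (nat_lit 8)], (nat_lit 34), (nat_lit 6), (nat_lit 0), (nat_lit 4)⟩) (BT.node (nat_lit 54) (BT.leaf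 ⟨[(nat_lit 4), (nat_lit 1), (nat_lit 4), (nat_lit 8), (nat_lit 7), (nat_lit 1)], (nat_lit 20), (nat_lit 1), (nat_lit 0), (nat_lit 4)⟩) (BT.leaf ⟨[(nat_lit 1), (nat_lit 3), (nat_lit 5), (nat_lit 2), (nat_lit 1), (nat_lit 3), (nat_lit 5), (nat_lit 2)], (nat_lit 33), (nat_lit 0), (nat_lit 0), (nat_lit 4)⟩))) (BT.node (nat_lit 56) (BT.leaf ⟨[(nat_lit 8), (nat_lit 2), (nat_lit 8), (nat_lit 2), (nat_lit 8), (nat_lit 2)], (nat_lit 23), (nat_lit 1), (nat_lit 0), (nat_lit 4)⟩) (BT.node (nat_lit 57) (BT.leaf ⟨[(nat_lit 1), (nat_lit 4), (nat_lit 7), (nat_lit 8), (nat_lit 1), (nat_lit 4)], (nat_lit 21), (nat_lit 2), (nat_lit 0), (nat_lit 4)⟩) (BT.leaf ⟨[(nat_lit 1), (nat_lit 2), (nat_lit 5), (nat_lit 3), (nat_lit 1), (nat_lit 2), (nat_lit 5), (nat_lit 3)], (nat_lit 31), (nat_lit 0), (nat_lit 0), (nat_lit 4)⟩)))) (BT.node (nat_lit 61) (BT.node (nat_lit 59) (BT.leaf ⟨[(nat_lit 1), (nat_lit 7), (nat_lit 1), (nat_lit 7)], (nat_lit 10), (nat_lit 0), (nat_lit 0), (nat_lit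 4)⟩) (BT.node (nat_lit 60) (BT.leaf ⟨[(nat_lit 8), (nat_lit 7), (nat_lit 8), (nat_lit 7)], (nat_lit 16), (nat_lit 1), (nat_lit 0), (nat_lit 4)⟩) (BT.leaf ⟨[(nat_lit 8), (nat_lit 1), (nat_lit 4), (nat_lit 1), (nat_lit 4), (nat_lit 7)], (nat_lit 21), (nat_lit 5), (nat_lit 0), (nat_lit 4)⟩))) (BT.node (nat_lit 63) (BT.node (nat_lit 62) (BT.leaf ⟨[(nat_lit 8), (nat_lit 4), (nat_lit 1), (nat_lit 4), (nat_lit 1), (nat_lit 7)], (nat_lit 167), (nat_lit 1), (nat_lit 0), (nat_lit 4)⟩) (BT.leaf ⟨[(nat_lit 10), (nat_lit 5), (nat_lit 10), (nat_lit 5), (nat_lit 1), (nat_lit 10), (nat_lit 5)], (nat_lit 133), (nat_lit 2), (nat_lit 0), (nat_lit 4)⟩)) (BT.node (nat_lit 64) (BT.leaf ⟨[(nat_lit 6), (nat_lit 1), (nat_lit 5), (nat_lit 1)], (nat_lit 9), (nat_lit 3), (nat_lit 0), (nat_lit 4)⟩) (BT.leaf ⟨[(nat_lit 8), (nat_lit 6), (nat_lit 7), (nat_lit 8), (nat_lit 5)], (nat_lit 18), (nat_lit 1), (nat_lit 0), (nat_lit 4)⟩))))) (BT.node (nat_lit 71) (BT.node (nat_lit 68) (BT.node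 (nat_lit 66) (BT.leaf ⟨[(nat_lit 10), (nat_lit 1), (nat_lit 10), (nat_lit 1)], (nat_lit 129), (nat_lit 0), (nat_lit 0), (nat_lit 4)⟩) (BT.node (nat_lit 67) (BT.leaf ⟨[(nat_lit 2), (nat_lit 5), (nat_lit 3), (nat_lit 5), (nat_lit 2), (nat_lit 5), (nat_lit 3), (nat_lit 6), (nat_lit 2), (nat_lit 5), (nat_lit 3), (nat_lit 5), (nat_lit 2), (nat_lit 5), (nat_lit 3), (nat_lit 6)], (nat_lit 119), (nat_lit 0), (nat_lit 0), (nat_lit 4)⟩) (BT.leaf ⟨[(nat_lit 3), (nat_lit 6), (nat_lit 4), (nat_lit 8), (nat_lit 3), (nat_lit 1), (nat_lit 8), (nat_lit 2), (nat_lit 6), (nat_lit 2), (nat_lit 5), (nat_lit 8), (nat_lit 1), (nat_lit 6)], (nat_lit 262), (nat_lit 8), (nat_lit 0), (nat_lit 4)⟩))) (BT.node (nat_lit 69) (BT.leaf ⟨[(nat_lit 3), (nat_lit 5), (nat_lit 10), (nat_lit 6), (nat_lit 2), (nat_lit 6), (nat_lit 3), (nat_lit 5), (nat_lit 10), (nat_lit 6), (nat_lit 2), (nat_lit 5), (nat_lit 10), (nat_lit 6), (nat_lit 3), (nat_lit 5), (nat_lit 10), (nat_lit 6), (nat_lit 5),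 (nat_lit 5), (nat_lit 10), (nat_lit 6), (nat_lit 2), (nat_lit 5), (nat_lit 10), (nat_lit 6)], (nat_lit 138), (nat_lit 19), (nat_lit 0), (nat_lit 4)⟩) (BT.node (nat_lit 70) (BT.leaf ⟨[(nat_lit 7), (nat_lit 5), (nat_lit 7), (nat_lit 8), (nat_lit 6)], (nat_lit 17), (nat_lit 4), (nat_lit 0), (nat_lit 4)⟩) (BT.leaf ⟨[(nat_lit 10), (nat_lit 7), (nat_lit 10), (nat_lit 7)], (nat_lit 131), (nat_lit 0), (nat_lit 0), (nat_lit 4)⟩)))) (BT.node (nat_lit 74) (BT.node (nat_lit 72) (BT.leaf ⟨[(nat_lit 8), (nat_lit 3), (nat_lit 1), (nat_lit 4), (nat_lit 6), (nat_lit 4), (nat_lit 5), (nat_lit 2)], (nat_lit 179), (nat_lit 5), (nat_lit 0), (nat_lit 4)⟩) (BT.node (nat_lit 73) (BT.leaf ⟨[(nat_lit 8), (nat_lit 7), (nat_lit 6), (nat_lit 7), (nat_lit 5)], (nat_lit 164), (nat_lit 2), (nat_lit 0), (nat_lit 4)⟩) (BT.leaf ⟨[(nat_lit 2), (nat_lit 5), (nat_lit 3), (nat_lit 6), (nat_lit 2), (nat_lit 6), (nat_lit 3), (nat_lit 6), (nat_lit 2), (nat_lit 5), (nat_lit 3), (nat_lit 6), (nat_lit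 2), (nat_lit 6), (nat_lit 3), (nat_lit 6)], (nat_lit 263), (nat_lit 1), (nat_lit 0), (nat_lit 4)⟩))) (BT.node (nat_lit 76) (BT.node (nat_lit 75) (BT.leaf ⟨[(nat_lit 5), (nat_lit 5), (nat_lit 5)], (nat_lit 5), (nat_lit 0), (nat_lit 0), (nat_lit 4)⟩) (BT.leaf ⟨[(nat_lit 2), (nat_lit 6), (nat_lit 3), (nat_lit 6), (nat_lit 4), (nat_lit 5), (nat_lit 8), (nat_lit 3), (nat_lit 6), (nat_lit 2), (nat_lit 5), (nat_lit 3), (nat_lit 1), (nat_lit 4), (nat_lit 3), (nat_lit 5)], (nat_lit 265), (nat_lit 3), (nat_lit 0), (nat_lit 4)⟩)) (BT.node (nat_lit 77) (BT.leaf ⟨[(nat_lit 2), (nat_lit 4), (nat_lit 2), (nat_lit 4)], (nat_lit 8), (nat_lit 0), (nat_lit 0), (nat_lit 4)⟩) (BT.leaf ⟨[(nat_lit 2), (nat_lit 2), (nat_lit 2)], (nat_lit 4), (nat_lit 0), (nat_lit 0), (nat_lit 4)⟩)))))) (BT.node (nat_lit 91) (BT.node (nat_lit 84) (BT.node (nat_lit 81) (BT.node (nat_lit 79) (BT.leaf ⟨[(nat_lit 3), (nat_lit 1), (nat_lit 2), (nat_lit 6), (nat_lit 3), (nat_lit 1), (nat_lit 2), (nat_lit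 6)], (nat_lit 178), (nat_lit 2), (nat_lit 0), (nat_lit 4)⟩) (BT.node (nat_lit 80) (BT.leaf ⟨[(nat_lit 3), (nat_lit 4), (nat_lit 3), (nat_lit 4)], (nat_lit 155), (nat_lit 1), (nat_lit 0), (nat_lit 4)⟩) (BT.leaf ⟨[(nat_lit 3), (nat_lit 6), (nat_lit 7), (nat_lit 5), (nat_lit 2), (nat_lit 7), (nat_lit 5), (nat_lit 4), (nat_lit 6)], (nat_lit 213), (nat_lit 8), (nat_lit 0), (nat_lit 4)⟩))) (BT.node (nat_lit 82) (BT.leaf ⟨[(nat_lit 2), (nat_lit 5), (nat_lit 8), (nat_lit 6), (nat_lit 3), (nat_lit 5), (nat_lit 4), (nat_lit 8), (nat_lit 6)], (nat_lit 64), (nat_lit 0), (nat_lit 0), (nat_lit 4)⟩) (BT.node (nat_lit 83) (BT.leaf ⟨[(nat_lit 4), (nat_lit 8), (nat_lit 4), (nat_lit 8)], (nat_lit 15), (nat_lit 0), (nat_lit 0), (nat_lit 4)⟩) (BT.leaf ⟨[(nat_lit 3), (nat_lit 6), (nat_lit 7), (nat_lit 5), (nat_lit 4), (nat_lit 8), (nat_lit 3), (nat_lit 7), (nat_lit 4)], (nat_lit 216), (nat_lit 8), (nat_lit 0), (nat_lit 4)⟩)))) (BT.node (nat_lit 87) (BT.node (nat_lit 85) (BT.leaf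 ⟨[(nat_lit 2), (nat_lit 1), (nat_lit 3), (nat_lit 5), (nat_lit 2), (nat_lit 1), (nat_lit 3), (nat_lit 5)], (nat_lit 33), (nat_lit 3), (nat_lit 0), (nat_lit 4)⟩) (BT.node (nat_lit 86) (BT.leaf ⟨[(nat_lit 3), (nat_lit 7), (nat_lit 2), (nat_lit 7)], (nat_lit 11), (nat_lit 2), (nat_lit 0), (nat_lit 4)⟩) (BT.leaf ⟨[(nat_lit 2), (nat_lit 5), (nat_lit 4), (nat_lit 6), (nat_lit 3), (nat_lit 8)], (nat_lit 22), (nat_lit 0), (nat_lit 0), (nat_lit 4)⟩))) (BT.node (nat_lit 89) (BT.node (nat_lit 88) (BT.leaf ⟨[(nat_lit 3), (nat_lit 1), (nat_lit 3), (nat_lit 1), (nat_lit 3), (nat_lit 1)], (nat_lit 166), (nat_lit 0), (nat_lit 0), (nat_lit 4)⟩) (BT.leaf ⟨[(nat_lit 2), (nat_lit 7), (nat_lit 3), (nat_lit 7)], (nat_lit 11), (nat_lit 0), (nat_lit 0), (nat_lit 4)⟩)) (BT.node (nat_lit 90) (BT.leaf ⟨[(nat_lit 5), (nat_lit 3), (nat_lit 6), (nat_lit 2), (nat_lit 6), (nat_lit 3), (nat_lit 6), (nat_lit 2), (nat_lit 5), (nat_lit 3), (nat_lit 6), (nat_lit 2), (nat_lit 6), (nat_lit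 3), (nat_lit 6), (nat_lit 2)], (nat_lit 263), (nat_lit 2), (nat_lit 0), (nat_lit 4)⟩) (BT.leaf ⟨[(nat_lit 6), (nat_lit 2), (nat_lit 5), (nat_lit 3), (nat_lit 5), (nat_lit 2), (nat_lit 5), (nat_lit 3), (nat_lit 6), (nat_lit 2), (nat_lit 5), (nat_lit 3), (nat_lit 5), (nat_lit 2), (nat_lit 5), (nat_lit 3)], (nat_lit 119), (nat_lit 7), (nat_lit 0), (nat_lit 4)⟩))))) (BT.node (nat_lit 97) (BT.node (nat_lit 94) (BT.node (nat_lit 92) (BT.leaf ⟨[(nat_lit 6), (nat_lit 3), (nat_lit 1), (nat_lit 2), (nat_lit 4), (nat_lit 6), (nat_lit 3), (nat_lit 1), (nat_lit 8), (nat_lit 2)], (nat_lit 74), (nat_lit 8), (nat_lit 0), (nat_lit 4)⟩) (BT.node (nat_lit 93) (BT.leaf ⟨[(nat_lit 5), (nat_lit 8), (nat_lit 6), (nat_lit 8), (nat_lit 7)], (nat_lit 165), (nat_lit 2), (nat_lit 0), (nat_lit 4)⟩) (BT.leaf ⟨[(nat_lit 5), (nat_lit 3), (nat_lit 4), (nat_lit 7), (nat_lit 3), (nat_lit 6), (nat_lit 2), (nat_lit 8), (nat_lit 3)], (nat_lit 207), (nat_lit 7), (nat_lit 0), (nat_lit 4)⟩)))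 (BT.node (nat_lit 95) (BT.leaf ⟨[(nat_lit 6), (nat_lit 7), (nat_lit 4), (nat_lit 1), (nat_lit 5), (nat_lit 3), (nat_lit 4), (nat_lit 8), (nat_lit 3)], (nat_lit 197), (nat_lit 5), (nat_lit 0), (nat_lit 4)⟩) (BT.node (nat_lit 96) (BT.leaf ⟨[(nat_lit 5), (nat_lit 4), (nat_lit 6), (nat_lit 3), (nat_lit 8), (nat_lit 2)], (nat_lit 22), (nat_lit 1), (nat_lit 0), (nat_lit 4)⟩) (BT.leaf ⟨[(nat_lit 5), (nat_lit 7), (nat_lit 6), (nat_lit 8)], (nat_lit 13), (nat_lit 0), (nat_lit 0), (nat_lit 4)⟩)))) (BT.node (nat_lit 100) (BT.node (nat_lit 98) (BT.leaf ⟨[(nat_lit 6), (nat_lit 7), (nat_lit 4), (nat_lit 1), (nat_lit 5), (nat_lit 2), (nat_lit 4), (nat_lit 5), (nat_lit 4), (nat_lit 6), (nat_lit 2)], (nat_lit 246), (nat_lit 7), (nat_lit 0), (nat_lit 4)⟩) (BT.node (nat_lit 99) (BT.leaf ⟨[(nat_lit 6), (nat_lit 7), (nat_lit 5), (nat_lit 7), (nat_lit 8)], (nat_lit 17), (nat_lit 3), (nat_lit 0), (nat_lit 4)⟩) (BT.leaf ⟨[(nat_lit 6), (nat_lit 7), (nat_lit 8), (nat_lit 5), (nat_lit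 8)], (nat_lit 18), (nat_lit 2), (nat_lit 0), (nat_lit 4)⟩))) (BT.node (nat_lit 102) (BT.node (nat_lit 101) (BT.leaf ⟨[(nat_lit 10), (nat_lit 6), (nat_lit 3), (nat_lit 5), (nat_lit 10), (nat_lit 6), (nat_lit 2), (nat_lit 5), (nat_lit 10), (nat_lit 6), (nat_lit 2), (nat_lit 5), (nat_lit 10), (nat_lit 6), (nat_lit 3), (nat_lit 5), (nat_lit 10), (nat_lit 6), (nat_lit 2), (nat_lit 5), (nat_lit 10), (nat_lit 6), (nat_lit 2), (nat_lit 5)], (nat_lit 136), (nat_lit 5), (nat_lit 0), (nat_lit 4)⟩) (BT.leaf ⟨[(nat_lit 3), (nat_lit 5), (nat_lit 10), (nat_lit 6), (nat_lit 2), (nat_lit 5), (nat_lit 3), (nat_lit 5), (nat_lit 10), (nat_lit 6), (nat_lit 2), (nat_lit 5), (nat_lit 10), (nat_lit 6), (nat_lit 3), (nat_lit 5), (nat_lit 10), (nat_lit 6), (nat_lit 6), (nat_lit 5), (nat_lit 10), (nat_lit 6), (nat_lit 2), (nat_lit 5), (nat_lit 10), (nat_lit 6)], (nat_lit 285), (nat_lit 22), (nat_lit 0), (nat_lit 4)⟩)) (BT.node (nat_lit 103) (BT.leaf ⟨[(nat_lit 3), (nat_lit 6), (nat_lit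 4), (nat_lit 5), (nat_lit 3), (nat_lit 5), (nat_lit 2), (nat_lit 1), (nat_lit 3), (nat_lit 4), (nat_lit 1), (nat_lit 5)], (nat_lit 108), (nat_lit 5), (nat_lit 0), (nat_lit 4)⟩) (BT.leaf ⟨[(nat_lit 0), (nat_lit 6), (nat_lit 3), (nat_lit 5), (nat_lit 10), (nat_lit 6), (nat_lit 2), (nat_lit 6), (nat_lit 3), (nat_lit 5), (nat_lit 10), (nat_lit 6), (nat_lit 2), (nat_lit 5), (nat_lit 10), (nat_lit 6), (nat_lit 3), (nat_lit 5), (nat_lit 10), (nat_lit 6), (nat_lit 5), (nat_lit 5), (nat_lit 10), (nat_lit 6), (nat_lit 2), (nat_lit 5), (nat_lit 10)], (nat_lit 138), (nat_lit 18), (nat_lit 1), (nat_lit 4)⟩))))))))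
noncomputable def eCo3_hcs : List CW := [⟨[(nat_lit 1)], (nat_lit 0), (nat_lit 0), (nat_lit 0), (nat_lit 0)⟩, ⟨[(nat_lit 2)], (nat_lit 1), (nat_lit 0), (nat_lit 0), (nat_lit 0)⟩, ⟨[(nat_lit 4)], (nat_lit 2), (nat_lit 0), (nat_lit 0), (nat_lit 0)⟩, ⟨[(nat_lit 5)], (nat_lit 3), (nat_lit 0), (nat_lit 0), (nat_lit 0)⟩, ⟨[(nat_lit 7)], (nat_lit 4), (nat_lit 0), (nat_lit 0), (nat_lit 0)⟩, ⟨[(nat_lit 8)], (nat_lit 5), (nat_lit 0), (nat_lit 0), (nat_lit 0)⟩, ⟨[(nat_lit 9)], (nat_lit 6), (nat_lit 0), (nat_lit 0), (nat_lit 0)⟩, ⟨[(nat_lit 1)], (nat_lit 7), (nat_lit 0), (nat_lit 0), (nat_lit 0)⟩, ⟨[(nat_lit 3)], (nat_lit 8), (nat_lit 0), (nat_lit 0), (nat_lit 0)⟩, ⟨[(nat_lit 4)], (nat_lit 9), (nat_lit 0), (nat_lit 0), (nat_lit 0)⟩, ⟨[(nat_lit 6)], (nat_lit 10), (nat_lit 0), (nat_lit 0), (nat_lit 0)⟩, ⟨[(nat_lit 7)], (nat_lit 11), (nat_lit 0), (nat_lit 0), (nat_lit 0)⟩, ⟨[(nat_lit 8)], (nat_lit 12), (nat_lit 0), (nat_lit 0), (nat_lit 0)⟩, ⟨[(nat_lit 9)], (nat_lit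 13), (nat_lit 0), (nat_lit 0), (nat_lit 0)⟩]
noncomputable def eCo3_H (x j : Nat) : Bx (Nat → Nat → Nat) := mkH eCo3_L eCo3_pb.1 eCo3_e.get (lmap CW.w eCo3_hcs) (nat_lit 1) (nat_lit 2) (nat_lit 11) (nat_lit 512) (nat_lit 65536) (nat_lit 32767) x (eCo3_rots.get j)
noncomputable def eCo3_F (x b : Nat) : Bool := blkOK eCo3_H eCo3_ch (nat_lit 2) (nat_lit 512) (nat_lit 128) (nat_lit 7) (nat_lit 127) (nat_lit 23) (nat_lit 8388607) x b

theorem eCo3_k0_0 : allFrom (eCo3_F (nat_lit 0)) (nat_lit 0) (nat_lit 8) = true := by decide +kernel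
theorem eCo3_k1_0 : allFrom (eCo3_F (nat_lit 1)) (nat_lit 0) (nat_lit 8) = true := by decide +kernel
theorem eCo3_k2_0 : allFrom (eCo3_F (nat_lit 2)) (nat_lit 0) (nat_lit 8) = true := by decide +kernel
theorem eCo3_k3_0 : allFrom (eCo3_F (nat_lit 3)) (nat_lit 0) (nat_lit 8) = true := by decide +kernel
theorem eCo3_k4_0 : allFrom (eCo3_F (nat_lit 4)) (nat_lit 0) (nat_lit 8) = true := by decide +kernel
theorem eCo3_k5_0 : allFrom (eCo3_F (nat_lit 5)) (nat_lit 0) (nat_lit 8) = true := by decide +kernel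
theorem eCo3_k6_0 : allFrom (eCo3_F (nat_lit 6)) (nat_lit 0) (nat_lit 8) = true := by decide +kernel
theorem eCo3_k7_0 : allFrom (eCo3_F (nat_lit 7)) (nat_lit 0) (nat_lit 8) = true := by decide +kernel
theorem eCo3_k8_0 : allFrom (eCo3_F (nat_lit 8)) (nat_lit 0) (nat_lit 8) = true := by decide +kernel
theorem eCo3_k9_0 : allFrom (eCo3_F (nat_lit 9)) (nat_lit 0) (nat_lit 8) = true := by decide +kernel
theorem eCo3_k10_0 : allFrom (eCo3_F (nat_lit 10)) (nat_lit 0) (nat_lit 8) = true := by decide +kernel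

noncomputable def eDi0_c0 : BT (Bx Nat) := (BT.node (nat_lit 1) (BT.leaf (Bx.mk (nat_lit 0x200c840000000000000000000000000000000000000000000000000000000000000000000000000000000000000000000000000000000000000000000000000000001406530000004c1944a0328000000000000000000583160000000000000000000000000000000000000000000000000000000000000000000000000000000000000006031612064200000000000000000000000000000000000000000000000000000000000000000000000000024189800000000000000000000000000000000000000000000000000000000000000000000000000000000000000000000000000000000000004c1898000000a06260000000000000000000000000000020184c00000000000000000000000000000000000000000000000000000000000000000000000000000000000000000000000000000000e0c1400000000000000000000000000000000000000000000001818140000000000000000000000028301800000080c0404180400000000000))) (BT.node (nat_lit 2) (BT.leaf (Bx.mk (nat_lit 0x81804000000000000000003c198418301000000000000000000a036f9306de00000000000000000000000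00000000000000000000000280d2c4c1a5400000140693260d2400000000000000000000000441a540000000000000000000000098360800000000000000000000001306ba240d7200000000000000000000000501abc983571506ad260d584c1aac00000000000000000000000a83531406a50000000000008034b000000000000000000000000000000000000000008035580000000000000000000000000000000000000000000000000001a0c58481a54000000000001e0d2400000000000000000000000481a589834a8000000000000000000000000000000000000000000000000000000000000000000000000000000003019843830980000000000014181c00000000000260cfe00000000000000000000000000000000000000000000000000000000000000000000000000000000000000))) (BT.leaf (Bx.mk (nat_lit 0xbeea800000000000000000000000000000000000000000000000000002a0e724c1ce09839a12070e000000000000a837e9306fc260df6481be8000001506f8260dec481bd400000000000060c0200000000000120700000000501c689838c93071800000000000000000000000220dea4c1c4800000000000260e1e4c1c380000016070c280e16481c28903848000002c0e0c501c14a03821206fa0000000000008035791070a260e1c481abc00000000000000000441c2400000000000240d7a38198400000000000000000441c108037d800000000000000000883579006bd00000000000000000000000)))))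
noncomputable def eDi0_c1 : BT (Bx Nat) := (BT.node (nat_lit 1) (BT.leaf (Bx.mk (nat_lit 0x58cca6d839d0000002a6656000000d999b5b8721b754516cccde00000163923800000000000b9a929b87293754426aa0eedd5114000000000005afcbe0000016a8312b828f761cbcc20a2d841413b0e5b000000b9f1a55414300000058a0d6e9419d84141b0828a74a0c8000001641463b0e4c5704e6a541f1d8724ad827656a0fe000001b283c3b7241000000000001eb9223a5058000000b541c9d282aa9508056a0ea000001b28373c504d000000d941c1d2828312c2c623c56c4b0e988f1cb12c30623c5ec140f800000382c34703c66e4b089c8f10b750386ea06ee4b099c8f12b0503c60a076f4b0a9e8f14b05040000000f140b9e2816bd2c247a3c46e140c9c2818bc502878a04ee140d9c281ab36a1666d43acda8619280fba541a76cc22e54071db309b2501e7e9c2ac94081f280bbf601274a032f94051d280dbb2c0c763c16f4b029e8f0480000074a01ef14039e2806bd54067e9c0af14021f2803c02c04803c0704380a18300800000))) (BT.node (nat_lit 2) (BT.leaf (Bx.mk (nat_lit 0xc944b400000385108000000c944ac000003651063f066a00000000000000000503dd6a83b3151665aa1eca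5e5990bc7b1d78f5b00000000000000000148f5eaf0ebb000000bc7ae5787632f2cc55e3d8800000140f4eaa0ead545958a87aada8f54000000683da2b03ac161657ac1eae000000000001a874bb52c966a3d2a0000019a86d8000005a1d8400000168f602950f252a1e2000001b0f522e50ef000000b94395728722e50e3665954b1433c000002c50cd000000000000000000000005ca1d000000172873000000000000b943b4000000000000000000000000000000000056a1b2000000000002950df00000000000000000000000721d28e4b24dc8f49000000763d3000000000000000000000000000000000000000000000000000000000000000068a1aad14351a286980000070a14ce1429578731800000000000bc3a14000002b5059000000000001787362f0e6a530520a5418400000000000000000000000000002a5448))) (BT.leaf (Bx.mk (nat_lit 0x1b2d4c000000883d3400000352d4a6a3e920000010a8a9000000000000000001a28a7a81f24501e460000014b38e800000000000b47c540000000000000000000000168f902d0f1f000000b43c7140785800000000000000000000001c1f04000000a83c40000000000004b067000000198f7f330efd661df4cd4415ab97b2b1f1b00000000000000000000000000000000000000002c513d58a278a9fc49428a2ac513a00000000000000000000000000000000001628a10000000000000000000000000000000000091cc040000000000000000085fc0154197397efc000000dc3be1a2a951b51340000000000011a88720510a)))))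
noncomputable def eDi0_c2 : BT (Bx Nat) := (BT.node (nat_lit 1) (BT.leaf (Bx.mk (nat_lit 0x807d0000000000000403e7d00000000000000000423e35807cf108f8d000000000000847c6600000000000423e32807ce108f8c601f3700000000000000000211f17c03e6900000108f8ba01f33000000807d7f08f8b201f31000000847c5700fae211f15403e5d00000000000201f2d000000847c5100f95e01f56c23e27807ca900fa9e11f13403e5100000108f89400000000000847c4800000000000423e2300000000000211f1100000000000108f88601f2143028f0000010c0a321814500000086050c0000021814143027f8604f90c09ea1813bc302758604e50c09be181368000008604d10c0994000004302610000010c09721812cc302568604a70c094218126c3024a86048f0c091218120800000807c4108f83e01f0f423e0e00000108f83601f0d423e0c807c3108f82c00000423e0a807c2908f82601f0943021f86043b0c086e1810cc3021786042b0c084e18108c23e04807c1108f80e01f0343020786040b04400a18300800000))) (BT.node (nat_lit 2) (BT.leaf (Bx.mk (nat_lit 0x423e9600000000000000000000000847d26000000000000000000000000000000000000000045815600000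2181a2a5aae3000000000002181a180000086067e0000000000043033b00000000000000000000000000000000000000000000008606680000021819800000086065c00000208838800000000000000002181948000000000010c0c99ad462000000860642aad2f80000040a29c0000000000021818eb4aa9500000104418e1818c0000000000000000021818b339aaa8220bc000000000003e3ebb00000000000204b590000004975460000015d061c1105586061cb3039800000430309000000000000000004303070000010c0c1159f528000000000000000000000000000000000094fae6181808000008605fe000000000000000008220870c0bed9d6668000008605eca0fb4800000000000000000000000000000000000000000000000000000000000000100fa1c0000000000000000000000000000423e38))) (BT.leaf (Bx.mk (nat_lit 0x3336920000000000000000000000000000000000000000000000000000000000000000000000000000000000000000000000000000000000000000000a444dc000000000000000000000000000000000054221b08fb7611f6d80000000000000000211f6cc03f310000000000000000000000000000108fb44000000000000000000000019888e00000000000108fb2e01f9100000000000108fb1601f8f3210fa00000000000000000403f19847d7a00000000000000000847d7508fad800000000000847d5f00fc3c0000000000000000108fab000000423ea8807e1000000211f53403f05807e9b08fa7400000423e9b)))))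
noncomputable def eDi0_c3 : BT (Bx Nat) := (BT.node (nat_lit 1) (BT.leaf (Bx.mk (nat_lit 0x8424700000020a03e4212370000010848d80000041407784246a0000021091a0000000000010848cc0000041406f8424650501b6109188000000000000000020a03442122f0000010501961091700000080258505018610916000000000001004aee0a02e42122a000001050166109148000008280ad0848a20095841405384244e0000020a02842122600000000000210912800000000001084890000004140478424460000020a02242122280252f05010610910c302900000010c0a361814580000086050e00000218141c302808604fa0000021813c4302768604e70c09c21813743026b8604d30c0998000004302628604bf0c09761812d4302578604a90c09461812743024b8604910c09161812141401f84242105007610907c1401b84241d05006610906c1401784241905005610905c1401384241505004610904c3022086043d0c08721810d43021886042d0c08521810941400784240905001610901c3020886040d00480a10400800000))) (BT.node (nat_lit 2) (BT.leaf (Bx.mk (nat_lit 0x8425360000000000000000084252c00000000000000000000001084a4c00000000000000001063a46181a3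0000000000000000000000000000086068800000000000000000860680ac4ab8000000000004825d800000000000418e81860670aaf39a1819b00000086066a0000021819880000086065e00000000000000000000000a6f24a181950000000000010c0c9d9094ac18e6a8606440000017df6b00000000000106399e1818f3412cd0000000000021818c800000831cc60000021818b8000007f1d710c0c4d3584f418e5e575d810c0c480000026989f0000000000000000000000086061eaef37a0c72ac3030a00000000000000000430308831ca50c0c1565952ad92a246256600000000000000000000000000002181813f12c88606000000000000025b8a17f1d290c0bf1989620000008605ee00000000000000000000000000000000000000000000010848f40000000000082810d0848ec000000000000000010848e40000041407f))) (BT.leaf (Bx.mk (nat_lit 0x1063c400000000000031b69c0000020c78180000000000000000000000000000000000000000000000000008425d2000000000000000000000000000000000000000000000000000000000000000000000000000000000000000000000000020a0984212d9000001084b5c000000000000000010504a610968800000000001084b380000000000000000105048610965800000000001050476109628000000000000000020a08c4212c182822d084af4000000000000000000000000000000000082821d084abc00000000000000000000002109564141078425500000020a0824212a60000010504061094e800000)))))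
noncomputable def eDi0_c4 : BT (Bx Nat) := (BT.node (nat_lit 1) (BT.leaf (Bx.mk (nat_lit 0x5cd0e0c461f800000000000523098000000000003942777088f0b9099400000000000000000dda17c00000000000000000d909b400000331846000000000001c2129b868546230c6000000000000000006088cec109418342880000000000000000000000000000000000000000000002e6e85708488e1a115c0c2ab744686e88d20000017a230af4462000000ed093400000000000000000a1123588c24b04486000000c911b1ba22b374457000000e10905ba2212d6e2a664c6eadb8918b71eac4436664c46bdb8c18b71c80000064887eb5c0f1d131ab06e2e724c56bdc0e1bb718ae443a744c4ebd10d1c3716b23226708866b11101c1314ba322272885ec510b1e1312aa443e648876e510a1c9310b542136ad028f908740000039421772d030f908640000038441b708838e90855ca20b000000688840f10845da2090000007e4c1eecc831f9306ba440e764c16d97841e9304be42077a8810f90815ea2033f32047e4c0704600a18300800000))) (BT.node (nat_lit 2) (BT.leaf (Bx.mk (nat_lit 0x10a28f8000000000009da4f80000026451a000000000000000001f449c476d500000000000000000000000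00000000000000000000000089bb88000000000004addbe000000000002644ba5a89248513a9613638000004889ce0000015134ea832a9000000000000000000000005addae00000000000296e930000009adbb175b68a8329a000000000001b134a800000576db2d49aac00000000000000000bd130965b673526c4000000c10b19619563626b9000000000001a375e8000005485c09edb900000000000050653cdc9ad800000000000000000000000000000000005a654cb1bb98000002b44c16889940000013a26e2244f3000000b112bc00000000000000000000000000000000000000009d12dd4a26ea0b6f40000009d1340000003826980000008edbc5aa2668000005089a8b9bb8c000002b425c0000000000014a12529684b6085140000014374700000062848ec5a1200000000000060850400000158c2f000000))) (BT.leaf (Bx.mk (nat_lit 0x890bec0000000000000000000000000000000000000000000000000002445324cd22600000130c88000000508a38a10c040000000000000000095bcf152190aa692258865cad14bc00000000000000000b50ca56229500000056863aada47958c868000004c3228000000000000000004431faa9149952293a969370000009c63e152184aa690a66862c0000000000025452300000000000000000254539568608ada415522928000004cde580000000000000000000000091bd05522872a450f00000000000000000000000)))))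
noncomputable def eDi0_c5 : BT (Bx Nat) := (BT.node (nat_lit 1) (BT.leaf (Bx.mk (nat_lit 0x8605bcd5d18c00000000000000000000000000004302dd8605b70c0b621816bae8c91000000000000000004302d38605a200000000000000000000000bdd13218166c302ca8605930c0b1e181620000000000010c0b021815eaa88810000000000021815cc302b66ae8a40000000000000000086056600000174644c302ae8605570c0aaa181544302a500000000000218151c302a28605410c0a7c0000043029d8605360000021814cc302984f191d0c0a56181490000000000000000000000000000080507908a0740000000000080507108a06e0141b42281a8050680000020141942281880506108a05e0141742281680505908a0560141542281480505108a04e0141342281280504908a0460141143023f86047b0c08ee1811cc3023786046b0c08ce18118c3022f86045b0c08ae18114c3022786044b0c088e18110c2280880502108a01c0000042280680501908a0160140543020f86041b0c082e18104c228028050090c080e18300800000))) (BT.node (nat_lit 2) (BT.leaf (Bx.mk (nat_lit 0x43034900000080a4c0000000000008051e90c0d2211447800000000000000000000000000008051d800000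0000004303420000000000021819e80000000000108a200000000000008450fe000000000000000008051b90c0cce1143b0000000000000000021819680000000000000000000000000000860650000002014674303248450d100a32c000004228660000010c0c8211432c028c50000010c0c6e114314028c100000108a1860145f42286086062b08a1760145d0000008450b900a2dc0000042285900000108a158000004303118450a900a2be18186422853805158d2416e11428c028a900000108a1420145342284f000000ba41aa1142580000000000108a1220144f42284780513908a1160144d0000008605fd08a10a0144b4302f984508300a24d5946b4302f38605e0000000000000000008605dd0c0bb4000000000008605d70c0ba4000002f747b8605cd0c0b8c000004302e1))) (BT.leaf (Bx.mk (nat_lit 0xc948fc2290600000108a40c000001c75323aea8f08a3e2014a5000000000000675514000001dd52700000000000000000000000000000000000000000000003c5244000000000001e8d000000000000000000000000000000000000000000000000000000000000000000000000000008233f00000000000000000083343c00000000000000000000000f6aa0000000000000832c1c00000000000000000000000000000000003f923a00000000000000000379286000000000004303530000008b0c1000000000000000000000000000000000000000010c0d3d01484000000000000000000eea9a000000)))))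
noncomputable def eDi0_c6 : BT (Bx Nat) := (BT.node (nat_lit 1) (BT.leaf (Bx.mk (nat_lit 0x8605be00000000000000000000000000000000000000008605b90c0b64000004302d6000000000000000004302d48605a4000002181683a7649000000000002181674302cb0000010c0b2218162c302c36838fd0c0b061815f4302bc000000e1d93e1815d4302b70000010c0ad61815a0000000000010c0aca18158c302af86055800000218154c302a6860548000000000000000008605420000000000043029e8605380000021814d0000000000010c0a5a18149c12a3f84384104a8f610e0fc12a3b84383d04a8e610e0ec12a3784383904a8d610e0dc12a3384383504a8c610e0cc12a2f84383104a8b610e0bc12a2b84382d04a8a610e0ac12a2784382904a89610e09c12a2384382504a88610e08c3024086047d0c08f21811d43023886046d0c08d21811943023086045d0c08b21811543022886044d0c089218111412a0f84381000000210e03c12a0b84380d04a82610e02c3021086041d0c083218105412a038438050c081210500800000))) (BT.node (nat_lit 2) (BT.leaf (Bx.mk (nat_lit 0x3d9e5d08725c000001f1d2a00000000000210e4a43034a00000000000000000412af384392000000209578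421c8f8255dd08722c00000412aeb84390f04aba610e430000008255cd08720c00000412ae384390504ab8610e400000008255bd0871fe10e3c412adb8438ee0000020956c421c76000000b0aa4400000412ad38438e104ab4610e3780000000000104ab3610e348000008255950871a0000000000008438cc00000209562421c6500000000000209560421c6200000104aaf610e30a82a8100000104aae610e2e80000082556d087170000000000008438ae0000000000000000082555d08715000000412aab8438a708714a09554421c5100000104aa9610e28372a5e00000108713209550421c4b84389504aa7610e24412a9b84388f04aa6610e22c21c4400000104aa5610e2100000082552508710568e3a4302f48605e298710c000000000008605de00000168e2a8000008605d90c0ba94453c8000008605cf0c0b9148e304302e2))) (BT.leaf (Bx.mk (nat_lit 0x412b53843a2000000000000412b4f843a0c0000000000000000000000104ad2610e7c421cf200000000000000000000000343a26000000000001d1d210000000000000000000000000000000000000000000000000000000000000000000000000000000000000021d2f600000000000210e6a80000000000000000000000000000383a8800000000000421ccc0000007f4cec00000421cc635b2a2000000f0e8b8000008439840000000000020c70200000000000210e5d80000000000000000210e584303543e3a4c00000000000421cad0000007f44bc0000021c5053e3a3d0c0d4000000211d0e86069c00000000000000000)))))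
noncomputable def eDi0_c7 : BT (Bx Nat) := (BT.node (nat_lit 1) (BT.leaf (Bx.mk (nat_lit 0x58d91e0000000000000000000000000000000000000000000000cd198999c30b514606a8cbe0000000000032465d6470b8000001b9c2cb31458668caee05155c232a383853000000cd194599c28000000000000c9b1d8000000000000000000000018b638316c6f000000000001b363680000000000000000000000376c696ed8d000000193633326c65000000000000000002c6c8900000000000000000306c8760d90c0000000000000000060d908c1b20d836412d6c3866406eb5b0d99901a800000664046bdb08999010ae2040000000b880f99361e8000006e4056000001c9014b36c2874404ecdb099d1012b420346cd866cc80c9c3618b4203072d85ed080b9cb616ae203c64d876c080e99361c800000000000000001d1c0e800000000000f91868000003746186e702ee51859c9c0a800000000000e91849d1c08b7201076401e000001f9006b8200c744016000001d9004bc460878700ef91819f1c02bd20047e400704500a18300800000))) (BT.node (nat_lit 2) (BT.leaf (Bx.mk (nat_lit 0x8db44400000316d270000000000010b6922b6d0b000000adb4240000000000052415000000133662800000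00000098827541074a320ef5241ba0000013b676800000000000b4833578a4a2a6ccb5e41568db2a4000000000004cd94cb0831143675a620ea544136000000000002f20d35e41a200000000000296cc10000000000017366b8000006c2960000000000000000005641c8d882480000000000000000000000139078ab6cde0000000000015106a3620b9000000bc8349b105b000000000000a0836400000000000000000d5b2f40000000000000000000000000000356ccf4e41ced88254000000000005cd9c6000001210710000000000009c837c00000000000000000000000000003820996e41300000000000000000052d9b600000000000000000000000cc8339ab6572e6ce55a4158d5b328000002d46805a70feb451ec000002d387a628cf0c4e1dd68a26000000628c90c4e11d78a23311443628c84c4e104000002c6c90))) (BT.leaf (Bx.mk (nat_lit 0x4c2a3e00000131ca1a7473600000000000130a8826470f4c721c000001310862a152354724200000130a83264705000000000001423802838ff44425a9c54513a3898000005a8e54b4e4a40000029151a000000b1b4bc00000000000648df8c8e3ec000002220f9000000000000000000000004ada8e0000000000000000058422a00000000000000000688e2400000000000266d32000000cdb45d2107f00000000000095b4fc000000000005829f0b11bdd61c7b00000000000095b4e40000000000000000000000000000000000)))))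
noncomputable def eDi0_c8 : BT (Bx Nat) := (BT.node (nat_lit 1) (BT.leaf (Bx.mk (nat_lit 0x173237286259000000000000000002a4a8754c48e00000000000000000000000000000000003084766108ea00000000000000000000000bd895572541b6624160b8ce0000016a53f8000005e94c6e19175c1e2e00000060c89cc5e979bb1313762610000000000014c33e00000050951aa12a3180d35386442610904000001525480000000000000000017a53900000074c88ae4f11000000274a8b56b8ee000001cb125b8624a000000dd8951ba5340000005ec46e0000017b11a8000005ec446e4b8e98b11080000060b87e00000182e1e8000006ac456000001a31148000006ac44ed8b8b9ab112b82e2c6c4866e0b8a9aae188000006c485e000001b121680000060b876e4b8899121c800000000000000001a9e08b44a2068943e000001cb10abc6414787826e12869d2e0cbb621876c42ed12879a310ebb2e1070b81eecb83800000000000724816f4b829d1204bc4a0880780eed2819e1e02c02e047c480700680a18300800000))) (BT.node (nat_lit 2) (BT.leaf (Bx.mk (nat_lit 0x858ca0000003664f7530a76000000000001f5d3c000000000000000002b2ee20000000000015976fa862c4000000918ba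c000002f2e9e4b09dcbcba713b16d8000005e5d2ca18ab933156af2e9358c5940000012b154294ac6000000a18a9544a4e80000050b9d200000189760a962b90000000000011ae6d302eba56c580c0badd8535eb52eb4000000d8babda534a8000006c5d58b6138c0000000000048b9e6a18b8189753295cf0000000b18aec000002c5cd35cc5700000017b1688000005b3d840000015426c2f9cbf5ec5a400000000000000000000000000000000002462976ac59ca573993ae72b562cb5d292400000000000265ce1000000c18b154ae6f000000000000000000000000000000000000000013b16e800000000000000000000000000004ac9600000019b166a3a4cc000000000000000000000000000000000013b12b800000000000a18a180000000000052c4f0a6122800000000000000000bd894c00000000000))) (BT.leaf (Bx.mk (nat_lit 0x1e632000000000000000000000000393e0e00000000000000000000000000000000001e62f8000000000000000000000000000007d8cbcf2e840000003ac62a0000000000000000040966c897404fb18da41b140000007a15100000022a6fe4ac614d27c840000020853d469616d9943d9b1931f5d4840360ca52cc53cf8c00000040ba5a00000143182800000000000000000f429980000042968c999408000000000006ac644d8f424000002594f9000000992c9dab1871d63350000000000014a58ca94b30000000958c490b197000000)))))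
noncomputable def eDi0_c9 : BT (Bx Nat) := (BT.node (nat_lit 1) (BT.leaf (Bx.mk (nat_lit 0x35166000000000000183c2f00000000000000000000000000000000000e0595400000000000662ca40000000000038164f00000000000000000347874000000c601c4000000000000000000000000000000000000000000000000000000000000000c9e19c000000000006ef0c8000000000000000000000000000017404400000000000000000000000000000000000000001d9d2080000000000000000000000000000784476000001e111c80000078446e000000000000000000000000000000000000000078445e00000000000000000784456000001e111480000078444ef0c099e1112800000000000000001e1110800000000000f52079e9d0ebd481c000000000000000003d4818000000f52059e9d0abd48147a7426f52049e9d088000007c441ef8c038000003e300c7c4416f8c029f1104bf48087e740efd2019f9d02c0300480440704580a18300800000))) (BT.node (nat_lit 2) (BT.leaf (Bx.mk (nat_lit 0x163c9e80000000000000000000000000000000000000000000000000000000000000000000000000000000000000000000000000000000000000000000000000000000000000000000000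00000000000000000000000000000000000000000000000000000ccc2f000000000000000000000000000000000000000000000000000000000000000000000189155000000000000c5e29c000000000006c614800000000000000000000000000000000000000005e91aa00000000000000000000000000000000000000000000000000016985100000000000000000000000000000000000c1e3240000000000064758c00000000000000000000000b1e2c40000000000000000000000000000000000000000000000000000000005d01d0000000000002e80e57461260000000000000000000000000000000000000000000000000000000000000000000000000000000000000000000000000000000000000))) (BT.leaf (Bx.mk (nat_lit 0x128ba5800000000000000000000000000000000000000000000000000036f23e00000000000000000000000b48bf8000000000000000000000016917c9ed7230000000000000000000000000000000000000000000000000000000000000000000000000000000000000000000000000000000000000000000000000000000000000000003af2780000000000000000039028e0000000000000000000000000000000000000000000000000000000000000000000000000000000000000000000000000000000000000582df0000000000000000000000000000000000000000000000000000000000000000)))))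
noncomputable def eDi0_c10 : BT (Bx Nat) := (BT.node (nat_lit 1) (BT.leaf (Bx.mk (nat_lit 0x8605c108d8dc00000000000846c6c000000000000000000000010c0b680000042363300000000000211b194302d50000000000000000042363000000108d8be18167c302cc846c5c00000218163000000846c590c0b0a1815fc2362b00000108d8aa1815dc302b8846c520000000000042362800000000000211b13c302b086055b08d898000004302a7846c4a0000000000042362400000000000211b1180000000000108d88800000000000846c430c0a5e1814a4302910000010c0a38000004302898605110c0a16181424302818604fd0c09ee1813c8000008604e90c09c40000043026c8604d50c099e181324302638604c10c097a1812dc302588604ab0c094a18127c3024c8604930c091a181218000000000000000000000000000072983600000000000000000000000f1485800000000000749826f1484800000000000000000e96838000003a340c7ab016ecd029eab04bd52067a980af0d821e1b03bf34037c6c0908300618201000000))) (BT.node (nat_lit 2) (BT.leaf (Bx.mk (nat_lit 0x10c0d3211b4b00000000000108da56181a5c236930000000000000000000000000000108da3e181a38000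0000000000000000000000000000000000000000000000008606830c0cf80000043033c860674000000000000000008606730c0cdc00000000000000000000002181990000000000009d4af00000043032c8606560000000000000000000000000000218192c236688606460000000000000000000000108d9961818fc3031c54994908d98a1818d00000000000000000000000000000846cbb0c0c500000042365c0000000000000000000000000000000000169a514236548606210c0c3611b29c3030b000000a16b24000000000000000010c0c18000002936c3000000b0dac4000000000000000000000021818180000000000000000000000000000846c850c0bf61817d4236418605f10c0bd611b200000008605e4000000000000000000000000000000000000000000000000000211b1d0000008605d10c0b9611b1c000000))) (BT.leaf (Bx.mk (nat_lit 0x211b8618372400000000000211b80c236fe846df268d52000000000000846de20000000000000000000000000000211b73800000000000000000000004236e400000000000211b6f800000846dbc0000000000000000000000108db6400000000000000000000000d2daa0000000000000000000000000000000000000000000000195b50846d9600000000000000000846d8a000000000004236c400000108db0400000000000000000000000000004236ba000000000000000004236af0000010c0d4a11b57430351846d580000000000000000000000108da9800000000000846d3a000002181a6800000)))))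
noncomputable def eDi0_p : BT (Bx Nat) := (BT.node (nat_lit 1) (BT.leaf (Bx.mk (nat_lit 0x71c04e3729c6e1b8dc271b14e3609c6a538d4371a84e340dc68138cca71986e3309c64538c8371904e310dc62138c0a71806e2f29c5e1b8bc271714e2e0dc5c138b4a71614e2c0dc58138aca71586e2a29c541b8a8271494e290dc52138a0a71406e2809c4e5389c371384e2629c4c1b898271294e250dc4a13890a71206e2409c465388c371184e2229c441b888271094e210dc421308066100ac1f1983e2b078660f0ac1d1983a2b070660e0ac1b198362b068660d0ac19198322b060660c0ac171982e2b058660b0ac151982a2b050660a0ac13198262b04866090ac11198222a840350804a0f0d41e12838350704a0d0d41a12830350604a0b0d41612828350504a090d4121202064040a8071900e2a01864030a8051900a298103302046030cc061100862010a20128000000000))) (BT.node (nat_lit 2) (BT.leaf (Bx.mk (nat_lit 0x94d852971652c54a58394b052952a5282ca4ca949872930a5245424068480b08f2a11e3423c58458d08b161142c21c68438b0861a10c2c20ca8418d083161045420868410b0801a1002c1fca83f8d07f160f02c1dc683b8b0762a0ec341d8583a8b0741a0e0541c068380b06f1a0de2c1b46834950691a0d22c1a0a8340d068160ce2c19868330b0652a0ca3419458320d0622a0c4341885830950611a0c22c180682e9505d1a0ba2c170a82e0d05c160b434164682b8b0561a0aa34150a82a0d054160a65414c68298b052160a2341445828150501a0a02c13c68268b04c160963412c58250b0481a0902c11c68238b0451a08a2c1105821150421a0842c104a8208d04115c8053900372004e3e29c7c1b8f8271e86e3d09c78538eca71d86e3b09c74538e4a71c86e3909c70538e03)))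 (BT.leaf (Bx.mk (nat_lit 0x54406a880b50e2aa18554186a830b5031aa02553f8aa7c954f81a9f02cbc85978952f10e5da14bac3974852e8165ce54b9c3973852e62a5ca2cb90a972052e32a5be54b7c396f152dd0e5b61cb6c296d0b2d92a5b21cb64296b872d70a5aa2cb50a969952d10e5a214b3c5967072ce0a59a54b305965952cb0e59614b185962952c50e58a14b10a9610b2c12a5821cb04295e872bd0a5762cae8a95d072b60e5602cabca957872af0a55c54ab45956152ac0e55814aa03954052a62a54c1ca98294e9529d0e53a14a6c3)))))
noncomputable def eDi0_e0 : BT Nat := (BT.node (nat_lit 14592) (BT.node (nat_lit 9152) (BT.node (nat_lit 1216) (BT.node (nat_lit 72) (BT.node (nat_lit 68) (BT.node (nat_lit 66) (BT.leaf (nat_lit 2)) (BT.leaf (nat_lit 262146))) (BT.node (nat_lit 69) (BT.leaf (nat_lit 524290)) (BT.node (nat_lit 71) (BT.leaf (nat_lit 786434)) (BT.leaf (nat_lit 1048578))))) (BT.node (nat_lit 192) (BT.node (nat_lit 73) (BT.leaf (nat_lit 1310722)) (BT.node (nat_lit 128) (BT.leaf (nat_lit 1572866)) (BT.leaf (nat_lit 80389)))) (BT.node (nat_lit 320)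 (BT.leaf (nat_lit 56857)) (BT.node (nat_lit 640) (BT.leaf (nat_lit 56845)) (BT.leaf (nat_lit 20501)))))) (BT.node (nat_lit 5184) (BT.node (nat_lit 2944) (BT.node (nat_lit 2432) (BT.leaf (nat_lit 20493)) (BT.node (nat_lit 2816) (BT.leaf (nat_lit 42517)) (BT.leaf (nat_lit 26121)))) (BT.node (nat_lit 4224) (BT.leaf (nat_lit 25869)) (BT.node (nat_lit 5120) (BT.leaf (nat_lit 26125)) (BT.leaf (nat_lit 50201))))) (BT.node (nat_lit 6528) (BT.node (nat_lit 6208) (BT.leaf (nat_lit 75281)) (BT.node (nat_lit 6464) (BT.leaf (nat_lit 52501)) (BT.leaf (nat_lit 50453)))) (BT.node (nat_lit 6656) (BT.leaf (nat_lit 25865)) (BT.node (nat_lit 8128) (BT.leaf (nat_lit 52265)) (BT.leaf (nat_lit 61465))))))) (BT.node (nat_lit 12544) (BT.node (nat_lit 10624) (BT.node (nat_lit 9536) (BT.node (nat_lit 9344) (BT.leaf (nat_lit 61717)) (BT.leaf (nat_lit 56837))) (BT.node (nat_lit 9600) (BT.leaf (nat_lit 42521)) (BT.node (nat_lit 10560) (BT.leaf (nat_lit 78089)) (BT.leaf (nat_lit 50185)))))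 (BT.node (nat_lit 11200) (BT.node (nat_lit 10944) (BT.leaf (nat_lit 50197)) (BT.node (nat_lit 11136) (BT.leaf (nat_lit 42245)) (BT.leaf (nat_lit 50189)))) (BT.node (nat_lit 11840) (BT.leaf (nat_lit 75277)) (BT.node (nat_lit 12352) (BT.leaf (nat_lit 61445)) (BT.leaf (nat_lit 77837)))))) (BT.node (nat_lit 13184) (BT.node (nat_lit 12992) (BT.node (nat_lit 12608) (BT.leaf (nat_lit 50457)) (BT.node (nat_lit 12928) (BT.leaf (nat_lit 73513)) (BT.leaf (nat_lit 26645)))) (BT.node (nat_lit 13056) (BT.leaf (nat_lit 74537)) (BT.node (nat_lit 13120) (BT.leaf (nat_lit 74777)) (BT.leaf (nat_lit 52761))))) (BT.node (nat_lit 13888) (BT.node (nat_lit 13504) (BT.leaf (nat_lit 50449)) (BT.node (nat_lit 13568) (BT.leaf (nat_lit 54297)) (BT.leaf (nat_lit 58385)))) (BT.node (nat_lit 14208) (BT.leaf (nat_lit 78377)) (BT.node (nat_lit 14528) (BT.leaf (nat_lit 50205)) (BT.leaf (nat_lit 58393)))))))) (BT.node (nat_lit 18496) (BT.node (nat_lit 17024) (BT.node (nat_lit 15680) (BT.node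 (nat_lit 14784) (BT.node (nat_lit 14720) (BT.leaf (nat_lit 80937)) (BT.leaf (nat_lit 59161))) (BT.node (nat_lit 15360) (BT.leaf (nat_lit 82217)) (BT.node (nat_lit 15424) (BT.leaf (nat_lit 61721)) (BT.leaf (nat_lit 83753))))) (BT.node (nat_lit 16640) (BT.node (nat_lit 15744) (BT.leaf (nat_lit 54057)) (BT.node (nat_lit 16000) (BT.leaf (nat_lit 77849)) (BT.leaf (nat_lit 72721)))) (BT.node (nat_lit 16704) (BT.leaf (nat_lit 77841)) (BT.node (nat_lit 16960) (BT.leaf (nat_lit 71441)) (BT.leaf (nat_lit 71453)))))) (BT.node (nat_lit 17920) (BT.node (nat_lit 17536) (BT.node (nat_lit 17280) (BT.leaf (nat_lit 83205)) (BT.node (nat_lit 17344) (BT.leaf (nat_lit 76321)) (BT.leaf (nat_lit 71433)))) (BT.node (nat_lit 17792) (BT.leaf (nat_lit 81945)) (BT.node (nat_lit 17856) (BT.leaf (nat_lit 71437)) (BT.leaf (nat_lit 72985))))) (BT.node (nat_lit 18240) (BT.node (nat_lit 17984) (BT.leaf (nat_lit 80661)) (BT.node (nat_lit 18176) (BT.leaf (nat_lit 77833)) (BT.leaf (nat_lit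 50217)))) (BT.node (nat_lit 18304) (BT.leaf (nat_lit 50441)) (BT.node (nat_lit 18368) (BT.leaf (nat_lit 50445)) (BT.leaf (nat_lit 86293))))))) (BT.node (nat_lit 19904) (BT.node (nat_lit 19072) (BT.node (nat_lit 18688) (BT.node (nat_lit 18560) (BT.leaf (nat_lit 51977)) (BT.node (nat_lit 18624) (BT.leaf (nat_lit 51981)) (BT.leaf (nat_lit 80925)))) (BT.node (nat_lit 18816) (BT.leaf (nat_lit 86313)) (BT.node (nat_lit 18880) (BT.leaf (nat_lit 73233)) (BT.leaf (nat_lit 72977))))) (BT.node (nat_lit 19520) (BT.node (nat_lit 19136) (BT.leaf (nat_lit 73221)) (BT.node (nat_lit 19456) (BT.leaf (nat_lit 72709)) (BT.leaf (nat_lit 72993)))) (BT.node (nat_lit 19584) (BT.leaf (nat_lit 73249)) (BT.node (nat_lit 19712) (BT.leaf (nat_lit 80913)) (BT.leaf (nat_lit 83477)))))) (BT.node (nat_lit 20480) (BT.node (nat_lit 20224) (BT.node (nat_lit 20096) (BT.leaf (nat_lit 56873)) (BT.node (nat_lit 20160) (BT.leaf (nat_lit 58153)) (BT.leaf (nat_lit 58377)))) (BT.node (nat_lit 20352)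 (BT.leaf (nat_lit 73477)) (BT.node (nat_lit 20416) (BT.leaf (nat_lit 58921)) (BT.leaf (nat_lit 59145))))) (BT.node (nat_lit 20800) (BT.node (nat_lit 20544) (BT.leaf (nat_lit 59149)) (BT.node (nat_lit 20736) (BT.leaf (nat_lit 73489)) (BT.leaf (nat_lit 75545)))) (BT.node (nat_lit 20864) (BT.leaf (nat_lit 72965)) (BT.node (nat_lit 20928) (BT.leaf (nat_lit 61709)) (BT.leaf (nat_lit 73501)))))))))
noncomputable def eDi0_e : BT Nat := eDi0_e0
noncomputable def eDi0_cols : List (BT (Bx Nat)) := [eDi0_c0, eDi0_c1, eDi0_c2, eDi0_c3, eDi0_c4, eDi0_c5, eDi0_c6, eDi0_c7, eDi0_c8, eDi0_c9, eDi0_c10]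
noncomputable def eDi0_ch (x j : Nat) : Bx Nat := chunkG eDi0_cols (nat_lit 3) x j
noncomputable def eDi0_L (x : Nat) : Bx (Nat → Nat) := lookG eDi0_ch (nat_lit 7) (nat_lit 127) (nat_lit 23) (nat_lit 8388607) x
noncomputable def eDi0_pc (_ j : Nat) : Bx Nat := eDi0_p.get j
noncomputable def eDi0_pb : Bx (Nat → Nat) := lookG eDi0_pc (nat_lit 7) (nat_lit 127) (nat_lit 19) (nat_lit 524287) (nat_lit 0)
noncomputable def eDi0_rots : BT CW := (BT.node (nat_lit 55) (BT.node (nat_lit 27) (BT.node (nat_lit 13) (BT.node (nat_lit 6) (BT.node (nat_lit 3) (BT.node (nat_lit 1) (BT.leaf ⟨[], (nat_lit 1000000), (nat_lit 0), (nat_lit 0), (nat_lit 0)⟩) (BT.node (nat_lit 2) (BT.leaf ⟨[], (nat_lit 1000000), (nat_lit 0), (nat_lit 0), (nat_lit 1)⟩) (BT.leaf ⟨[], (nat_lit 1000000), (nat_lit 0), (nat_lit 0), (nat_lit 2)⟩))) (BT.node (nat_lit 4) (BT.leaf ⟨[(nat_lit 3), (nat_lit 2)], (nat_lit 141), (nat_lit 1), (nat_lit 0), (nat_lit 3)⟩) (BT.node (nat_lit 5) (BT.leaf ⟨[(nat_lit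 6), (nat_lit 5)], (nat_lit 139), (nat_lit 1), (nat_lit 0), (nat_lit 3)⟩) (BT.leaf ⟨[(nat_lit 10), (nat_lit 10)], (nat_lit 121), (nat_lit 0), (nat_lit 0), (nat_lit 3)⟩)))) (BT.node (nat_lit 9) (BT.node (nat_lit 7) (BT.leaf ⟨[(nat_lit 1), (nat_lit 10), (nat_lit 1), (nat_lit 10)], (nat_lit 129), (nat_lit 1), (nat_lit 0), (nat_lit 4)⟩) (BT.node (nat_lit 8) (BT.leaf ⟨[(nat_lit 2), (nat_lit 10), (nat_lit 3), (nat_lit 10)], (nat_lit 130), (nat_lit 1), (nat_lit 0), (nat_lit 4)⟩) (BT.leaf ⟨[(nat_lit 3), (nat_lit 2)], (nat_lit 141), (nat_lit 1), (nat_lit 0), (nat_lit 4)⟩))) (BT.node (nat_lit 11) (BT.node (nat_lit 10) (BT.leaf ⟨[(nat_lit 7), (nat_lit 10), (nat_lit 7), (nat_lit 10)], (nat_lit 131), (nat_lit 1), (nat_lit 0), (nat_lit 4)⟩) (BT.leaf ⟨[(nat_lit 9), (nat_lit 10), (nat_lit 9), (nat_lit 7), (nat_lit 10)], (nat_lit 128), (nat_lit 1), (nat_lit 0), (nat_lit 4)⟩)) (BT.node (nat_lit 12) (BT.leaf ⟨[(nat_lit 4), (nat_lit 10), (nat_lit 4), (nat_lit 7), (nat_lit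 10)], (nat_lit 132), (nat_lit 1), (nat_lit 0), (nat_lit 4)⟩) (BT.leaf ⟨[(nat_lit 8), (nat_lit 7), (nat_lit 1), (nat_lit 4), (nat_lit 1), (nat_lit 4)], (nat_lit 20), (nat_lit 4), (nat_lit 0), (nat_lit 4)⟩))))) (BT.node (nat_lit 20) (BT.node (nat_lit 16) (BT.node (nat_lit 14) (BT.leaf ⟨[(nat_lit 6), (nat_lit 5)], (nat_lit 139), (nat_lit 1), (nat_lit 0), (nat_lit 4)⟩) (BT.node (nat_lit 15) (BT.leaf ⟨[(nat_lit 1), (nat_lit 6), (nat_lit 1), (nat_lit 5)], (nat_lit 9), (nat_lit 2), (nat_lit 0), (nat_lit 4)⟩) (BT.leaf ⟨[(nat_lit 7), (nat_lit 6), (nat_lit 8), (nat_lit 5)], (nat_lit 13), (nat_lit 1), (nat_lit 0), (nat_lit 4)⟩))) (BT.node (nat_lit 18) (BT.node (nat_lit 17) (BT.leaf ⟨[(nat_lit 9), (nat_lit 6), (nat_lit 9), (nat_lit 5)], (nat_lit 125), (nat_lit 2), (nat_lit 0), (nat_lit 4)⟩) (BT.leaf ⟨[(nat_lit 8), (nat_lit 6), (nat_lit 7), (nat_lit 5), (nat_lit 7)], (nat_lit 17), (nat_lit 2), (nat_lit 0), (nat_lit 4)⟩)) (BT.node (nat_lit 19) (BT.leaf ⟨[(nat_lit 4),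 (nat_lit 6), (nat_lit 3), (nat_lit 8), (nat_lit 2), (nat_lit 5)], (nat_lit 22), (nat_lit 2), (nat_lit 0), (nat_lit 4)⟩) (BT.leaf ⟨[(nat_lit 5), (nat_lit 6)], (nat_lit 139), (nat_lit 0), (nat_lit 0), (nat_lit 4)⟩)))) (BT.node (nat_lit 23) (BT.node (nat_lit 21) (BT.leaf ⟨[(nat_lit 6), (nat_lit 6), (nat_lit 6)], (nat_lit 148), (nat_lit 0), (nat_lit 0), (nat_lit 4)⟩) (BT.node (nat_lit 22) (BT.leaf ⟨[(nat_lit 1), (nat_lit 5), (nat_lit 1), (nat_lit 6)], (nat_lit 9), (nat_lit 0), (nat_lit 0), (nat_lit 4)⟩) (BT.leaf ⟨[(nat_lit 8), (nat_lit 5), (nat_lit 7), (nat_lit 6)], (nat_lit 13), (nat_lit 3), (nat_lit 0), (nat_lit 4)⟩))) (BT.node (nat_lit 25) (BT.node (nat_lit 24) (BT.leaf ⟨[(nat_lit 9), (nat_lit 5), (nat_lit 9), (nat_lit 6)], (nat_lit 125), (nat_lit 0), (nat_lit 0), (nat_lit 4)⟩) (BT.leaf ⟨[(nat_lit 4), (nat_lit 5), (nat_lit 4), (nat_lit 1), (nat_lit 2), (nat_lit 8), (nat_lit 3), (nat_lit 6)], (nat_lit 32), (nat_lit 5), (nat_lit 0), (nat_lit 4)⟩)) (BT.node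 (nat_lit 26) (BT.leaf ⟨[(nat_lit 10), (nat_lit 6), (nat_lit 10), (nat_lit 6), (nat_lit 10), (nat_lit 9), (nat_lit 1), (nat_lit 8), (nat_lit 6)], (nat_lit 276), (nat_lit 4), (nat_lit 0), (nat_lit 4)⟩) (BT.leaf ⟨[(nat_lit 10), (nat_lit 10)], (nat_lit 121), (nat_lit 0), (nat_lit 0), (nat_lit 4)⟩)))))) (BT.node (nat_lit 41) (BT.node (nat_lit 34) (BT.node (nat_lit 30) (BT.node (nat_lit 28) (BT.leaf ⟨[(nat_lit 7), (nat_lit 3), (nat_lit 7), (nat_lit 2)], (nat_lit 11), (nat_lit 1), (nat_lit 0), (nat_lit 4)⟩) (BT.node (nat_lit 29) (BT.leaf ⟨[(nat_lit 9), (nat_lit 3), (nat_lit 9), (nat_lit 2)], (nat_lit 123), (nat_lit 2), (nat_lit 0), (nat_lit 4)⟩) (BT.leaf ⟨[(nat_lit 8), (nat_lit 3), (nat_lit 5), (nat_lit 4), (nat_lit 7), (nat_lit 6), (nat_lit 2)], (nat_lit 27), (nat_lit 1), (nat_lit 0), (nat_lit 4)⟩))) (BT.node (nat_lit 32) (BT.node (nat_lit 31) (BT.leaf ⟨[(nat_lit 2), (nat_lit 3)], (nat_lit 141), (nat_lit 0), (nat_lit 0), (nat_lit 4)⟩) (BT.leaf ⟨[(nat_lit 3),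 (nat_lit 3), (nat_lit 3)], (nat_lit 147), (nat_lit 0), (nat_lit 0), (nat_lit 4)⟩)) (BT.node (nat_lit 33) (BT.leaf ⟨[(nat_lit 4), (nat_lit 3), (nat_lit 4), (nat_lit 3)], (nat_lit 151), (nat_lit 0), (nat_lit 0), (nat_lit 4)⟩) (BT.leaf ⟨[(nat_lit 4), (nat_lit 4)], (nat_lit 1), (nat_lit 0), (nat_lit 0), (nat_lit 4)⟩)))) (BT.node (nat_lit 37) (BT.node (nat_lit 35) (BT.leaf ⟨[(nat_lit 7), (nat_lit 2), (nat_lit 7), (nat_lit 3)], (nat_lit 11), (nat_lit 3), (nat_lit 0), (nat_lit 4)⟩) (BT.node (nat_lit 36) (BT.leaf ⟨[(nat_lit 9), (nat_lit 2), (nat_lit 9), (nat_lit 3)], (nat_lit 123), (nat_lit 0), (nat_lit 0), (nat_lit 4)⟩) (BT.leaf ⟨[(nat_lit 8), (nat_lit 4), (nat_lit 8), (nat_lit 4)], (nat_lit 15), (nat_lit 1), (nat_lit 0), (nat_lit 4)⟩))) (BT.node (nat_lit 39) (BT.node (nat_lit 38) (BT.leaf ⟨[(nat_lit 10), (nat_lit 3), (nat_lit 10), (nat_lit 2)], (nat_lit 130), (nat_lit 2), (nat_lit 0), (nat_lit 4)⟩) (BT.leaf ⟨[(nat_lit 1), (nat_lit 3), (nat_lit 6), (nat_lit 2),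 (nat_lit 1), (nat_lit 3), (nat_lit 6), (nat_lit 2)], (nat_lit 176), (nat_lit 3), (nat_lit 0), (nat_lit 4)⟩)) (BT.node (nat_lit 40) (BT.leaf ⟨[(nat_lit 1), (nat_lit 1)], (nat_lit 0), (nat_lit 0), (nat_lit 0), (nat_lit 4)⟩) (BT.leaf ⟨[(nat_lit 10), (nat_lit 2), (nat_lit 10), (nat_lit 3)], (nat_lit 130), (nat_lit 0), (nat_lit 0), (nat_lit 4)⟩))))) (BT.node (nat_lit 48) (BT.node (nat_lit 44) (BT.node (nat_lit 42) (BT.leaf ⟨[(nat_lit 1), (nat_lit 3), (nat_lit 1), (nat_lit 3), (nat_lit 1), (nat_lit 3)], (nat_lit 162), (nat_lit 1), (nat_lit 0), (nat_lit 4)⟩) (BT.node (nat_lit 43) (BT.leaf ⟨[(nat_lit 10), (nat_lit 6), (nat_lit 3), (nat_lit 5), (nat_lit 10), (nat_lit 6), (nat_lit 4), (nat_lit 3), (nat_lit 9), (nat_lit 5), (nat_lit 10), (nat_lit 6), (nat_lit 2), (nat_lit 5)], (nat_lit 134), (nat_lit 5), (nat_lit 0), (nat_lit 4)⟩) (BT.leaf ⟨[(nat_lit 10), (nat_lit 6), (nat_lit 2), (nat_lit 5), (nat_lit 10), (nat_lit 6), (nat_lit 3), (nat_lit 5), (nat_lit 10), (nat_lit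 6), (nat_lit 4), (nat_lit 3), (nat_lit 9), (nat_lit 5)], (nat_lit 134), (nat_lit 1), (nat_lit 0), (nat_lit 4)⟩))) (BT.node (nat_lit 46) (BT.node (nat_lit 45) (BT.leaf ⟨[(nat_lit 10), (nat_lit 1), (nat_lit 10), (nat_lit 1)], (nat_lit 129), (nat_lit 0), (nat_lit 0), (nat_lit 4)⟩) (BT.leaf ⟨[(nat_lit 8), (nat_lit 1), (nat_lit 8), (nat_lit 1)], (nat_lit 14), (nat_lit 1), (nat_lit 0), (nat_lit 4)⟩)) (BT.node (nat_lit 47) (BT.leaf ⟨[(nat_lit 4), (nat_lit 8), (nat_lit 7), (nat_lit 1), (nat_lit 4), (nat_lit 1)], (nat_lit 20), (nat_lit 3), (nat_lit 0), (nat_lit 4)⟩) (BT.leaf ⟨[(nat_lit 1), (nat_lit 2), (nat_lit 6), (nat_lit 3), (nat_lit 1), (nat_lit 2), (nat_lit 6), (nat_lit 3)], (nat_lit 174), (nat_lit 3), (nat_lit 0), (nat_lit 4)⟩)))) (BT.node (nat_lit 51) (BT.node (nat_lit 49) (BT.leaf ⟨[(nat_lit 8), (nat_lit 8)], (nat_lit 3), (nat_lit 0), (nat_lit 0), (nat_lit 4)⟩) (BT.node (nat_lit 50) (BT.leaf ⟨[(nat_lit 8), (nat_lit 2), (nat_lit 5), (nat_lit 4), (nat_lit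 6), (nat_lit 3)], (nat_lit 22), (nat_lit 5), (nat_lit 0), (nat_lit 4)⟩) (BT.leaf ⟨[(nat_lit 1), (nat_lit 2), (nat_lit 1), (nat_lit 2), (nat_lit 1), (nat_lit 2)], (nat_lit 19), (nat_lit 0), (nat_lit 0), (nat_lit 4)⟩))) (BT.node (nat_lit 53) (BT.node (nat_lit 52) (BT.leaf ⟨[(nat_lit 4), (nat_lit 2), (nat_lit 4), (nat_lit 2)], (nat_lit 8), (nat_lit 1), (nat_lit 0), (nat_lit 4)⟩) (BT.leaf ⟨[(nat_lit 1), (nat_lit 8), (nat_lit 1), (nat_lit 8)], (nat_lit 14), (nat_lit 0), (nat_lit 0), (nat_lit 4)⟩)) (BT.node (nat_lit 54) (BT.leaf ⟨[(nat_lit 7), (nat_lit 7)], (nat_lit 2), (nat_lit 0), (nat_lit 0), (nat_lit 4)⟩) (BT.leaf ⟨[(nat_lit 4), (nat_lit 7), (nat_lit 4), (nat_lit 7)], (nat_lit 12), (nat_lit 0), (nat_lit 0), (nat_lit 4)⟩))))))) (BT.node (nat_lit 82) (BT.node (nat_lit 68) (BT.node (nat_lit 61) (BT.node (nat_lit 58) (BT.node (nat_lit 56) (BT.leaf ⟨[(nat_lit 4), (nat_lit 1), (nat_lit 4), (nat_lit 8), (nat_lit 7), (nat_lit 1)], (nat_lit 20), (nat_lit 1), (nat_lit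 0), (nat_lit 4)⟩) (BT.node (nat_lit 57) (BT.leaf ⟨[(nat_lit 1), (nat_lit 3), (nat_lit 5), (nat_lit 2), (nat_lit 1), (nat_lit 3), (nat_lit 5), (nat_lit 2)], (nat_lit 33), (nat_lit 0), (nat_lit 0), (nat_lit 4)⟩) (BT.leaf ⟨[(nat_lit 5), (nat_lit 10), (nat_lit 5), (nat_lit 10), (nat_lit 5), (nat_lit 8), (nat_lit 1), (nat_lit 9), (nat_lit 10)], (nat_lit 133), (nat_lit 1), (nat_lit 0), (nat_lit 4)⟩))) (BT.node (nat_lit 59) (BT.leaf ⟨[(nat_lit 6), (nat_lit 10), (nat_lit 6), (nat_lit 10), (nat_lit 9), (nat_lit 1), (nat_lit 8), (nat_lit 6), (nat_lit 10)], (nat_lit 276), (nat_lit 5), (nat_lit 0), (nat_lit 4)⟩) (BT.node (nat_lit 60) (BT.leaf ⟨[(nat_lit 9), (nat_lit 9)], (nat_lit 120), (nat_lit 0), (nat_lit 0), (nat_lit 4)⟩) (BT.leaf ⟨[(nat_lit 8), (nat_lit 6), (nat_lit 10), (nat_lit 6), (nat_lit 10), (nat_lit 6), (nat_lit 10), (nat_lit 9), (nat_lit 1)], (nat_lit 276), (nat_lit 2), (nat_lit 0), (nat_lit 4)⟩)))) (BT.node (nat_lit 64) (BT.node (nat_lit 62) (BT.leaf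 ⟨[(nat_lit 1), (nat_lit 4), (nat_lit 7), (nat_lit 8), (nat_lit 1), (nat_lit 4)], (nat_lit 21), (nat_lit 2), (nat_lit 0), (nat_lit 4)⟩) (BT.node (nat_lit 63) (BT.leaf ⟨[(nat_lit 1), (nat_lit 2), (nat_lit 5), (nat_lit 3), (nat_lit 1), (nat_lit 2), (nat_lit 5), (nat_lit 3)], (nat_lit 31), (nat_lit 0), (nat_lit 0), (nat_lit 4)⟩) (BT.leaf ⟨[(nat_lit 9), (nat_lit 1), (nat_lit 9), (nat_lit 1)], (nat_lit 122), (nat_lit 0), (nat_lit 0), (nat_lit 4)⟩))) (BT.node (nat_lit 66) (BT.node (nat_lit 65) (BT.leaf ⟨[(nat_lit 1), (nat_lit 7), (nat_lit 1), (nat_lit 7)], (nat_lit 10), (nat_lit 0), (nat_lit 0), (nat_lit 4)⟩) (BT.leaf ⟨[(nat_lit 8), (nat_lit 7), (nat_lit 8), (nat_lit 7)], (nat_lit 16), (nat_lit 1), (nat_lit 0), (nat_lit 4)⟩)) (BT.node (nat_lit 67) (BT.leaf ⟨[(nat_lit 8), (nat_lit 1), (nat_lit 4), (nat_lit 1), (nat_lit 4), (nat_lit 7)], (nat_lit 21), (nat_lit 5), (nat_lit 0), (nat_lit 4)⟩) (BT.leaf ⟨[(nat_lit 5), (nat_lit 4), (nat_lit 1), (nat_lit 4), (nat_lit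 6), (nat_lit 1), (nat_lit 7)], (nat_lit 25), (nat_lit 5), (nat_lit 0), (nat_lit 4)⟩))))) (BT.node (nat_lit 75) (BT.node (nat_lit 71) (BT.node (nat_lit 69) (BT.leaf ⟨[(nat_lit 6), (nat_lit 1), (nat_lit 7), (nat_lit 5), (nat_lit 4), (nat_lit 1), (nat_lit 4)], (nat_lit 25), (nat_lit 2), (nat_lit 0), (nat_lit 4)⟩) (BT.node (nat_lit 70) (BT.leaf ⟨[(nat_lit 5), (nat_lit 1), (nat_lit 6), (nat_lit 1)], (nat_lit 9), (nat_lit 1), (nat_lit 0), (nat_lit 4)⟩) (BT.leaf ⟨[(nat_lit 3), (nat_lit 10), (nat_lit 2), (nat_lit 10)], (nat_lit 130), (nat_lit 3), (nat_lit 0), (nat_lit 4)⟩))) (BT.node (nat_lit 73) (BT.node (nat_lit 72) (BT.leaf ⟨[(nat_lit 5), (nat_lit 5), (nat_lit 5)], (nat_lit 5), (nat_lit 0), (nat_lit 0), (nat_lit 4)⟩) (BT.leaf ⟨[(nat_lit 3), (nat_lit 5), (nat_lit 10), (nat_lit 6), (nat_lit 4), (nat_lit 3), (nat_lit 9), (nat_lit 5), (nat_lit 10), (nat_lit 6), (nat_lit 2), (nat_lit 5), (nat_lit 10), (nat_lit 6)], (nat_lit 134), (nat_lit 7), (nat_lit 0), (nat_lit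 4)⟩)) (BT.node (nat_lit 74) (BT.leaf ⟨[(nat_lit 8), (nat_lit 6), (nat_lit 7), (nat_lit 8), (nat_lit 5)], (nat_lit 18), (nat_lit 1), (nat_lit 0), (nat_lit 4)⟩) (BT.leaf ⟨[(nat_lit 2), (nat_lit 5), (nat_lit 3), (nat_lit 5), (nat_lit 2), (nat_lit 5), (nat_lit 3), (nat_lit 6), (nat_lit 2), (nat_lit 5), (nat_lit 3), (nat_lit 5), (nat_lit 2), (nat_lit 5), (nat_lit 3), (nat_lit 6)], (nat_lit 119), (nat_lit 0), (nat_lit 0), (nat_lit 4)⟩)))) (BT.node (nat_lit 78) (BT.node (nat_lit 76) (BT.leaf ⟨[(nat_lit 3), (nat_lit 6), (nat_lit 4), (nat_lit 8), (nat_lit 3), (nat_lit 1), (nat_lit 8), (nat_lit 2), (nat_lit 6), (nat_lit 2), (nat_lit 5), (nat_lit 8), (nat_lit 1), (nat_lit 6)], (nat_lit 258), (nat_lit 8), (nat_lit 0), (nat_lit 4)⟩) (BT.node (nat_lit 77) (BT.leaf ⟨[(nat_lit 2), (nat_lit 5), (nat_lit 10), (nat_lit 6), (nat_lit 3), (nat_lit 5), (nat_lit 10), (nat_lit 6), (nat_lit 4), (nat_lit 3), (nat_lit 9), (nat_lit 5), (nat_lit 10), (nat_lit 6)], (nat_lit 134), (nat_lit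 3), (nat_lit 0), (nat_lit 4)⟩) (BT.leaf ⟨[(nat_lit 8), (nat_lit 3), (nat_lit 6), (nat_lit 4), (nat_lit 5), (nat_lit 4), (nat_lit 1), (nat_lit 2)], (nat_lit 32), (nat_lit 2), (nat_lit 0), (nat_lit 4)⟩))) (BT.node (nat_lit 80) (BT.node (nat_lit 79) (BT.leaf ⟨[(nat_lit 8), (nat_lit 2), (nat_lit 8), (nat_lit 2), (nat_lit 8), (nat_lit 2)], (nat_lit 23), (nat_lit 1), (nat_lit 0), (nat_lit 4)⟩) (BT.leaf ⟨[(nat_lit 2), (nat_lit 9), (nat_lit 3), (nat_lit 9)], (nat_lit 123), (nat_lit 1), (nat_lit 0), (nat_lit 4)⟩)) (BT.node (nat_lit 81) (BT.leaf ⟨[(nat_lit 2), (nat_lit 5), (nat_lit 3), (nat_lit 6), (nat_lit 2), (nat_lit 6), (nat_lit 3), (nat_lit 6), (nat_lit 2), (nat_lit 5), (nat_lit 3), (nat_lit 6), (nat_lit 2), (nat_lit 6), (nat_lit 3), (nat_lit 6)], (nat_lit 259), (nat_lit 1), (nat_lit 0), (nat_lit 4)⟩) (BT.leaf ⟨[(nat_lit 8), (nat_lit 3), (nat_lit 8), (nat_lit 3), (nat_lit 8), (nat_lit 3)], (nat_lit 166), (nat_lit 0), (nat_lit 0), (nat_lit 4)⟩)))))) (BT.node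 (nat_lit 96) (BT.node (nat_lit 89) (BT.node (nat_lit 85) (BT.node (nat_lit 83) (BT.leaf ⟨[(nat_lit 8), (nat_lit 7), (nat_lit 6), (nat_lit 7), (nat_lit 5)], (nat_lit 160), (nat_lit 2), (nat_lit 0), (nat_lit 4)⟩) (BT.node (nat_lit 84) (BT.leaf ⟨[(nat_lit 2), (nat_lit 6), (nat_lit 3), (nat_lit 6), (nat_lit 4), (nat_lit 5), (nat_lit 8), (nat_lit 3), (nat_lit 6), (nat_lit 2), (nat_lit 5), (nat_lit 3), (nat_lit 1), (nat_lit 4), (nat_lit 3), (nat_lit 5)], (nat_lit 261), (nat_lit 3), (nat_lit 0), (nat_lit 4)⟩) (BT.leaf ⟨[(nat_lit 2), (nat_lit 4), (nat_lit 2), (nat_lit 4)], (nat_lit 8), (nat_lit 0), (nat_lit 0), (nat_lit 4)⟩))) (BT.node (nat_lit 87) (BT.node (nat_lit 86) (BT.leaf ⟨[(nat_lit 2), (nat_lit 2), (nat_lit 2)], (nat_lit 4), (nat_lit 0), (nat_lit 0), (nat_lit 4)⟩) (BT.leaf ⟨[(nat_lit 3), (nat_lit 1), (nat_lit 2), (nat_lit 6), (nat_lit 3), (nat_lit 1), (nat_lit 2), (nat_lit 6)], (nat_lit 174), (nat_lit 2), (nat_lit 0), (nat_lit 4)⟩)) (BT.node (nat_lit 88)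 (BT.leaf ⟨[(nat_lit 3), (nat_lit 4), (nat_lit 3), (nat_lit 4)], (nat_lit 151), (nat_lit 1), (nat_lit 0), (nat_lit 4)⟩) (BT.leaf ⟨[(nat_lit 3), (nat_lit 6), (nat_lit 7), (nat_lit 5), (nat_lit 2), (nat_lit 7), (nat_lit 5), (nat_lit 4), (nat_lit 6)], (nat_lit 209), (nat_lit 8), (nat_lit 0), (nat_lit 4)⟩)))) (BT.node (nat_lit 92) (BT.node (nat_lit 90) (BT.leaf ⟨[(nat_lit 2), (nat_lit 5), (nat_lit 8), (nat_lit 6), (nat_lit 3), (nat_lit 5), (nat_lit 4), (nat_lit 8), (nat_lit 6)], (nat_lit 64), (nat_lit 0), (nat_lit 0), (nat_lit 4)⟩) (BT.node (nat_lit 91) (BT.leaf ⟨[(nat_lit 4), (nat_lit 8), (nat_lit 4), (nat_lit 8)], (nat_lit 15), (nat_lit 0), (nat_lit 0), (nat_lit 4)⟩) (BT.leaf ⟨[(nat_lit 3), (nat_lit 6), (nat_lit 7), (nat_lit 5), (nat_lit 4), (nat_lit 8), (nat_lit 3), (nat_lit 7), (nat_lit 4)], (nat_lit 212), (nat_lit 8), (nat_lit 0), (nat_lit 4)⟩))) (BT.node (nat_lit 94) (BT.node (nat_lit 93) (BT.leaf ⟨[(nat_lit 2), (nat_lit 1), (nat_lit 3), (nat_lit 5),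 (nat_lit 2), (nat_lit 1), (nat_lit 3), (nat_lit 5)], (nat_lit 33), (nat_lit 3), (nat_lit 0), (nat_lit 4)⟩) (BT.leaf ⟨[(nat_lit 3), (nat_lit 7), (nat_lit 2), (nat_lit 7)], (nat_lit 11), (nat_lit 2), (nat_lit 0), (nat_lit 4)⟩)) (BT.node (nat_lit 95) (BT.leaf ⟨[(nat_lit 3), (nat_lit 9), (nat_lit 2), (nat_lit 9)], (nat_lit 123), (nat_lit 3), (nat_lit 0), (nat_lit 4)⟩) (BT.leaf ⟨[(nat_lit 2), (nat_lit 7), (nat_lit 3), (nat_lit 7)], (nat_lit 11), (nat_lit 0), (nat_lit 0), (nat_lit 4)⟩))))) (BT.node (nat_lit 103) (BT.node (nat_lit 99) (BT.node (nat_lit 97) (BT.leaf ⟨[(nat_lit 5), (nat_lit 3), (nat_lit 6), (nat_lit 2), (nat_lit 6), (nat_lit 3), (nat_lit 6), (nat_lit 2), (nat_lit 5), (nat_lit 3), (nat_lit 6), (nat_lit 2), (nat_lit 6), (nat_lit 3), (nat_lit 6), (nat_lit 2)], (nat_lit 259), (nat_lit 2), (nat_lit 0), (nat_lit 4)⟩) (BT.node (nat_lit 98) (BT.leaf ⟨[(nat_lit 6), (nat_lit 2), (nat_lit 5), (nat_lit 3), (nat_lit 5), (nat_lit 2), (nat_lit 5), (nat_lit 3),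 (nat_lit 6), (nat_lit 2), (nat_lit 5), (nat_lit 3), (nat_lit 5), (nat_lit 2), (nat_lit 5), (nat_lit 3)], (nat_lit 119), (nat_lit 7), (nat_lit 0), (nat_lit 4)⟩) (BT.leaf ⟨[(nat_lit 6), (nat_lit 3), (nat_lit 1), (nat_lit 2), (nat_lit 4), (nat_lit 6), (nat_lit 3), (nat_lit 1), (nat_lit 8), (nat_lit 2)], (nat_lit 74), (nat_lit 8), (nat_lit 0), (nat_lit 4)⟩))) (BT.node (nat_lit 101) (BT.node (nat_lit 100) (BT.leaf ⟨[(nat_lit 5), (nat_lit 8), (nat_lit 6), (nat_lit 8), (nat_lit 7)], (nat_lit 161), (nat_lit 2), (nat_lit 0), (nat_lit 4)⟩) (BT.leaf ⟨[(nat_lit 5), (nat_lit 3), (nat_lit 4), (nat_lit 7), (nat_lit 3), (nat_lit 6), (nat_lit 2), (nat_lit 8), (nat_lit 3)], (nat_lit 203), (nat_lit 7), (nat_lit 0), (nat_lit 4)⟩)) (BT.node (nat_lit 102) (BT.leaf ⟨[(nat_lit 5), (nat_lit 4), (nat_lit 6), (nat_lit 3), (nat_lit 8), (nat_lit 2)], (nat_lit 22), (nat_lit 1), (nat_lit 0), (nat_lit 4)⟩) (BT.leaf ⟨[(nat_lit 6), (nat_lit 7), (nat_lit 4), (nat_lit 1), (nat_lit 5), (nat_lit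 2), (nat_lit 4), (nat_lit 5), (nat_lit 4), (nat_lit 6), (nat_lit 2)], (nat_lit 242), (nat_lit 7), (nat_lit 0), (nat_lit 4)⟩)))) (BT.node (nat_lit 106) (BT.node (nat_lit 104) (BT.leaf ⟨[(nat_lit 6), (nat_lit 7), (nat_lit 5), (nat_lit 7), (nat_lit 8)], (nat_lit 17), (nat_lit 3), (nat_lit 0), (nat_lit 4)⟩) (BT.node (nat_lit 105) (BT.leaf ⟨[(nat_lit 6), (nat_lit 7), (nat_lit 8), (nat_lit 5), (nat_lit 8)], (nat_lit 18), (nat_lit 2), (nat_lit 0), (nat_lit 4)⟩) (BT.leaf ⟨[(nat_lit 5), (nat_lit 7), (nat_lit 6), (nat_lit 8)], (nat_lit 13), (nat_lit 0), (nat_lit 0), (nat_lit 4)⟩))) (BT.node (nat_lit 108) (BT.node (nat_lit 107) (BT.leaf ⟨[(nat_lit 9), (nat_lit 8), (nat_lit 9), (nat_lit 8)], (nat_lit 127), (nat_lit 0), (nat_lit 0), (nat_lit 4)⟩) (BT.leaf ⟨[(nat_lit 6), (nat_lit 9), (nat_lit 5), (nat_lit 9)], (nat_lit 125), (nat_lit 3), (nat_lit 0), (nat_lit 4)⟩)) (BT.node (nat_lit 109) (BT.leaf ⟨[(nat_lit 3), (nat_lit 5), (nat_lit 2), (nat_lit 1), (nat_lit 3), (nat_lit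 5), (nat_lit 2), (nat_lit 1)], (nat_lit 33), (nat_lit 1), (nat_lit 0), (nat_lit 4)⟩) (BT.leaf ⟨[(nat_lit 0), (nat_lit 6), (nat_lit 3), (nat_lit 5), (nat_lit 10), (nat_lit 6), (nat_lit 4), (nat_lit 3), (nat_lit 9), (nat_lit 5), (nat_lit 10), (nat_lit 6), (nat_lit 2), (nat_lit 5), (nat_lit 10)], (nat_lit 134), (nat_lit 6), (nat_lit 1), (nat_lit 4)⟩))))))))
noncomputable def eDi0_hcs : List CW := [⟨[(nat_lit 1)], (nat_lit 0), (nat_lit 0), (nat_lit 0), (nat_lit 0)⟩, ⟨[(nat_lit 2)], (nat_lit 1), (nat_lit 0), (nat_lit 0), (nat_lit 0)⟩, ⟨[(nat_lit 4)], (nat_lit 2), (nat_lit 0), (nat_lit 0), (nat_lit 0)⟩, ⟨[(nat_lit 5)], (nat_lit 3), (nat_lit 0), (nat_lit 0), (nat_lit 0)⟩, ⟨[(nat_lit 7)], (nat_lit 4), (nat_lit 0), (nat_lit 0), (nat_lit 0)⟩, ⟨[(nat_lit 8)], (nat_lit 5), (nat_lit 0), (nat_lit 0), (nat_lit 0)⟩, ⟨[(nat_lit 9)], (nat_lit 6), (nat_lit 0), (nat_lit 0), (nat_lit 0)⟩, ⟨[(nat_lit 1)], (nat_lit 7), (nat_lit 0), (nat_lit 0), (nat_lit 0)⟩, ⟨[(nat_lit 3)],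 (nat_lit 8), (nat_lit 0), (nat_lit 0), (nat_lit 0)⟩, ⟨[(nat_lit 4)], (nat_lit 9), (nat_lit 0), (nat_lit 0), (nat_lit 0)⟩, ⟨[(nat_lit 6)], (nat_lit 10), (nat_lit 0), (nat_lit 0), (nat_lit 0)⟩, ⟨[(nat_lit 7)], (nat_lit 11), (nat_lit 0), (nat_lit 0), (nat_lit 0)⟩, ⟨[(nat_lit 8)], (nat_lit 12), (nat_lit 0), (nat_lit 0), (nat_lit 0)⟩, ⟨[(nat_lit 9)], (nat_lit 13), (nat_lit 0), (nat_lit 0), (nat_lit 0)⟩]
noncomputable def eDi0_H (x j : Nat) : Bx (Nat → Nat → Nat) := mkH eDi0_L eDi0_pb.1 eDi0_e.get (lmap CW.w eDi0_hcs) (nat_lit 1) (nat_lit 2) (nat_lit 11) (nat_lit 512) (nat_lit 65536) (nat_lit 32767) x (eDi0_rots.get j)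
noncomputable def eDi0_F (x b : Nat) : Bool := blkOK eDi0_H eDi0_ch (nat_lit 2) (nat_lit 512) (nat_lit 128) (nat_lit 7) (nat_lit 127) (nat_lit 23) (nat_lit 8388607) x b

theorem eDi0_k0_0 : allFrom (eDi0_F (nat_lit 0)) (nat_lit 0) (nat_lit 6) = true := by decide +kernel
theorem eDi0_k1_0 : allFrom (eDi0_F (nat_lit 1)) (nat_lit 0) (nat_lit 6) = true := by decide +kernel
theorem eDi0_k2_0 : allFrom (eDi0_F (nat_lit 2)) (nat_lit 0) (nat_lit 6) = true := by decide +kernel
theorem eDi0_k3_0 : allFrom (eDi0_F (nat_lit 3)) (nat_lit 0) (nat_lit 6) = true := by decide +kernel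
theorem eDi0_k4_0 : allFrom (eDi0_F (nat_lit 4)) (nat_lit 0) (nat_lit 6) = true := by decide +kernel
theorem eDi0_k5_0 : allFrom (eDi0_F (nat_lit 5)) (nat_lit 0) (nat_lit 6) = true := by decide +kernel
theorem eDi0_k6_0 : allFrom (eDi0_F (nat_lit 6)) (nat_lit 0) (nat_lit 6) = true := by decide +kernel
theorem eDi0_k7_0 : allFrom (eDi0_F (nat_lit 7)) (nat_lit 0) (nat_lit 6) = true := by decide +kernel
theorem eDi0_k8_0 : allFrom (eDi0_F (nat_lit 8)) (nat_lit 0) (nat_lit 6) = true := by decide +kernel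
theorem eDi0_k9_0 : allFrom (eDi0_F (nat_lit 9)) (nat_lit 0) (nat_lit 6) = true := by decide +kernel
theorem eDi0_k10_0 : allFrom (eDi0_F (nat_lit 10)) (nat_lit 0) (nat_lit 6) = true := by decide +kernel

noncomputable def eDi1_c0 : BT (Bx Nat) := (BT.node (nat_lit 1) (BT.leaf (Bx.mk (nat_lit 0x44190800000000000000000000000000000000000000000000000000000000000000000000000000000000000000000000000000000000000000000000000000000000000000000080327000000000000000000000000000000000000000000000000000000000000000000000000000000000000000000000000000000003819080000000000000000000000000000000000000000000000000000000000000001c188400000000000000000000000000000000000000000000008031080000000000000000000000000000000000000000000000000000000000000000000000000000000000000000000000000000000000000000000000000000000000003030880000000000000000028308800000000000000000000000000000000000000000000000000000000000000028304800000000000000000000000000000000000000002030280000000000000000018301800000040c0404180400000000000)))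 (BT.node (nat_lit 2) (BT.leaf (Bx.mk (nat_lit 0x220dd4000000783741006e7000000481b948037200000000000000000000000000000000000000000703428f06da1a0d2c281a1c00000000000000000000000000000c0696180c8234190400000000000000000000000000000000000000000000006036d0c06a7000000281a1c703538000000000000000000000000000000000000000000000000000000000481a1c00000100685000000000000000000000000000000000000000000000000000000000000000000000220d4e0000000000000000000000000000000000000000200d34000000000000000000000000000008834b1006950000000000000000000000000000000000000000000000160d0e00000000000000000000000000000000000000000000000000000000000000000000000000000000000000000000301a1c78343000000000000000000000000000000000000000000000000000000000000000000000000000120d0a0000004032100000000000000000000000000000))) (BT.leaf (Bx.mk (nat_lit 0x100711200e202c1a1c803870000000000004f43788836e9106dc000000401bc08036c800000000000000000683428e06dd1c0dde0000007037300000000000000000000000000000240de4401bc4803781006fd1e0ddc00000000000000000)))))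
noncomputable def eDi1_c1 : BT (Bx Nat) := (BT.node (nat_lit 1) (BT.leaf (Bx.mk (nat_lit 0x1607332680834ca0ba000000000000000004ea48ca59944000000000004ecca8cd99a1a2927b3666a000000a5c914000002b6a4868a484c941c1a292200000054fcb80000015282f288082701cb6b601fd6c03cb80e58000000adf1953c03da950676ea0c6b601e800000375060000000a6020144036a65073701c8eaa01bd4283b00000066a0e2e1c9040000000000074e486000000000002a506c6ea0a69941dd4283733506972a096cd41adba8270000005c3c5600000170f1cae2c305c3c5e00000000000352c346a3c66d8b089b0f10b4503868a06ed8b099b0f128000005aa076e8b0a9d0f14800000000000e540b9ca816ba2c24743c46d540c9aa818b9502872a04ed540d9aa81ab06a1660d43ac1a8617a80fb7521a70cc22d94071c3309af501e789c2abd4081da80bbc60126ea032ed4051ba80db82c0c703c16e8b029d0f048000006ea01ee54039ca806ba5206789c0ae54021da803bd2c047a3c06f8380a00300800000))) (BT.node (nat_lit 2) (BT.leaf (Bx.mk (nat_lit 0x1039799e8119000000a5445d3bf7780000000000000000000000000000000000a54468000000000000000007e04540000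01f511442e5c0914448f3f6fa781086cfdba000001a076db15304000000000000000002050eb3aa1d2bd441daa873af510e66a1ca72043400000251ed14e1d709cb2dd38f5b2c2cb4583d6600000000000262caa4c3d52b0b29d60f532c2cb1583d60947a353874da72c9a4e3d32c87a5d8965eb11ebc000000a4b27548f4e00000064590ec87a18000003050c400000000000150f562650d74ca1ac00000198f4a2b50d40000000000015a866000000605930000000000002950b90000000000000000000000056a19cad43340000000000000000000000000000000000000000000001428610000004ca1929943200000000000062a18cd8b215b0f42000000703d1000000000000000000000000000001228650000000000000000000000000000062a17e000001aa84b35509500000000000000000285056))) (BT.leaf (Bx.mk (nat_lit 0x1f0f260000000000019169180000000000000000000000000000000000947c012877f80000000000000000000000000000000000a83bc8ea87e1f811d541df4000000f28772052ec000000943ba800000000000000000c19b70000000000004e1dda00000000000000000601dbc60b43cd8f7300000064e5b200000000000000000)))))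
noncomputable def eDi1_c2 : BT (Bx Nat) := (BT.node (nat_lit 1) (BT.leaf (Bx.mk (nat_lit 0xfcf8e4000000000007e7c70f4f9dc000000000007a7ce8000001f9f1abd3e717e7c68000001f9f198000007e7c64f4f9adf9f18bd3e69000000f4fae1f9f17bd3e657a7d64fcf8b8000000000007a7d56fcf8b1e9f2f3f3e2b7a7d4afcf8a9e9f2d000000000000f4f95df9f143d3e557a7d36fcf89de9f290000007e7c4cf4f93c000003f3e25000000000001f9f12000000000000fcf88c000003f3e22000000fcf885e9f21400282000001000a020013f0000008004f60000020013cc002768004e70009ca0013840026e8004d90009aa001340000008004c90009840000040025d0000010009660012b4002548004a300093a00125c0024880048b00090e001208000007a7c40000001e9f0f3f3e0e000000fcf835e9f0d3f3e0c7a7c30fcf82c000003f3e0a7a7c28fcf825e9f0940021f80043b00086e0010cc0021780042b00084e00108bf3e047a7c10fcf80de9f0340020780040af8400a00300800000))) (BT.node (nat_lit 2) (BT.leaf (Bx.mk (nat_lit 0xfcfadde9f7f3f3eb300000000000000000000000000000fcfab5e9f7b000000000000000000000000000007e7d46000001e9f963f3e9d7a7dd8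000001f9f4d0000007e7d2e000000000003f3e96000000000001f9f468000007e7d16000001f9f43bd3edd000000fcfa1400000000000000001000c7c000001fb69980063a8a832e0018d800000000001000c600000040031500000000000000000400310000001000c3800000000000000001000c280000040030880060a00000119f62c00303000001000c0594f580000008005fa9eaaa8000003d9a8c0000000000020017c31a086000000f8417e0017a80000000000084fb4200179be105b8005e0000001d9f540000008005dcf6427c0000021b093000000a262be00175a9b6cd000001000ba0000000000008005cd000b8d41f4a8000000000000000000000000000000000088fa9a00170000000000000000000000000000008005b8c28ae60016ca53ebd00000000000000000000000))) (BT.leaf (Bx.mk (nat_lit 0x287e5000000000000143f2a000000000000000000000007a7e40000001e9f8f3f3ed100000000000000000000000000000000001e9f8b000000000000000001f9f640000007e7d8cf4fc3c0000000000000000000000000000000000000000000001e9f833f3ebc00000000000000000000000)))))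
noncomputable def eDi1_c3 : BT (Bx Nat) := (BT.node (nat_lit 1) (BT.leaf (Bx.mk (nat_lit 0xfc48f400000000000000000000001f891c8000007c80ecfc48e0000003e40737e246efc48d9f20383f1235000000fc48d0000003f12337c80d4fc48c9f20343f1231000000000001f20323f122f000000f90185f89170000007a255cf90175f89160000007a2550f90165f89150000007c80acfc48a5f202a3f1228000000f90145f89138000007c809cfc4898000000000007e244a000000000003f1224000000f90115f8911be40437e2444f90105f8910c00283000001000a060013f8000008004f80000020013d4002778004e800000200138c0026f8004db0009ae00134c002678004cb0009880000040025e8004b900096a0012bc002558004a500093e0012640024980048d000912001213e401f7e2420f90075f8907be401b7e241cf90065f8906be40177e2418f90055f8905be40137e2414f90045f8904c0022080043d0008720010d40021880042d000852001093e40077e2408f90015f8901c0020880040cf44809f8400800000))) (BT.node (nat_lit 2) (BT.leaf (Bx.mk (nat_lit 0xf903f5f895b800000000000000000000003f12b1000000f903d5f89568000007e2552000000000003f12a7000000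fc4a8c000003e40eb7e253a000000000003f129a000000fc4a5c000000000007e252c000001f20703f128d000000000001f206e3f1287000000f90365f8942800000000001000c800000000000080063c0000020018e22b2aa000001000c654094e4003164225a5000c51f473c400311000001000c3d2205ec0030d0000000000000000040030980060c00000135942400304000001000c09789433e8e668005fc000000000000000008005f8fa398e0017c8000000000000000020017b0000007d1cbe984ada0017a3c8ea58005e28e9a39f472da8a4ac8005de0000011c947800000000000000002001760000007d1ca7000ba4000000000008005cf000b914d44aaa8a924025400000000000000000000000000000200170bc12b48005be0000000000022ae918005ba0000020016d25b4c500000000000000000000000))) (BT.leaf (Bx.mk (nat_lit 0x3e8eed000000562c9000000158b27000000fa3b8800000000000000000000000000003e411f7e25acf90475f89698000007e25a200000000000000000000000f90455f8966000000000000000000000003f12c87c821cfc4b1800000000000000000000000000003f12c0000000f90415f895fbe41037e257800000000000000000)))))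
noncomputable def eDi1_c4 : BT (Bx Nat) := (BT.node (nat_lit 1) (BT.leaf (Bx.mk (nat_lit 0x5a84fc000000000002e42455cd08cb509e40000028185b5684d4ada1ad70c3a800000000000000001b21383544715684c2ada1880000034685c0000000000019a134000000000000000001aa128b568525c30be000000000000000005a88c6b509396b42780000000000000000000000000000000000000001aa121b568446a30a6d11191a2232800000000000b111780000038424b000000000000000002544815c308eb511ec000003444546888aad50905a22212a6e2a604c6ea1b8917371ea94436604c46b1b8c17371c8000005e887ea9c0f1b931aad6e2e6c4c56b1c0e1a3718ab443a6e4c4eb110d1ab716af32266a8866a51101a9314b732226c885eb910b1c9312a7443e5e8876d910a1b1310b2421364d028ed0874000003642176cd030ed08640000035441b6a8838dd0855b220b000000628840e50845c2209000000784c1ee0c831e1306b7440e704c16cd7041d1304bb4207748810ed0815d22033c3204784c06f8600a00300800000))) (BT.node (nat_lit 2) (BT.leaf (Bx.mk (nat_lit 0x4631e4000000000000000000000007c6378000000000004831b69d0ba13b474b042f35e89e88913fc00000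2245166685dc000001122892842e350d1c88dbc1c000000000000000000000010b78d000000000000000000000000000000000007913e8f228f9e45200000008d14140000020ac97000000000000000000000000000000000011376980000000000089bb2000000000000548908a49acc000002144ce0000009c9a3400000000000000000000000000002a6ec04cdd0a0000011d6692bacbc4a651400000199343000000515984c89a6400000000000000000b112b94d65d3226b0000000b50ac94994d3326a60000000000018b754a742c94959980000000000025328e684d46000000000000000000000000000015194b000000000000a112b58a25b0000003e89b0a512740000000000000000000000000000000000000000911291322630000000000009112ec000003526884159acc912e52a25fab6ecb5084b200000132124266849))) (BT.leaf (Bx.mk (nat_lit 0x1f42dc3ed1ba850c6d0b48e000000000000811395021882069110000008d0bc0000000000000000008c63b4000000000004a85c095a384000000000000000009da3f94a1842845094489d4910b652346d2a4303000000a10be000000000000)))))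
noncomputable def eDi1_c5 : BT (Bx Nat) := (BT.node (nat_lit 1) (BT.leaf (Bx.mk (nat_lit 0x8005a6000000000004002d180059f000b3600165800000800595000b1d93a2f800000000000000002001634002c4800583000b000000000000080057d000af000000000000000000b1d12a0015cc002b680056b000ace00158000000000001000ab200154800000000001000a9a00151b2745000000000000200150000000000001000a720014cc0029880052f000a5400000000000800527000a4a0014840028f000001000a3600145c00289800511000a1a0014200000000000000000000000000000000000fca074000000000007a5070000001e941b3f281a7a5068000001e94193f28187a5060fca05de94173f28167a5058fca055e94153f28147a5050fca04de94133f28127a5048fca045e941140023f80047b0008ee0011cc0023780046b0008ce00118c0022f80045b0008ae00114c0022780044b00088e00110bf28087a5020fca01c000003f28067a5018fca015e940540020f80041b00082e00104bf28027a500900080e00300800000))) (BT.node (nat_lit 2) (BT.leaf (Bx.mk (nat_lit 0xde38c800000000000000000ee073000000000000000000000001cbef800000000000000000000000398e0a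000000000000000003f71c7000ca800000000000000000000002001941d28e700000000000000000000000000001000c90000001bc7160000000000000000000000080064400000000000000000000000000001e9469000000000000fca1e80000000000000000000000200189bf2876000000000000000003d28c580061800000000000000000000000000001f9435000000000000000000000004003007e50c8f4a2dc000003f2862000001000bedf9430bd28b1000000000001f942f3d28ad000000fca175e94550000007e50b4f4a29c000003f28597a5148000001f942b0000007e50a8000001f94293d289d000000fca145e944d318858000000fca139e944b3f284d000000ae2199f9424800000000000fca119e94473f28457a5118fca111e94450000007e5084f4a21df9420bd28858005b1000b5400000000000))) (BT.leaf (Bx.mk (nat_lit 0x7e51c4000000000003d29257e51b6000000000000000000000006b1c7c00000000000000000000000000001dc6f00000000000000000000000000000000000000000000000378db400000000000000000000000000000000000000000000006afc34000001dc4dd000000000000ee176000000)))))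
noncomputable def eDi1_c6 : BT (Bx Nat) := (BT.node (nat_lit 1) (BT.leaf (Bx.mk (nat_lit 0x8005a8000000000004002d28005a1000b3a00166000000000001000b2000000000000000000000000000004002c58005840000000000000000080057f000af4000004002bb0000000000020015d4002b7000001000ad200158c002af6238eb000ab6001550000006aec9b000a9e00152000000800545000a840000040029f80053d000a760014d000000000001000a5a0014a000000000000ac719a00148800000000001000a3a0014640028a000001000a1e00142be2a3f7e3840f8a8f5f8e0fbe2a3b7e383cf8a8e5f8e0ebe2a377e3838f8a8d5f8e0dbe2a337e3834f8a8c5f8e0cbe2a2f7e3830f8a8b5f8e0bbe2a2b7e382cf8a8a5f8e0abe2a277e3828f8a895f8e09be2a237e3824f8a885f8e08c0024080047d0008f20011d40023880046d0008d20011940023080045d0008b20011540022880044d000892001113e2a0f7e3810000001f8e03be2a0b7e380cf8a825f8e02c0021080041d000832001053e2a037e3805000811f8500800000))) (BT.node (nat_lit 2) (BT.leaf (Bx.mk (nat_lit 0x732c54000000000007e3964000000000001b1cf4000000000000ede70800000000000000000000001c1d18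000000000000000001c1d01000001000cace64848000003d75c87073e6001948000003c39d7000c9c00000000000000001000c94e0e8200000080064668743c00000000000000000f8ab55f8e413e2ad37e38fef8ab45f8e3e3e2acf7e38f6f8ab35f8e3d3e2acb7e38f2000000000003e2ac77e38ecfc71c5f15623f1c70000000f8ab05f8e378000007c557cfc71adf155e3f1c6a000000f8aae5f8e328000007c556cfc7191f8e318000007e38c4000001f15583f1c61000000000001f15563f1c5e000000f8aaa5f8e2e8000007c554cfc7168000003e2aa37e38b2000000000003f1c55000000000001f154e3f1c52000000f8aa65f8e288000007e389ef8aa55f8e27342a5b000000fc7129f15483f1c497e3890f8aa35f8e233e2a8b7e388af8aa25f8e223f1c437c550cfc7109f15423f1c41000001000b5800000000000))) (BT.leaf (Bx.mk (nat_lit 0x7c5654fc73a9f15943f1ce5000000000001f15923f1cde000000fc735c00000000000323a3c00000000000000000000000000000d0e7e800000000000687370000000000007e399200000000000000000000000000000c8e833f1cc30000007b2b6400000000000000000000000d8e77800000000000000000000003f1cb8)))))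
noncomputable def eDi1_c7 : BT (Bx Nat) := (BT.node (nat_lit 1) (BT.leaf (Bx.mk (nat_lit 0x5c8ce2b8e1c0000002e46465c708ab9190971c20800000000000a5b2080000000000000000000000000000000000608cbcc0e1759232e0000005e8cb4bce16400000343856608caad4514daa329353851000000c1193d81c27000000000000bdb1bc00000000000000000b9b1ad73635000000000000cdb1a000000000000000000d1b195a36320000005ed8c4bdb1840000000000000000000000000000000000000000b5b1f16b63d800000000000b5b1e96b63caa6c3860406e0000018101a800000604046b1b08981010ab2040000000ac80f97b61e800000684056000001b1014b06c286e404ec1b099b9012b1203466d866c080c9ab618b120306cd85ec480b9b3616ab203c5ed876b480e97b61c800000000000000001b9c0e800000000000ed18680000034461868702ed91859b1c0a800000000000dd1849b9c08b4201070401e000001e1006b5200c6e4016000001c1004b9460872700eed1819d9c02ba2004784006f8500a00300800000))) (BT.node (nat_lit 2) (BT.leaf (Bx.mk (nat_lit 0x95b418000003146ef6271dc8db42c00000236d0a60d9e8c1b3cc0000000000044da30a4536d4a36d2938d9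00000000000113689000000000000000000000000000000000000000017368100000050d9d4a1b3a5436742620970000008db2c40000000000046411a808351310630000000000000000015105ca76cb7584132a482cc00000236c9600000095b3451906827208b5c295c0000016105f2c20bc4cd95a000000000002b6cc000000000000000000000000504198cc82100000000000050d9940000012106b0000000000000000013905fb320a6000000b082f5990518000004a41840000000000000000064d95200000000000000000000000000001210673320860000000000015b6658000000000009083200000000000000000000000000000352089684110000001136698000004cd98800000000000000000604174c9b2715104d326cb6548ceea8e1d8000002a3872))) (BT.leaf (Bx.mk (nat_lit 0x4671f000000109c7024470f48721c8c53b51a3762338eb0000009d1bf939c7ea746fc4841f68c53951a3722338e30000000000012a36f8000004829e490e3c1523822a39034c29ee991bd931c7a800000000000bd1b7579c6e000000)))))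
noncomputable def eDi1_c8 : BT (Bx Nat) := (BT.node (nat_lit 1) (BT.leaf (Bx.mk (nat_lit 0x9589ec000002662714d04fc00000163128800000000000000000000002b64694ac4ac0000013a53e276245000000000000000000000005b04deb609b800000000000000000b1894d5a53d3362415ab0c6a929dd5253b0000005894bed59169a9e2cad644c5cf4b6d18979a312e8000000000009a11cd2a540a54a805a34ccd591096c13c8000004e9506000000000000000005894d8000001bb222363c430000009129fd42c383662496ac490d18949a253200000058c46e0000016311a80000058c446d8b8e9731108000005ab07e0000016ac1e80000064c4560000018b11480000064c44eccb8b993112b52e2c664866d4b8a992c1880000066485e000001992168000005ab076d8b8897921c80000000000000000191e08b14a2062943e000001b310ab96414727826d52869bac0cb8621870c42ec528798b10eb82e106ab01ee0b838000000000006c4816e8b829b9204b94a087a780ee12819c9e02bd2e04764806f4680a00300800000))) (BT.node (nat_lit 2) (BT.leaf (Bx.mk (nat_lit 0x4095d4cd93b183180800000000000746b94000002496f5000000958b90000001d4b1e3f0636818c1c00000228310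46c9c2852c38000003262fe6679d00000011a5813262eb00000000000000000264af64c9614000001131779e63080000007d64699b26d26831538b22ec98b74fa58c000000000000a0bb212b15800000042c5a2b0ba391416980000048c588b0ba1d2b14e2c2e8552c56c000001325590000004ac52a963234000002558cf000000b8bab5331530000005a5d4ea18ab1697522d9ca9645d42ccba758ce43000000665d34aa0b2c0000000000042b1b0958b257174b2658d5000000a58aa0000002958be56c54a0000016315e2a96ae0000009e0b0564a55ac62bd000000000000000000000000000000000019315d2658cd000000c98add5c64200000046b194b58ac532c63800000000000000000000000000000000000000012316300000000000000000000000000000000000c18ae55b1660000000000000000012312a800000))) (BT.leaf (Bx.mk (nat_lit 0x3ac60a000000c31819a63043cc5e6798b78f318b1e62d936c5b67d2c652b16e0000000000000000010b1832162f038c612818bb8dac73800000000000000000ea5879f58e04235e48a0c44f258f9b831c32963a898ba58cb7e800000)))))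
noncomputable def eDi1_c9 : BT (Bx Nat) := (BT.node (nat_lit 1) (BT.leaf (Bx.mk (nat_lit 0xd4594c00000000000602ca00000000000035164d00000000000000000000000000000e121680000000000000000000000000000000000000000000000000002f7863000000000001a3c3000000000000000000000000000000570cfa00000000000000000000000000001c1d20800000000000000000000000000000000000000000000000000072446e000000000000000000000000000000000000000072445e00000000000000000000000e4c0a9c911480000072444ee4c099c9112800000724446000001c9110800000000000000000000003a481c000000000000000003a4818000000000001d1d0aba4814747426e92049d1d08800000000000ecc038000003b300c764416ecc029d910480000078740ef12019e1d02bd30047a4406f8580a00300800000))) (BT.node (nat_lit 2) (BT.leaf (Bx.mk (nat_lit 0x34f22e00000000000000000000000661c8400000000000000000000000000000000000000000000000000000000000000000000000000000000000000a45b6c0000000000000000000000000000000000000000000000000000000000000000000000000000000050f1d400000000000000000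0000000000000000000000000000000000000000000000000000000000000000000000000000000012c36b8000000000000000000000000000000000000000000000000000000000000000000000000000000000000000000033789b000000000000000000000000000000000000000000000066612800000000000000000000000000000000000000006e614e0000000000000000000000000000000000000000000000a8c248000000000006875700000000000000000000000000000000000000000000000a5e278000000000000000000000000000000000000000000000000000000000000000000001b984280000000000000000000000000000))) (BT.leaf (Bx.mk (nat_lit 0x4e62460000000000000000000000000000000000000000000000908c4cc3c7d00000000000000000000000000000000000000000000000000003799fe000000000000000000000000000000000000000000000000000000000000000482de4000000000000000000000000000000000000000000000000000000000000000)))))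
noncomputable def eDi1_c10 : BT (Bx Nat) := (BT.node (nat_lit 1) (BT.leaf (Bx.mk (nat_lit 0x3f3638000001000b25f9b1b800000000000000000000000000008005860000000000000000000000000000000000000000000000fcd8bc000004002b87e6c5c000002001590000007e6c59000aba001558000007e6c55000aa200152bf3629000000000000000000000007e6c4e0000020014dbf3626000000000001f9b12800000000000fcd890000000000007e6c460000000000000000000000000000000000000000000000000000000000000008004fa000000000004002788004ea00000000000000000000000000000000000000008004cd00098e0013040025f00000100096e0012c0000008004a700094200126c0024a80048e00000000000000000000000000001aa60e80000000000000000000000000000000000e57858000000000006e9826e57848000000000006cb41e0000000000000000074ac16e0d029d2a0480000074980a000001c9b03bc3403766c08fc300600201000000))) (BT.node (nat_lit 2) (BT.leaf (Bx.mk (nat_lit 0x7e6d6e000000000000000002d9e56fcdac4000000000007e6d5a00000000000000000000000fcda9c00000000000000000000001f9b4e800000800658fcda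6800000000000000000000001f9b4b000000000000fcda3400000400326000000fcda1c000000000007e6d0a000000000000000007e6d05000c840000000000000000000000000000000000000001000c680000040031700000000000000000400312000000000000000000000007e6cdf000c2c0000000000080060e00000000000000000000000000000000003f36648005fe000000000000000000000000000020017d0000004e9928fcd97a0017b800000000000000000000000000008005e4000001f9b2c80000000000000000000000000000000000a8d24a001768000007e6ca3000ba800000255ab5000001000b94000002636af000000a4da780000000000000000000000200171000000000000000000000000000008005bc0000020016d800000000001000b5c00000000000))) (BT.leaf (Bx.mk (nat_lit 0xfcdb80e9a860000002e6a440000000000000000000000000000000000000000000000fcdb3800000000000000000000000000000000000000000000000000000000000000000000000000000000000000000000000000000007e6d7e0000000000000000000000000000000000165b29)))))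
noncomputable def eDi1_p : BT (Bx Nat) := (BT.node (nat_lit 1) (BT.leaf (Bx.mk (nat_lit 0x71e86e3d09c76538ec371d84e390dc72138e0a71c06e3809c6e538dc371b84e3609c6a1b8d4271a06e3409c661b8cc271906e3209c621b8c4271806e2f29c5e1b8bc271714e2e0dc5c138b4a71614e2c0dc58138ac371514e2a0dc54138a4a71486e2909c501b8a0271394e270dc4e13898a71306e2609c4a53894371284e2429c481b890271194e230dc4613888371104e210dc421308066100ac1f1983e2b078660f0ac1d1983a2b070660e0ac1b198362b068660d0ac19198322b060660c0ac171982e2b058660b0ac151982a2b050660a0ac13198262b04866090ac11198222a840350804a0f0d41e12838350704a0d0d41a12830350604a0b0d41612828350504a090d4121202064040a8071900e2a01864030a8051900a298103302046030cc061100862010a20128000000000))) (BT.node (nat_lit 2) (BT.leaf (Bx.mk (nat_lit 0x95b952b70e56e14acc39590b2b12a5621cac42956952ad0e55a14aa43954852a72a54e1ca9c2951872a30a53a54a74394e8529a2a5341ca68294b872970a52c54a58394b0528d2a51a1ca342945872872a50e1ca1c2942952850e50a1420c5841150821a1042c1fc683f8b07c1a0f82c1ec683d8b07a1a0f42c1e4683c8b077160ec541d8683b0b071160e0341c058379506f1a0de2c1b858358d06b160d4341a858340d0651a0ca2c190a8320d064160c62c18868310b0612a0c23418458300d05e2a0bc34178582e9505d1a0ba2c168a82d0d05a160b254164682c8b0571a0ac34154582a0d0531a0a4341485828950511a0a22c14058278b04e1a09c2c13468258b04a160923412458240b0461a08c2c11468228b0441a0882c10c58210d0421608234104572006e4009c7c1b8f82)))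 (BT.leaf (Bx.mk (nat_lit 0x53acaa750d4ea169ca353945a710d4e02a9bc353785a6d8d2d7165ac54b58396b052d30e5a614b443968852ce2a59c1cb382966152cc0e59814b2839648b2c82a5901cb202963072c60a5881cb0c5961152c20a5801cb00295f952bf0e57e14af0395e052ba0e57414ae05)))))
noncomputable def eDi1_e0 : BT Nat := (BT.node (nat_lit 13952) (BT.node (nat_lit 4224) (BT.node (nat_lit 128) (BT.node (nat_lit 69) (BT.node (nat_lit 66) (BT.leaf (nat_lit 2)) (BT.node (nat_lit 68) (BT.leaf (nat_lit 262146)) (BT.leaf (nat_lit 524290)))) (BT.node (nat_lit 72) (BT.node (nat_lit 71) (BT.leaf (nat_lit 786434)) (BT.leaf (nat_lit 1048578))) (BT.node (nat_lit 73) (BT.leaf (nat_lit 1310722)) (BT.leaf (nat_lit 1572866))))) (BT.node (nat_lit 1088) (BT.node (nat_lit 320) (BT.node (nat_lit 192) (BT.leaf (nat_lit 7465)) (BT.leaf (nat_lit 14617))) (BT.node (nat_lit 576) (BT.leaf (nat_lit 14605)) (BT.leaf (nat_lit 61465)))) (BT.node (nat_lit 2112) (BT.node (nat_lit 1856) (BT.leaf (nat_lit 66573)) (BT.leaf (nat_lit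 73505))) (BT.node (nat_lit 3648) (BT.leaf (nat_lit 73497)) (BT.leaf (nat_lit 31241)))))) (BT.node (nat_lit 10688) (BT.node (nat_lit 8512) (BT.node (nat_lit 6208) (BT.node (nat_lit 4992) (BT.leaf (nat_lit 73481)) (BT.leaf (nat_lit 45081))) (BT.node (nat_lit 7808) (BT.leaf (nat_lit 45333)) (BT.leaf (nat_lit 52757)))) (BT.node (nat_lit 9536) (BT.node (nat_lit 8640) (BT.leaf (nat_lit 64517)) (BT.leaf (nat_lit 70925))) (BT.node (nat_lit 9600) (BT.leaf (nat_lit 45065)) (BT.leaf (nat_lit 45077))))) (BT.node (nat_lit 12224) (BT.node (nat_lit 11328) (BT.node (nat_lit 11264) (BT.leaf (nat_lit 71193)) (BT.leaf (nat_lit 45337))) (BT.node (nat_lit 11712) (BT.leaf (nat_lit 64041)) (BT.leaf (nat_lit 65321)))) (BT.node (nat_lit 13184) (BT.node (nat_lit 13056) (BT.leaf (nat_lit 67369)) (BT.leaf (nat_lit 48913))) (BT.node (nat_lit 13888) (BT.leaf (nat_lit 72233)) (BT.leaf (nat_lit 66829))))))) (BT.node (nat_lit 16640) (BT.node (nat_lit 15360) (BT.node (nat_lit 14784) (BT.node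 (nat_lit 14144) (BT.node (nat_lit 14080) (BT.leaf (nat_lit 70921)) (BT.leaf (nat_lit 73745))) (BT.node (nat_lit 14720) (BT.leaf (nat_lit 73741)) (BT.leaf (nat_lit 67093)))) (BT.node (nat_lit 15232) (BT.node (nat_lit 14848) (BT.leaf (nat_lit 63765)) (BT.leaf (nat_lit 63749))) (BT.node (nat_lit 15296) (BT.leaf (nat_lit 70917)) (BT.leaf (nat_lit 67077))))) (BT.node (nat_lit 16128) (BT.node (nat_lit 15936) (BT.node (nat_lit 15424) (BT.leaf (nat_lit 71969)) (BT.leaf (nat_lit 66825))) (BT.node (nat_lit 16000) (BT.leaf (nat_lit 45325)) (BT.leaf (nat_lit 72209)))) (BT.node (nat_lit 16320) (BT.node (nat_lit 16192) (BT.leaf (nat_lit 71941)) (BT.leaf (nat_lit 46857))) (BT.node (nat_lit 16576) (BT.leaf (nat_lit 67345)) (BT.leaf (nat_lit 72993)))))) (BT.node (nat_lit 17728) (BT.node (nat_lit 17216) (BT.node (nat_lit 16768) (BT.node (nat_lit 16704) (BT.leaf (nat_lit 71961)) (BT.leaf (nat_lit 48905))) (BT.node (nat_lit 16832) (BT.leaf (nat_lit 48909)) (BT.leaf (nat_lit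 72197)))) (BT.node (nat_lit 17408) (BT.node (nat_lit 17344) (BT.leaf (nat_lit 66821)) (BT.leaf (nat_lit 66841))) (BT.node (nat_lit 17472) (BT.leaf (nat_lit 66849)) (BT.leaf (nat_lit 67105))))) (BT.node (nat_lit 18240) (BT.node (nat_lit 17920) (BT.node (nat_lit 17792) (BT.leaf (nat_lit 71713)) (BT.leaf (nat_lit 71701))) (BT.node (nat_lit 17984) (BT.leaf (nat_lit 52745)) (BT.leaf (nat_lit 52749)))) (BT.node (nat_lit 18368) (BT.node (nat_lit 18304) (BT.leaf (nat_lit 71685)) (BT.leaf (nat_lit 72969))) (BT.node (nat_lit 18432) (BT.leaf (nat_lit 71953)) (BT.leaf (nat_lit 71697))))))))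
noncomputable def eDi1_e : BT Nat := eDi1_e0
noncomputable def eDi1_cols : List (BT (Bx Nat)) := [eDi1_c0, eDi1_c1, eDi1_c2, eDi1_c3, eDi1_c4, eDi1_c5, eDi1_c6, eDi1_c7, eDi1_c8, eDi1_c9, eDi1_c10]
noncomputable def eDi1_ch (x j : Nat) : Bx Nat := chunkG eDi1_cols (nat_lit 3) x j
noncomputable def eDi1_L (x : Nat) : Bx (Nat → Nat) := lookG eDi1_ch (nat_lit 7) (nat_lit 127) (nat_lit 23) (nat_lit 8388607) x
noncomputable def eDi1_pc (_ j : Nat) : Bx Nat := eDi1_p.get j
noncomputable def eDi1_pb : Bx (Nat → Nat) := lookG eDi1_pc (nat_lit 7) (nat_lit 127) (nat_lit 19) (nat_lit 524287) (nat_lit 0)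
noncomputable def eDi1_rots : BT CW := (BT.node (nat_lit 52) (BT.node (nat_lit 26) (BT.node (nat_lit 13) (BT.node (nat_lit 6) (BT.node (nat_lit 3) (BT.node (nat_lit 1) (BT.leaf ⟨[], (nat_lit 1000000), (nat_lit 0), (nat_lit 0), (nat_lit 0)⟩) (BT.node (nat_lit 2) (BT.leaf ⟨[], (nat_lit 1000000), (nat_lit 0), (nat_lit 0), (nat_lit 1)⟩) (BT.leaf ⟨[], (nat_lit 1000000), (nat_lit 0), (nat_lit 0), (nat_lit 2)⟩))) (BT.node (nat_lit 4) (BT.leaf ⟨[(nat_lit 3), (nat_lit 2)], (nat_lit 141), (nat_lit 1), (nat_lit 0), (nat_lit 3)⟩) (BT.node (nat_lit 5) (BT.leaf ⟨[(nat_lit 6), (nat_lit 5)], (nat_lit 139), (nat_lit 1), (nat_lit 0), (nat_lit 3)⟩) (BT.leaf ⟨[(nat_lit 10), (nat_lit 10)], (nat_lit 121), (nat_lit 0), (nat_lit 0), (nat_lit 3)⟩)))) (BT.node (nat_lit 9) (BT.node (nat_lit 7) (BT.leaf ⟨[(nat_lit 1), (nat_lit 10), (nat_lit 1), (nat_lit 10)], (nat_lit 129), (nat_lit 1), (nat_lit 0), (nat_lit 4)⟩) (BT.node (nat_lit 8) (BT.leaf ⟨[(nat_lit 2), (nat_lit 10), (nat_lit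 3), (nat_lit 10)], (nat_lit 130), (nat_lit 1), (nat_lit 0), (nat_lit 4)⟩) (BT.leaf ⟨[(nat_lit 3), (nat_lit 2)], (nat_lit 141), (nat_lit 1), (nat_lit 0), (nat_lit 4)⟩))) (BT.node (nat_lit 11) (BT.node (nat_lit 10) (BT.leaf ⟨[(nat_lit 7), (nat_lit 10), (nat_lit 7), (nat_lit 10)], (nat_lit 131), (nat_lit 1), (nat_lit 0), (nat_lit 4)⟩) (BT.leaf ⟨[(nat_lit 9), (nat_lit 10), (nat_lit 9), (nat_lit 7), (nat_lit 10)], (nat_lit 128), (nat_lit 1), (nat_lit 0), (nat_lit 4)⟩)) (BT.node (nat_lit 12) (BT.leaf ⟨[(nat_lit 4), (nat_lit 10), (nat_lit 4), (nat_lit 7), (nat_lit 10)], (nat_lit 132), (nat_lit 1), (nat_lit 0), (nat_lit 4)⟩) (BT.leaf ⟨[(nat_lit 8), (nat_lit 7), (nat_lit 1), (nat_lit 4), (nat_lit 1), (nat_lit 4)], (nat_lit 20), (nat_lit 4), (nat_lit 0), (nat_lit 4)⟩))))) (BT.node (nat_lit 19) (BT.node (nat_lit 16) (BT.node (nat_lit 14) (BT.leaf ⟨[(nat_lit 6), (nat_lit 5)], (nat_lit 139), (nat_lit 1), (nat_lit 0), (nat_lit 4)⟩) (BT.node (nat_lit 15) (BT.leaf ⟨[(nat_lit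 1), (nat_lit 6), (nat_lit 1), (nat_lit 5)], (nat_lit 9), (nat_lit 2), (nat_lit 0), (nat_lit 4)⟩) (BT.leaf ⟨[(nat_lit 7), (nat_lit 6), (nat_lit 8), (nat_lit 5)], (nat_lit 13), (nat_lit 1), (nat_lit 0), (nat_lit 4)⟩))) (BT.node (nat_lit 17) (BT.leaf ⟨[(nat_lit 9), (nat_lit 6), (nat_lit 9), (nat_lit 5)], (nat_lit 125), (nat_lit 2), (nat_lit 0), (nat_lit 4)⟩) (BT.node (nat_lit 18) (BT.leaf ⟨[(nat_lit 8), (nat_lit 6), (nat_lit 7), (nat_lit 5), (nat_lit 7)], (nat_lit 17), (nat_lit 2), (nat_lit 0), (nat_lit 4)⟩) (BT.leaf ⟨[(nat_lit 4), (nat_lit 6), (nat_lit 3), (nat_lit 8), (nat_lit 2), (nat_lit 5)], (nat_lit 22), (nat_lit 2), (nat_lit 0), (nat_lit 4)⟩)))) (BT.node (nat_lit 22) (BT.node (nat_lit 20) (BT.leaf ⟨[(nat_lit 5), (nat_lit 6)], (nat_lit 139), (nat_lit 0), (nat_lit 0), (nat_lit 4)⟩) (BT.node (nat_lit 21) (BT.leaf ⟨[(nat_lit 6), (nat_lit 6), (nat_lit 6)], (nat_lit 148), (nat_lit 0), (nat_lit 0), (nat_lit 4)⟩) (BT.leaf ⟨[(nat_lit 1), (nat_lit 5), (nat_lit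 1), (nat_lit 6)], (nat_lit 9), (nat_lit 0), (nat_lit 0), (nat_lit 4)⟩))) (BT.node (nat_lit 24) (BT.node (nat_lit 23) (BT.leaf ⟨[(nat_lit 8), (nat_lit 5), (nat_lit 7), (nat_lit 6)], (nat_lit 13), (nat_lit 3), (nat_lit 0), (nat_lit 4)⟩) (BT.leaf ⟨[(nat_lit 9), (nat_lit 5), (nat_lit 9), (nat_lit 6)], (nat_lit 125), (nat_lit 0), (nat_lit 0), (nat_lit 4)⟩)) (BT.node (nat_lit 25) (BT.leaf ⟨[(nat_lit 4), (nat_lit 5), (nat_lit 4), (nat_lit 1), (nat_lit 2), (nat_lit 8), (nat_lit 3), (nat_lit 6)], (nat_lit 32), (nat_lit 5), (nat_lit 0), (nat_lit 4)⟩) (BT.leaf ⟨[(nat_lit 10), (nat_lit 6), (nat_lit 10), (nat_lit 6), (nat_lit 10), (nat_lit 9), (nat_lit 1), (nat_lit 8), (nat_lit 6)], (nat_lit 276), (nat_lit 4), (nat_lit 0), (nat_lit 4)⟩)))))) (BT.node (nat_lit 39) (BT.node (nat_lit 32) (BT.node (nat_lit 29) (BT.node (nat_lit 27) (BT.leaf ⟨[(nat_lit 10), (nat_lit 10)], (nat_lit 121), (nat_lit 0), (nat_lit 0), (nat_lit 4)⟩) (BT.node (nat_lit 28) (BT.leaf ⟨[(nat_lit 7),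 (nat_lit 3), (nat_lit 7), (nat_lit 2)], (nat_lit 11), (nat_lit 1), (nat_lit 0), (nat_lit 4)⟩) (BT.leaf ⟨[(nat_lit 9), (nat_lit 3), (nat_lit 9), (nat_lit 2)], (nat_lit 123), (nat_lit 2), (nat_lit 0), (nat_lit 4)⟩))) (BT.node (nat_lit 30) (BT.leaf ⟨[(nat_lit 8), (nat_lit 3), (nat_lit 5), (nat_lit 4), (nat_lit 7), (nat_lit 6), (nat_lit 2)], (nat_lit 27), (nat_lit 1), (nat_lit 0), (nat_lit 4)⟩) (BT.node (nat_lit 31) (BT.leaf ⟨[(nat_lit 2), (nat_lit 3)], (nat_lit 141), (nat_lit 0), (nat_lit 0), (nat_lit 4)⟩) (BT.leaf ⟨[(nat_lit 3), (nat_lit 3), (nat_lit 3)], (nat_lit 147), (nat_lit 0), (nat_lit 0), (nat_lit 4)⟩)))) (BT.node (nat_lit 35) (BT.node (nat_lit 33) (BT.leaf ⟨[(nat_lit 4), (nat_lit 3), (nat_lit 4), (nat_lit 3)], (nat_lit 151), (nat_lit 0), (nat_lit 0), (nat_lit 4)⟩) (BT.node (nat_lit 34) (BT.leaf ⟨[(nat_lit 4), (nat_lit 4)], (nat_lit 1), (nat_lit 0), (nat_lit 0), (nat_lit 4)⟩) (BT.leaf ⟨[(nat_lit 7), (nat_lit 2), (nat_lit 7), (nat_lit 3)], (nat_lit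 11), (nat_lit 3), (nat_lit 0), (nat_lit 4)⟩))) (BT.node (nat_lit 37) (BT.node (nat_lit 36) (BT.leaf ⟨[(nat_lit 9), (nat_lit 2), (nat_lit 9), (nat_lit 3)], (nat_lit 123), (nat_lit 0), (nat_lit 0), (nat_lit 4)⟩) (BT.leaf ⟨[(nat_lit 8), (nat_lit 4), (nat_lit 8), (nat_lit 4)], (nat_lit 15), (nat_lit 1), (nat_lit 0), (nat_lit 4)⟩)) (BT.node (nat_lit 38) (BT.leaf ⟨[(nat_lit 10), (nat_lit 3), (nat_lit 10), (nat_lit 2)], (nat_lit 130), (nat_lit 2), (nat_lit 0), (nat_lit 4)⟩) (BT.leaf ⟨[(nat_lit 1), (nat_lit 3), (nat_lit 6), (nat_lit 2), (nat_lit 1), (nat_lit 3), (nat_lit 6), (nat_lit 2)], (nat_lit 176), (nat_lit 3), (nat_lit 0), (nat_lit 4)⟩))))) (BT.node (nat_lit 45) (BT.node (nat_lit 42) (BT.node (nat_lit 40) (BT.leaf ⟨[(nat_lit 1), (nat_lit 1)], (nat_lit 0), (nat_lit 0), (nat_lit 0), (nat_lit 4)⟩) (BT.node (nat_lit 41) (BT.leaf ⟨[(nat_lit 1), (nat_lit 3), (nat_lit 1), (nat_lit 3), (nat_lit 1), (nat_lit 3)], (nat_lit 162), (nat_lit 1), (nat_lit 0), (nat_lit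 4)⟩) (BT.leaf ⟨[(nat_lit 10), (nat_lit 6), (nat_lit 3), (nat_lit 5), (nat_lit 10), (nat_lit 6), (nat_lit 7), (nat_lit 4), (nat_lit 3), (nat_lit 9), (nat_lit 5), (nat_lit 10), (nat_lit 6), (nat_lit 2), (nat_lit 5)], (nat_lit 134), (nat_lit 5), (nat_lit 0), (nat_lit 4)⟩))) (BT.node (nat_lit 43) (BT.leaf ⟨[(nat_lit 10), (nat_lit 6), (nat_lit 2), (nat_lit 5), (nat_lit 10), (nat_lit 6), (nat_lit 3), (nat_lit 5), (nat_lit 10), (nat_lit 6), (nat_lit 7), (nat_lit 4), (nat_lit 3), (nat_lit 9), (nat_lit 5)], (nat_lit 134), (nat_lit 1), (nat_lit 0), (nat_lit 4)⟩) (BT.node (nat_lit 44) (BT.leaf ⟨[(nat_lit 8), (nat_lit 1), (nat_lit 8), (nat_lit 1)], (nat_lit 14), (nat_lit 1), (nat_lit 0), (nat_lit 4)⟩) (BT.leaf ⟨[(nat_lit 10), (nat_lit 1), (nat_lit 10), (nat_lit 1)], (nat_lit 129), (nat_lit 0), (nat_lit 0), (nat_lit 4)⟩)))) (BT.node (nat_lit 48) (BT.node (nat_lit 46) (BT.leaf ⟨[(nat_lit 4), (nat_lit 8), (nat_lit 7), (nat_lit 1), (nat_lit 4), (nat_lit 1)], (nat_lit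 20), (nat_lit 3), (nat_lit 0), (nat_lit 4)⟩) (BT.node (nat_lit 47) (BT.leaf ⟨[(nat_lit 10), (nat_lit 2), (nat_lit 10), (nat_lit 3)], (nat_lit 130), (nat_lit 0), (nat_lit 0), (nat_lit 4)⟩) (BT.leaf ⟨[(nat_lit 1), (nat_lit 2), (nat_lit 6), (nat_lit 3), (nat_lit 1), (nat_lit 2), (nat_lit 6), (nat_lit 3)], (nat_lit 174), (nat_lit 3), (nat_lit 0), (nat_lit 4)⟩))) (BT.node (nat_lit 50) (BT.node (nat_lit 49) (BT.leaf ⟨[(nat_lit 8), (nat_lit 8)], (nat_lit 3), (nat_lit 0), (nat_lit 0), (nat_lit 4)⟩) (BT.leaf ⟨[(nat_lit 8), (nat_lit 2), (nat_lit 5), (nat_lit 4), (nat_lit 6), (nat_lit 3)], (nat_lit 22), (nat_lit 5), (nat_lit 0), (nat_lit 4)⟩)) (BT.node (nat_lit 51) (BT.leaf ⟨[(nat_lit 1), (nat_lit 2), (nat_lit 1), (nat_lit 2), (nat_lit 1), (nat_lit 2)], (nat_lit 19), (nat_lit 0), (nat_lit 0), (nat_lit 4)⟩) (BT.leaf ⟨[(nat_lit 4), (nat_lit 2), (nat_lit 4), (nat_lit 2)], (nat_lit 8), (nat_lit 1), (nat_lit 0), (nat_lit 4)⟩))))))) (BT.node (nat_lit 78) (BT.node (nat_lit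 65) (BT.node (nat_lit 58) (BT.node (nat_lit 55) (BT.node (nat_lit 53) (BT.leaf ⟨[(nat_lit 1), (nat_lit 8), (nat_lit 1), (nat_lit 8)], (nat_lit 14), (nat_lit 0), (nat_lit 0), (nat_lit 4)⟩) (BT.node (nat_lit 54) (BT.leaf ⟨[(nat_lit 7), (nat_lit 7)], (nat_lit 2), (nat_lit 0), (nat_lit 0), (nat_lit 4)⟩) (BT.leaf ⟨[(nat_lit 4), (nat_lit 7), (nat_lit 4), (nat_lit 7)], (nat_lit 12), (nat_lit 0), (nat_lit 0), (nat_lit 4)⟩))) (BT.node (nat_lit 56) (BT.leaf ⟨[(nat_lit 4), (nat_lit 1), (nat_lit 4), (nat_lit 8), (nat_lit 7), (nat_lit 1)], (nat_lit 20), (nat_lit 1), (nat_lit 0), (nat_lit 4)⟩) (BT.node (nat_lit 57) (BT.leaf ⟨[(nat_lit 1), (nat_lit 3), (nat_lit 5), (nat_lit 2), (nat_lit 1), (nat_lit 3), (nat_lit 5), (nat_lit 2)], (nat_lit 33), (nat_lit 0), (nat_lit 0), (nat_lit 4)⟩) (BT.leaf ⟨[(nat_lit 5), (nat_lit 10), (nat_lit 5), (nat_lit 10), (nat_lit 5), (nat_lit 8), (nat_lit 1), (nat_lit 9), (nat_lit 10)], (nat_lit 133), (nat_lit 1), (nat_lit 0), (nat_lit 4)⟩))))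 (BT.node (nat_lit 61) (BT.node (nat_lit 59) (BT.leaf ⟨[(nat_lit 6), (nat_lit 10), (nat_lit 6), (nat_lit 10), (nat_lit 9), (nat_lit 1), (nat_lit 8), (nat_lit 6), (nat_lit 10)], (nat_lit 276), (nat_lit 5), (nat_lit 0), (nat_lit 4)⟩) (BT.node (nat_lit 60) (BT.leaf ⟨[(nat_lit 9), (nat_lit 9)], (nat_lit 120), (nat_lit 0), (nat_lit 0), (nat_lit 4)⟩) (BT.leaf ⟨[(nat_lit 8), (nat_lit 6), (nat_lit 10), (nat_lit 6), (nat_lit 10), (nat_lit 6), (nat_lit 10), (nat_lit 9), (nat_lit 1)], (nat_lit 276), (nat_lit 2), (nat_lit 0), (nat_lit 4)⟩))) (BT.node (nat_lit 63) (BT.node (nat_lit 62) (BT.leaf ⟨[(nat_lit 1), (nat_lit 4), (nat_lit 7), (nat_lit 8), (nat_lit 1), (nat_lit 4)], (nat_lit 21), (nat_lit 2), (nat_lit 0), (nat_lit 4)⟩) (BT.leaf ⟨[(nat_lit 1), (nat_lit 2), (nat_lit 5), (nat_lit 3), (nat_lit 1), (nat_lit 2), (nat_lit 5), (nat_lit 3)], (nat_lit 31), (nat_lit 0), (nat_lit 0), (nat_lit 4)⟩)) (BT.node (nat_lit 64) (BT.leaf ⟨[(nat_lit 1), (nat_lit 7), (nat_lit 1),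 (nat_lit 7)], (nat_lit 10), (nat_lit 0), (nat_lit 0), (nat_lit 4)⟩) (BT.leaf ⟨[(nat_lit 8), (nat_lit 7), (nat_lit 8), (nat_lit 7)], (nat_lit 16), (nat_lit 1), (nat_lit 0), (nat_lit 4)⟩))))) (BT.node (nat_lit 71) (BT.node (nat_lit 68) (BT.node (nat_lit 66) (BT.leaf ⟨[(nat_lit 8), (nat_lit 1), (nat_lit 4), (nat_lit 1), (nat_lit 4), (nat_lit 7)], (nat_lit 21), (nat_lit 5), (nat_lit 0), (nat_lit 4)⟩) (BT.node (nat_lit 67) (BT.leaf ⟨[(nat_lit 9), (nat_lit 1), (nat_lit 9), (nat_lit 1)], (nat_lit 122), (nat_lit 0), (nat_lit 0), (nat_lit 4)⟩) (BT.leaf ⟨[(nat_lit 5), (nat_lit 5), (nat_lit 5)], (nat_lit 5), (nat_lit 0), (nat_lit 0), (nat_lit 4)⟩))) (BT.node (nat_lit 69) (BT.leaf ⟨[(nat_lit 3), (nat_lit 5), (nat_lit 10), (nat_lit 6), (nat_lit 7), (nat_lit 4), (nat_lit 3), (nat_lit 9), (nat_lit 5), (nat_lit 10), (nat_lit 6), (nat_lit 2), (nat_lit 5), (nat_lit 10), (nat_lit 6)], (nat_lit 134), (nat_lit 7), (nat_lit 0), (nat_lit 4)⟩) (BT.node (nat_lit 70) (BT.leaf ⟨[(nat_lit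 8), (nat_lit 6), (nat_lit 7), (nat_lit 8), (nat_lit 5)], (nat_lit 18), (nat_lit 1), (nat_lit 0), (nat_lit 4)⟩) (BT.leaf ⟨[(nat_lit 3), (nat_lit 10), (nat_lit 2), (nat_lit 10)], (nat_lit 130), (nat_lit 3), (nat_lit 0), (nat_lit 4)⟩)))) (BT.node (nat_lit 74) (BT.node (nat_lit 72) (BT.leaf ⟨[(nat_lit 2), (nat_lit 5), (nat_lit 3), (nat_lit 5), (nat_lit 2), (nat_lit 5), (nat_lit 3), (nat_lit 6), (nat_lit 2), (nat_lit 5), (nat_lit 3), (nat_lit 5), (nat_lit 2), (nat_lit 5), (nat_lit 3), (nat_lit 6)], (nat_lit 119), (nat_lit 0), (nat_lit 0), (nat_lit 4)⟩) (BT.node (nat_lit 73) (BT.leaf ⟨[(nat_lit 3), (nat_lit 6), (nat_lit 4), (nat_lit 8), (nat_lit 3), (nat_lit 1), (nat_lit 8), (nat_lit 2), (nat_lit 6), (nat_lit 2), (nat_lit 5), (nat_lit 8), (nat_lit 1), (nat_lit 6)], (nat_lit 258), (nat_lit 8), (nat_lit 0), (nat_lit 4)⟩) (BT.leaf ⟨[(nat_lit 8), (nat_lit 3), (nat_lit 6), (nat_lit 4), (nat_lit 5), (nat_lit 4), (nat_lit 1), (nat_lit 2)], (nat_lit 32), (nat_lit 2),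 (nat_lit 0), (nat_lit 4)⟩))) (BT.node (nat_lit 76) (BT.node (nat_lit 75) (BT.leaf ⟨[(nat_lit 8), (nat_lit 2), (nat_lit 8), (nat_lit 2), (nat_lit 8), (nat_lit 2)], (nat_lit 23), (nat_lit 1), (nat_lit 0), (nat_lit 4)⟩) (BT.leaf ⟨[(nat_lit 2), (nat_lit 9), (nat_lit 3), (nat_lit 9)], (nat_lit 123), (nat_lit 1), (nat_lit 0), (nat_lit 4)⟩)) (BT.node (nat_lit 77) (BT.leaf ⟨[(nat_lit 2), (nat_lit 5), (nat_lit 3), (nat_lit 6), (nat_lit 2), (nat_lit 6), (nat_lit 3), (nat_lit 6), (nat_lit 2), (nat_lit 5), (nat_lit 3), (nat_lit 6), (nat_lit 2), (nat_lit 6), (nat_lit 3), (nat_lit 6)], (nat_lit 259), (nat_lit 1), (nat_lit 0), (nat_lit 4)⟩) (BT.leaf ⟨[(nat_lit 8), (nat_lit 7), (nat_lit 6), (nat_lit 7), (nat_lit 5)], (nat_lit 160), (nat_lit 2), (nat_lit 0), (nat_lit 4)⟩)))))) (BT.node (nat_lit 91) (BT.node (nat_lit 84) (BT.node (nat_lit 81) (BT.node (nat_lit 79) (BT.leaf ⟨[(nat_lit 2), (nat_lit 6), (nat_lit 3), (nat_lit 6), (nat_lit 4), (nat_lit 5), (nat_lit 8), (nat_lit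 3), (nat_lit 6), (nat_lit 2), (nat_lit 5), (nat_lit 3), (nat_lit 1), (nat_lit 4), (nat_lit 3), (nat_lit 5)], (nat_lit 261), (nat_lit 3), (nat_lit 0), (nat_lit 4)⟩) (BT.node (nat_lit 80) (BT.leaf ⟨[(nat_lit 2), (nat_lit 4), (nat_lit 2), (nat_lit 4)], (nat_lit 8), (nat_lit 0), (nat_lit 0), (nat_lit 4)⟩) (BT.leaf ⟨[(nat_lit 2), (nat_lit 2), (nat_lit 2)], (nat_lit 4), (nat_lit 0), (nat_lit 0), (nat_lit 4)⟩))) (BT.node (nat_lit 82) (BT.leaf ⟨[(nat_lit 3), (nat_lit 1), (nat_lit 2), (nat_lit 6), (nat_lit 3), (nat_lit 1), (nat_lit 2), (nat_lit 6)], (nat_lit 174), (nat_lit 2), (nat_lit 0), (nat_lit 4)⟩) (BT.node (nat_lit 83) (BT.leaf ⟨[(nat_lit 3), (nat_lit 4), (nat_lit 3), (nat_lit 4)], (nat_lit 151), (nat_lit 1), (nat_lit 0), (nat_lit 4)⟩) (BT.leaf ⟨[(nat_lit 3), (nat_lit 6), (nat_lit 7), (nat_lit 5), (nat_lit 2), (nat_lit 7), (nat_lit 5), (nat_lit 4), (nat_lit 6)], (nat_lit 209), (nat_lit 8), (nat_lit 0), (nat_lit 4)⟩)))) (BT.node (nat_lit 87) (BT.node (nat_lit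 85) (BT.leaf ⟨[(nat_lit 2), (nat_lit 5), (nat_lit 8), (nat_lit 6), (nat_lit 3), (nat_lit 5), (nat_lit 4), (nat_lit 8), (nat_lit 6)], (nat_lit 64), (nat_lit 0), (nat_lit 0), (nat_lit 4)⟩) (BT.node (nat_lit 86) (BT.leaf ⟨[(nat_lit 4), (nat_lit 8), (nat_lit 4), (nat_lit 8)], (nat_lit 15), (nat_lit 0), (nat_lit 0), (nat_lit 4)⟩) (BT.leaf ⟨[(nat_lit 3), (nat_lit 6), (nat_lit 7), (nat_lit 5), (nat_lit 4), (nat_lit 8), (nat_lit 3), (nat_lit 7), (nat_lit 4)], (nat_lit 212), (nat_lit 8), (nat_lit 0), (nat_lit 4)⟩))) (BT.node (nat_lit 89) (BT.node (nat_lit 88) (BT.leaf ⟨[(nat_lit 2), (nat_lit 1), (nat_lit 3), (nat_lit 5), (nat_lit 2), (nat_lit 1), (nat_lit 3), (nat_lit 5)], (nat_lit 33), (nat_lit 3), (nat_lit 0), (nat_lit 4)⟩) (BT.leaf ⟨[(nat_lit 3), (nat_lit 7), (nat_lit 2), (nat_lit 7)], (nat_lit 11), (nat_lit 2), (nat_lit 0), (nat_lit 4)⟩)) (BT.node (nat_lit 90) (BT.leaf ⟨[(nat_lit 3), (nat_lit 1), (nat_lit 3), (nat_lit 1), (nat_lit 3), (nat_lit 1)], (nat_lit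 162), (nat_lit 0), (nat_lit 0), (nat_lit 4)⟩) (BT.leaf ⟨[(nat_lit 2), (nat_lit 7), (nat_lit 3), (nat_lit 7)], (nat_lit 11), (nat_lit 0), (nat_lit 0), (nat_lit 4)⟩))))) (BT.node (nat_lit 97) (BT.node (nat_lit 94) (BT.node (nat_lit 92) (BT.leaf ⟨[(nat_lit 5), (nat_lit 3), (nat_lit 6), (nat_lit 2), (nat_lit 6), (nat_lit 3), (nat_lit 6), (nat_lit 2), (nat_lit 5), (nat_lit 3), (nat_lit 6), (nat_lit 2), (nat_lit 6), (nat_lit 3), (nat_lit 6), (nat_lit 2)], (nat_lit 259), (nat_lit 2), (nat_lit 0), (nat_lit 4)⟩) (BT.node (nat_lit 93) (BT.leaf ⟨[(nat_lit 6), (nat_lit 2), (nat_lit 5), (nat_lit 3), (nat_lit 5), (nat_lit 2), (nat_lit 5), (nat_lit 3), (nat_lit 6), (nat_lit 2), (nat_lit 5), (nat_lit 3), (nat_lit 5), (nat_lit 2), (nat_lit 5), (nat_lit 3)], (nat_lit 119), (nat_lit 7), (nat_lit 0), (nat_lit 4)⟩) (BT.leaf ⟨[(nat_lit 6), (nat_lit 3), (nat_lit 1), (nat_lit 2), (nat_lit 4), (nat_lit 6), (nat_lit 3), (nat_lit 1), (nat_lit 8), (nat_lit 2)], (nat_lit 74), (nat_lit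 8), (nat_lit 0), (nat_lit 4)⟩))) (BT.node (nat_lit 95) (BT.leaf ⟨[(nat_lit 5), (nat_lit 8), (nat_lit 6), (nat_lit 8), (nat_lit 7)], (nat_lit 161), (nat_lit 2), (nat_lit 0), (nat_lit 4)⟩) (BT.node (nat_lit 96) (BT.leaf ⟨[(nat_lit 5), (nat_lit 3), (nat_lit 4), (nat_lit 7), (nat_lit 3), (nat_lit 6), (nat_lit 2), (nat_lit 8), (nat_lit 3)], (nat_lit 203), (nat_lit 7), (nat_lit 0), (nat_lit 4)⟩) (BT.leaf ⟨[(nat_lit 5), (nat_lit 4), (nat_lit 6), (nat_lit 3), (nat_lit 8), (nat_lit 2)], (nat_lit 22), (nat_lit 1), (nat_lit 0), (nat_lit 4)⟩)))) (BT.node (nat_lit 100) (BT.node (nat_lit 98) (BT.leaf ⟨[(nat_lit 5), (nat_lit 1), (nat_lit 6), (nat_lit 1)], (nat_lit 9), (nat_lit 1), (nat_lit 0), (nat_lit 4)⟩) (BT.node (nat_lit 99) (BT.leaf ⟨[(nat_lit 5), (nat_lit 7), (nat_lit 6), (nat_lit 8)], (nat_lit 13), (nat_lit 0), (nat_lit 0), (nat_lit 4)⟩) (BT.leaf ⟨[(nat_lit 6), (nat_lit 7), (nat_lit 5), (nat_lit 7), (nat_lit 8)], (nat_lit 17), (nat_lit 3), (nat_lit 0), (nat_lit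 4)⟩))) (BT.node (nat_lit 102) (BT.node (nat_lit 101) (BT.leaf ⟨[(nat_lit 6), (nat_lit 7), (nat_lit 8), (nat_lit 5), (nat_lit 8)], (nat_lit 18), (nat_lit 2), (nat_lit 0), (nat_lit 4)⟩) (BT.leaf ⟨[(nat_lit 9), (nat_lit 8), (nat_lit 9), (nat_lit 8)], (nat_lit 127), (nat_lit 0), (nat_lit 0), (nat_lit 4)⟩)) (BT.node (nat_lit 103) (BT.leaf ⟨[(nat_lit 10), (nat_lit 9), (nat_lit 10), (nat_lit 9), (nat_lit 7)], (nat_lit 128), (nat_lit 0), (nat_lit 0), (nat_lit 4)⟩) (BT.leaf ⟨[(nat_lit 0), (nat_lit 5), (nat_lit 2), (nat_lit 6), (nat_lit 1), (nat_lit 4), (nat_lit 2), (nat_lit 1), (nat_lit 3), (nat_lit 6), (nat_lit 2), (nat_lit 6), (nat_lit 4)], (nat_lit 251), (nat_lit 5), (nat_lit 1), (nat_lit 4)⟩))))))))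
noncomputable def eDi1_hcs : List CW := [⟨[(nat_lit 1)], (nat_lit 0), (nat_lit 0), (nat_lit 0), (nat_lit 0)⟩, ⟨[(nat_lit 2)], (nat_lit 1), (nat_lit 0), (nat_lit 0), (nat_lit 0)⟩, ⟨[(nat_lit 4)], (nat_lit 2), (nat_lit 0), (nat_lit 0), (nat_lit 0)⟩, ⟨[(nat_lit 5)], (nat_lit 3), (nat_lit 0), (nat_lit 0), (nat_lit 0)⟩, ⟨[(nat_lit 7)], (nat_lit 4), (nat_lit 0), (nat_lit 0), (nat_lit 0)⟩, ⟨[(nat_lit 8)], (nat_lit 5), (nat_lit 0), (nat_lit 0), (nat_lit 0)⟩, ⟨[(nat_lit 9)], (nat_lit 6), (nat_lit 0), (nat_lit 0), (nat_lit 0)⟩, ⟨[(nat_lit 1)], (nat_lit 7), (nat_lit 0), (nat_lit 0), (nat_lit 0)⟩, ⟨[(nat_lit 3)], (nat_lit 8), (nat_lit 0), (nat_lit 0), (nat_lit 0)⟩, ⟨[(nat_lit 4)], (nat_lit 9), (nat_lit 0), (nat_lit 0), (nat_lit 0)⟩, ⟨[(nat_lit 6)], (nat_lit 10), (nat_lit 0), (nat_lit 0), (nat_lit 0)⟩, ⟨[(nat_lit 7)], (nat_lit 11), (nat_lit 0), (nat_lit 0), (nat_lit 0)⟩, ⟨[(nat_lit 8)], (nat_lit 12), (nat_lit 0), (nat_lit 0), (nat_lit 0)⟩, ⟨[(nat_lit 9)], (nat_lit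 13), (nat_lit 0), (nat_lit 0), (nat_lit 0)⟩]
noncomputable def eDi1_H (x j : Nat) : Bx (Nat → Nat → Nat) := mkH eDi1_L eDi1_pb.1 eDi1_e.get (lmap CW.w eDi1_hcs) (nat_lit 1) (nat_lit 2) (nat_lit 11) (nat_lit 512) (nat_lit 65536) (nat_lit 32767) x (eDi1_rots.get j)
noncomputable def eDi1_F (x b : Nat) : Bool := blkOK eDi1_H eDi1_ch (nat_lit 2) (nat_lit 512) (nat_lit 128) (nat_lit 7) (nat_lit 127) (nat_lit 23) (nat_lit 8388607) x b

theorem eDi1_k0_0 : allFrom (eDi1_F (nat_lit 0)) (nat_lit 0) (nat_lit 6) = true := by decide +kernel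
theorem eDi1_k1_0 : allFrom (eDi1_F (nat_lit 1)) (nat_lit 0) (nat_lit 6) = true := by decide +kernel
theorem eDi1_k2_0 : allFrom (eDi1_F (nat_lit 2)) (nat_lit 0) (nat_lit 6) = true := by decide +kernel
theorem eDi1_k3_0 : allFrom (eDi1_F (nat_lit 3)) (nat_lit 0) (nat_lit 6) = true := by decide +kernel
theorem eDi1_k4_0 : allFrom (eDi1_F (nat_lit 4)) (nat_lit 0) (nat_lit 6) = true := by decide +kernel
theorem eDi1_k5_0 : allFrom (eDi1_F (nat_lit 5)) (nat_lit 0) (nat_lit 6) = true := by decide +kernel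
theorem eDi1_k6_0 : allFrom (eDi1_F (nat_lit 6)) (nat_lit 0) (nat_lit 6) = true := by decide +kernel
theorem eDi1_k7_0 : allFrom (eDi1_F (nat_lit 7)) (nat_lit 0) (nat_lit 6) = true := by decide +kernel
theorem eDi1_k8_0 : allFrom (eDi1_F (nat_lit 8)) (nat_lit 0) (nat_lit 6) = true := by decide +kernel
theorem eDi1_k9_0 : allFrom (eDi1_F (nat_lit 9)) (nat_lit 0) (nat_lit 6) = true := by decide +kernel
theorem eDi1_k10_0 : allFrom (eDi1_F (nat_lit 10)) (nat_lit 0) (nat_lit 6) = true := by decide +kernel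

noncomputable def eDi2_c0 : BT (Bx Nat) := (BT.leaf (Bx.mk (nat_lit 0x2a4c0000000000000000000000000000000000000000000000241ae00000000000000000000241b300000000000000000000000000000000000000000000000000000000000000000000002019c000000000000000000002019f00000000000000000000000000000000000000001c19100000000001c19300000000000000000000000000000018189000001818a14189000000c182141850000014185101840c18308182041810000000000)))
noncomputable def eDi2_c1 : BT (Bx Nat) := (BT.leaf (Bx.mk (nat_lit 0x8c7c30000000000000000000000000000000000000000643b9643b40000000000843ad843aa0000000000943b1943ae913b30000000000913b2813b70000000000000006cb256c7a46cb216c7a0693a9000008cb1b8c79a00000693a69cb1d9c79c9939f9939e893a3893a275a1775a1571399959907139800000a579100000a13939139694b0c9478b9cb0a000009138e9938d000009d486a530599388a1387a8b04a8783ac382b418100000)))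
noncomputable def eDi2_c2 : BT (Bx Nat) := (BT.leaf (Bx.mk (nat_lit 0x4e4440000050f3c00000ac43100000363c500000ac42da0f3eb40c600000000000000000000000000000000000000000000000000a8f41000000000000000a8f3d00000a8f2c00000000000000000000000000000000000000000000000000000000000000000b40af00000b40ab0000000000b0f0ea8f1800000b0f0ca8f15b0f0a00000b0f09a8f11b4099b4097b4096b409400000b4092b4090b0f04a8f08b0f03a8f06b4087b4085ac402b418100000)))
noncomputable def eDi2_c3 : BT (Bx Nat) := (BT.leaf (Bx.mk (nat_lit 0x484c60000000000ae0b10000000000a60bdae0ad563440000000000000000000000000000000000000000000000000000000000000000000000a84beacfabb049b00000000000000000000000000000000000000000000000000000000000000000b40b000000b40ac0000000000acf97b048eb048dacf94b048cacf92b048aacf90b048900000b409800000b409500000b4093b4091acf87b0484acf85b0483b4088b4086a8482b020100000)))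
noncomputable def eDi2_c4 : BT (Bx Nat) := (BT.leaf (Bx.mk (nat_lit 0x2d94600000310bc389bf000000000000000000000000000000362c4000000000000000000004c631000007462d81b3461b3988632490b700000000006c62e710b500000000000000055b1d00000590a37499c65b21000005dba700000610a59099e90c1b8d0a0510a9710a68d09f000007d913a1017000008d91589096000000000000000990109509100000a498e94c0c9108d000008170f9c989a10079d088a10059d086a4c04a4983ac602b418100000)))
noncomputable def eDi2_c5 : BT (Bx Nat) := (BT.leaf (Bx.mk (nat_lit 0x622385a23a000000000000000b0a2e0000000000000000000038a3c5ca330000065c37b40c5000000000065c31b40c400000b40c3000000000000000b40bf000000000045f3b00000000000000000000b0a1700000b0a16a8a23b0a1500000b0a13a8a1fb0a11a8a1db0a10a8a1bb40a8b40a6b40a4b40a2b40a000000b409e00000b409cb409ab0a08a8a0f00000b0a06a8a0cb0a05a8a0ab408e00000b408bb4089b0a02a8a04b4083b418100000)))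
noncomputable def eDi2_c6 : BT (Bx Nat) := (BT.leaf (Bx.mk (nat_lit 0xb0733b073100000000008cab5b072d00000000003cabb4072a0000049e3600000000000000091d2e0000061eba00000607340000000000b40c0000000000000000b40bcacaa8b0719acaa6b0718acaa4b0717acaa2b0716acaa0b0715aca9eb0713aca9cb0711aca9ab0710b40a9b40a7b40a5b40a3b40a100000b409f00000b409db409baca8eb070800000aca8bb0706aca89b0705b408fb408db408cb408aaca83b0702b4084b028100000)))
noncomputable def eDi2_c7 : BT (Bx Nat) := (BT.leaf (Bx.mk (nat_lit 0x5c5376c52e6452d6c52a59abb0000074533885320000085ab40000000000000000000000000000000000069ab85daa300000000007481c65a9b7481a608290000075a9f9081e788218daa06082771aa66882571aa4000000000090d97000008511500000000000000000000000008480f9480e000008880c9080b00000000009910800000a1106a0d859c804a4803ac502b418100000)))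
noncomputable def eDi2_c8 : BT (Bx Nat) := (BT.leaf (Bx.mk (nat_lit 0x321c65983c5184000000000004183d555c4000003e1c2461415d5c5000000000000000000000000000000000000000000000686b45dcb1000000000000000000000000000000000000000065822000006581c8d5a56d81a00000696a8000007d81e000008092000000696a6000007092400000000007ce90792199989398e92958159581479218798179558f8968e00000000008c90b9d58a0000099208a8e879520698e8500000a0903a8682b418100000)))
noncomputable def eDi2_c9 : BT (Bx Nat) := (BT.leaf (Bx.mk (nat_lit 0x388bc708c00000000000000006e0440000000000000000000056037000005ddad0000059fbb00000745b300000000000000000000000000000000000000000000000000000000000000000000000000000000988a4000000000000000988a098b9f000000000000000000000000000000000009ce17000009d195000009d193000009d1910000000000a088e00000a0b8c00000a0b8aa0889a5188a4e07a5186a4e05a8b84a8883ac582b418100000)))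
noncomputable def eDi2_c10 : BT (Bx Nat) := (BT.leaf (Bx.mk (nat_lit 0xb0d2b0000000000b0d26b0d2500000b0d2300000b0d21b0d20b0d1fb0d1eb0d1db40c2b40c1b0d1cb0d1bb40beb40bdb0d1ab40bb0000000000b40bab40b9b40b8b40b7b40b6b40b5b40b4b40b3b40b2b40b1b40aeb40adb40aa0000000000000008d29600000000000000000000994110000000000000009160d000000000094c8a9d5099d4069d28598d0898d07a4c83a0d04b0301b410200000)))
noncomputable def eDi2_p : BT (Bx Nat) := (BT.leaf (Bx.mk (nat_lit 0x4bc0a1b8b0cc58622c302a17950b8685a2c2c2a15950a8675253a629d294e90a74653a229d094e80a73e539e29ce94e74373a139c29cd94e6c3736139a298c8cc6456303318158b8cc5c562c3316158a8cc545626331315888cc4456203310154784a38351c128d094606a3025141a8a094486a242410320815038c818640c2a0519028a610330811830cc184408620428812800000000)))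
noncomputable def eDi2_e0 : BT Nat := (BT.node (nat_lit 384) (BT.node (nat_lit 72) (BT.node (nat_lit 68) (BT.node (nat_lit 66) (BT.leaf (nat_lit 2)) (BT.leaf (nat_lit 262146))) (BT.node (nat_lit 69) (BT.leaf (nat_lit 524290)) (BT.node (nat_lit 71) (BT.leaf (nat_lit 786434)) (BT.leaf (nat_lit 1048578))))) (BT.node (nat_lit 192) (BT.node (nat_lit 73) (BT.leaf (nat_lit 1310722)) (BT.node (nat_lit 128) (BT.leaf (nat_lit 1572866)) (BT.leaf (nat_lit 1577)))) (BT.node (nat_lit 256) (BT.leaf (nat_lit 1557)) (BT.node (nat_lit 320) (BT.leaf (nat_lit 2089)) (BT.leaf (nat_lit 2057)))))) (BT.node (nat_lit 1344) (BT.node (nat_lit 704) (BT.node (nat_lit 512) (BT.leaf (nat_lit 3093)) (BT.node (nat_lit 576) (BT.leaf (nat_lit 3609)) (BT.leaf (nat_lit 2069)))) (BT.node (nat_lit 768) (BT.leaf (nat_lit 3097)) (BT.node (nat_lit 896) (BT.leaf (nat_lit 5385)) (BT.leaf (nat_lit 6153))))) (BT.node (nat_lit 2432) (BT.node (nat_lit 1536) (BT.leaf (nat_lit 8469)) (BT.node (nat_lit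 2112) (BT.leaf (nat_lit 9753)) (BT.leaf (nat_lit 13609)))) (BT.node (nat_lit 3392) (BT.leaf (nat_lit 14889)) (BT.node (nat_lit 3712) (BT.leaf (nat_lit 17433)) (BT.leaf (nat_lit 17429)))))))
noncomputable def eDi2_e : BT Nat := eDi2_e0
noncomputable def eDi2_cols : List (BT (Bx Nat)) := [eDi2_c0, eDi2_c1, eDi2_c2, eDi2_c3, eDi2_c4, eDi2_c5, eDi2_c6, eDi2_c7, eDi2_c8, eDi2_c9, eDi2_c10]
noncomputable def eDi2_ch (x j : Nat) : Bx Nat := chunkG eDi2_cols (nat_lit 1) x j
noncomputable def eDi2_L (x : Nat) : Bx (Nat → Nat) := lookG eDi2_ch (nat_lit 7) (nat_lit 127) (nat_lit 20) (nat_lit 1048575) x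
noncomputable def eDi2_pc (_ j : Nat) : Bx Nat := eDi2_p.get j
noncomputable def eDi2_pb : Bx (Nat → Nat) := lookG eDi2_pc (nat_lit 7) (nat_lit 127) (nat_lit 17) (nat_lit 131071) (nat_lit 0)
noncomputable def eDi2_rots : BT CW := (BT.node (nat_lit 36) (BT.node (nat_lit 18) (BT.node (nat_lit 9) (BT.node (nat_lit 4) (BT.node (nat_lit 2) (BT.node (nat_lit 1) (BT.leaf ⟨[], (nat_lit 1000000), (nat_lit 0), (nat_lit 0), (nat_lit 0)⟩) (BT.leaf ⟨[], (nat_lit 1000000), (nat_lit 0), (nat_lit 0), (nat_lit 1)⟩)) (BT.node (nat_lit 3) (BT.leaf ⟨[], (nat_lit 1000000), (nat_lit 0), (nat_lit 0), (nat_lit 2)⟩) (BT.leaf ⟨[(nat_lit 3), (nat_lit 2)], (nat_lit 141), (nat_lit 1), (nat_lit 0), (nat_lit 3)⟩))) (BT.node (nat_lit 6) (BT.node (nat_lit 5) (BT.leaf ⟨[(nat_lit 6), (nat_lit 5)], (nat_lit 139), (nat_lit 1), (nat_lit 0), (nat_lit 3)⟩) (BT.leaf ⟨[(nat_lit 10), (nat_lit 10)], (nat_lit 121), (nat_lit 0), (nat_lit 0), (nat_lit 3)⟩)) (BT.node (nat_lit 7) (BT.leaf ⟨[(nat_lit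 1), (nat_lit 10), (nat_lit 1), (nat_lit 10)], (nat_lit 129), (nat_lit 1), (nat_lit 0), (nat_lit 4)⟩) (BT.node (nat_lit 8) (BT.leaf ⟨[(nat_lit 2), (nat_lit 10), (nat_lit 3), (nat_lit 10)], (nat_lit 130), (nat_lit 1), (nat_lit 0), (nat_lit 4)⟩) (BT.leaf ⟨[(nat_lit 3), (nat_lit 2)], (nat_lit 141), (nat_lit 1), (nat_lit 0), (nat_lit 4)⟩))))) (BT.node (nat_lit 13) (BT.node (nat_lit 11) (BT.node (nat_lit 10) (BT.leaf ⟨[(nat_lit 7), (nat_lit 10), (nat_lit 7), (nat_lit 10)], (nat_lit 131), (nat_lit 1), (nat_lit 0), (nat_lit 4)⟩) (BT.leaf ⟨[(nat_lit 9), (nat_lit 10), (nat_lit 9), (nat_lit 7), (nat_lit 10)], (nat_lit 128), (nat_lit 1), (nat_lit 0), (nat_lit 4)⟩)) (BT.node (nat_lit 12) (BT.leaf ⟨[(nat_lit 4), (nat_lit 10), (nat_lit 4), (nat_lit 7), (nat_lit 10)], (nat_lit 132), (nat_lit 1), (nat_lit 0), (nat_lit 4)⟩) (BT.leaf ⟨[(nat_lit 8), (nat_lit 7), (nat_lit 1), (nat_lit 4), (nat_lit 1), (nat_lit 4)], (nat_lit 20), (nat_lit 4), (nat_lit 0), (nat_lit 4)⟩))) (BT.node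 (nat_lit 15) (BT.node (nat_lit 14) (BT.leaf ⟨[(nat_lit 6), (nat_lit 5)], (nat_lit 139), (nat_lit 1), (nat_lit 0), (nat_lit 4)⟩) (BT.leaf ⟨[(nat_lit 1), (nat_lit 6), (nat_lit 1), (nat_lit 5)], (nat_lit 9), (nat_lit 2), (nat_lit 0), (nat_lit 4)⟩)) (BT.node (nat_lit 16) (BT.leaf ⟨[(nat_lit 7), (nat_lit 6), (nat_lit 8), (nat_lit 5)], (nat_lit 13), (nat_lit 1), (nat_lit 0), (nat_lit 4)⟩) (BT.node (nat_lit 17) (BT.leaf ⟨[(nat_lit 9), (nat_lit 6), (nat_lit 9), (nat_lit 5)], (nat_lit 125), (nat_lit 2), (nat_lit 0), (nat_lit 4)⟩) (BT.leaf ⟨[(nat_lit 8), (nat_lit 6), (nat_lit 7), (nat_lit 5), (nat_lit 7)], (nat_lit 17), (nat_lit 2), (nat_lit 0), (nat_lit 4)⟩)))))) (BT.node (nat_lit 27) (BT.node (nat_lit 22) (BT.node (nat_lit 20) (BT.node (nat_lit 19) (BT.leaf ⟨[(nat_lit 4), (nat_lit 6), (nat_lit 3), (nat_lit 8), (nat_lit 2), (nat_lit 5)], (nat_lit 22), (nat_lit 2), (nat_lit 0), (nat_lit 4)⟩) (BT.leaf ⟨[(nat_lit 5), (nat_lit 6)], (nat_lit 139), (nat_lit 0), (nat_lit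 0), (nat_lit 4)⟩)) (BT.node (nat_lit 21) (BT.leaf ⟨[(nat_lit 6), (nat_lit 6), (nat_lit 6)], (nat_lit 148), (nat_lit 0), (nat_lit 0), (nat_lit 4)⟩) (BT.leaf ⟨[(nat_lit 1), (nat_lit 5), (nat_lit 1), (nat_lit 6)], (nat_lit 9), (nat_lit 0), (nat_lit 0), (nat_lit 4)⟩))) (BT.node (nat_lit 24) (BT.node (nat_lit 23) (BT.leaf ⟨[(nat_lit 9), (nat_lit 5), (nat_lit 9), (nat_lit 6)], (nat_lit 125), (nat_lit 0), (nat_lit 0), (nat_lit 4)⟩) (BT.leaf ⟨[(nat_lit 4), (nat_lit 5), (nat_lit 4), (nat_lit 1), (nat_lit 2), (nat_lit 8), (nat_lit 3), (nat_lit 6)], (nat_lit 32), (nat_lit 5), (nat_lit 0), (nat_lit 4)⟩)) (BT.node (nat_lit 25) (BT.leaf ⟨[(nat_lit 10), (nat_lit 6), (nat_lit 10), (nat_lit 6), (nat_lit 10), (nat_lit 9), (nat_lit 1), (nat_lit 8), (nat_lit 6)], (nat_lit 276), (nat_lit 4), (nat_lit 0), (nat_lit 4)⟩) (BT.node (nat_lit 26) (BT.leaf ⟨[(nat_lit 10), (nat_lit 10)], (nat_lit 121), (nat_lit 0), (nat_lit 0), (nat_lit 4)⟩) (BT.leaf ⟨[(nat_lit 7), (nat_lit 3), (nat_lit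 7), (nat_lit 2)], (nat_lit 11), (nat_lit 1), (nat_lit 0), (nat_lit 4)⟩))))) (BT.node (nat_lit 31) (BT.node (nat_lit 29) (BT.node (nat_lit 28) (BT.leaf ⟨[(nat_lit 9), (nat_lit 3), (nat_lit 9), (nat_lit 2)], (nat_lit 123), (nat_lit 2), (nat_lit 0), (nat_lit 4)⟩) (BT.leaf ⟨[(nat_lit 8), (nat_lit 3), (nat_lit 5), (nat_lit 4), (nat_lit 7), (nat_lit 6), (nat_lit 2)], (nat_lit 27), (nat_lit 1), (nat_lit 0), (nat_lit 4)⟩)) (BT.node (nat_lit 30) (BT.leaf ⟨[(nat_lit 2), (nat_lit 3)], (nat_lit 141), (nat_lit 0), (nat_lit 0), (nat_lit 4)⟩) (BT.leaf ⟨[(nat_lit 3), (nat_lit 3), (nat_lit 3)], (nat_lit 147), (nat_lit 0), (nat_lit 0), (nat_lit 4)⟩))) (BT.node (nat_lit 33) (BT.node (nat_lit 32) (BT.leaf ⟨[(nat_lit 4), (nat_lit 3), (nat_lit 4), (nat_lit 3)], (nat_lit 151), (nat_lit 0), (nat_lit 0), (nat_lit 4)⟩) (BT.leaf ⟨[(nat_lit 4), (nat_lit 4)], (nat_lit 1), (nat_lit 0), (nat_lit 0), (nat_lit 4)⟩)) (BT.node (nat_lit 34) (BT.leaf ⟨[(nat_lit 7), (nat_lit 2), (nat_lit 7),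 (nat_lit 3)], (nat_lit 11), (nat_lit 3), (nat_lit 0), (nat_lit 4)⟩) (BT.node (nat_lit 35) (BT.leaf ⟨[(nat_lit 9), (nat_lit 2), (nat_lit 9), (nat_lit 3)], (nat_lit 123), (nat_lit 0), (nat_lit 0), (nat_lit 4)⟩) (BT.leaf ⟨[(nat_lit 8), (nat_lit 4), (nat_lit 8), (nat_lit 4)], (nat_lit 15), (nat_lit 1), (nat_lit 0), (nat_lit 4)⟩))))))) (BT.node (nat_lit 54) (BT.node (nat_lit 45) (BT.node (nat_lit 40) (BT.node (nat_lit 38) (BT.node (nat_lit 37) (BT.leaf ⟨[(nat_lit 10), (nat_lit 3), (nat_lit 10), (nat_lit 2)], (nat_lit 130), (nat_lit 2), (nat_lit 0), (nat_lit 4)⟩) (BT.leaf ⟨[(nat_lit 1), (nat_lit 3), (nat_lit 6), (nat_lit 2), (nat_lit 1), (nat_lit 3), (nat_lit 6), (nat_lit 2)], (nat_lit 176), (nat_lit 3), (nat_lit 0), (nat_lit 4)⟩)) (BT.node (nat_lit 39) (BT.leaf ⟨[(nat_lit 1), (nat_lit 1)], (nat_lit 0), (nat_lit 0), (nat_lit 0), (nat_lit 4)⟩) (BT.leaf ⟨[(nat_lit 10), (nat_lit 2), (nat_lit 10), (nat_lit 3)], (nat_lit 130), (nat_lit 0), (nat_lit 0), (nat_lit 4)⟩)))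 (BT.node (nat_lit 42) (BT.node (nat_lit 41) (BT.leaf ⟨[(nat_lit 1), (nat_lit 3), (nat_lit 1), (nat_lit 3), (nat_lit 1), (nat_lit 3)], (nat_lit 162), (nat_lit 1), (nat_lit 0), (nat_lit 4)⟩) (BT.leaf ⟨[(nat_lit 10), (nat_lit 6), (nat_lit 3), (nat_lit 5), (nat_lit 10), (nat_lit 6), (nat_lit 3), (nat_lit 8), (nat_lit 4), (nat_lit 2), (nat_lit 9), (nat_lit 5), (nat_lit 10), (nat_lit 6), (nat_lit 2), (nat_lit 5)], (nat_lit 134), (nat_lit 5), (nat_lit 0), (nat_lit 4)⟩)) (BT.node (nat_lit 43) (BT.leaf ⟨[(nat_lit 8), (nat_lit 5), (nat_lit 7), (nat_lit 6)], (nat_lit 13), (nat_lit 3), (nat_lit 0), (nat_lit 4)⟩) (BT.node (nat_lit 44) (BT.leaf ⟨[(nat_lit 10), (nat_lit 1), (nat_lit 10), (nat_lit 1)], (nat_lit 129), (nat_lit 0), (nat_lit 0), (nat_lit 4)⟩) (BT.leaf ⟨[(nat_lit 8), (nat_lit 1), (nat_lit 8), (nat_lit 1)], (nat_lit 14), (nat_lit 1), (nat_lit 0), (nat_lit 4)⟩))))) (BT.node (nat_lit 49) (BT.node (nat_lit 47) (BT.node (nat_lit 46) (BT.leaf ⟨[(nat_lit 4), (nat_lit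 8), (nat_lit 7), (nat_lit 1), (nat_lit 4), (nat_lit 1)], (nat_lit 20), (nat_lit 3), (nat_lit 0), (nat_lit 4)⟩) (BT.leaf ⟨[(nat_lit 1), (nat_lit 2), (nat_lit 6), (nat_lit 3), (nat_lit 1), (nat_lit 2), (nat_lit 6), (nat_lit 3)], (nat_lit 174), (nat_lit 3), (nat_lit 0), (nat_lit 4)⟩)) (BT.node (nat_lit 48) (BT.leaf ⟨[(nat_lit 8), (nat_lit 8)], (nat_lit 3), (nat_lit 0), (nat_lit 0), (nat_lit 4)⟩) (BT.leaf ⟨[(nat_lit 8), (nat_lit 2), (nat_lit 5), (nat_lit 4), (nat_lit 6), (nat_lit 3)], (nat_lit 22), (nat_lit 5), (nat_lit 0), (nat_lit 4)⟩))) (BT.node (nat_lit 51) (BT.node (nat_lit 50) (BT.leaf ⟨[(nat_lit 4), (nat_lit 2), (nat_lit 4), (nat_lit 2)], (nat_lit 8), (nat_lit 1), (nat_lit 0), (nat_lit 4)⟩) (BT.leaf ⟨[(nat_lit 1), (nat_lit 2), (nat_lit 1), (nat_lit 2), (nat_lit 1), (nat_lit 2)], (nat_lit 19), (nat_lit 0), (nat_lit 0), (nat_lit 4)⟩)) (BT.node (nat_lit 52) (BT.leaf ⟨[(nat_lit 1), (nat_lit 8), (nat_lit 1), (nat_lit 8)], (nat_lit 14), (nat_lit 0), (nat_lit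 0), (nat_lit 4)⟩) (BT.node (nat_lit 53) (BT.leaf ⟨[(nat_lit 7), (nat_lit 7)], (nat_lit 2), (nat_lit 0), (nat_lit 0), (nat_lit 4)⟩) (BT.leaf ⟨[(nat_lit 4), (nat_lit 7), (nat_lit 4), (nat_lit 7)], (nat_lit 12), (nat_lit 0), (nat_lit 0), (nat_lit 4)⟩)))))) (BT.node (nat_lit 63) (BT.node (nat_lit 58) (BT.node (nat_lit 56) (BT.node (nat_lit 55) (BT.leaf ⟨[(nat_lit 4), (nat_lit 1), (nat_lit 4), (nat_lit 8), (nat_lit 7), (nat_lit 1)], (nat_lit 20), (nat_lit 1), (nat_lit 0), (nat_lit 4)⟩) (BT.leaf ⟨[(nat_lit 5), (nat_lit 10), (nat_lit 5), (nat_lit 10), (nat_lit 5), (nat_lit 8), (nat_lit 1), (nat_lit 9), (nat_lit 10)], (nat_lit 133), (nat_lit 1), (nat_lit 0), (nat_lit 4)⟩)) (BT.node (nat_lit 57) (BT.leaf ⟨[(nat_lit 8), (nat_lit 6), (nat_lit 7), (nat_lit 8), (nat_lit 5)], (nat_lit 18), (nat_lit 1), (nat_lit 0), (nat_lit 4)⟩) (BT.leaf ⟨[(nat_lit 6), (nat_lit 10), (nat_lit 6), (nat_lit 10), (nat_lit 9), (nat_lit 1), (nat_lit 8), (nat_lit 6), (nat_lit 10)], (nat_lit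 276), (nat_lit 5), (nat_lit 0), (nat_lit 4)⟩))) (BT.node (nat_lit 60) (BT.node (nat_lit 59) (BT.leaf ⟨[(nat_lit 9), (nat_lit 4), (nat_lit 9), (nat_lit 4)], (nat_lit 124), (nat_lit 0), (nat_lit 0), (nat_lit 4)⟩) (BT.leaf ⟨[(nat_lit 6), (nat_lit 1), (nat_lit 7), (nat_lit 5), (nat_lit 4), (nat_lit 1), (nat_lit 4)], (nat_lit 25), (nat_lit 2), (nat_lit 0), (nat_lit 4)⟩)) (BT.node (nat_lit 61) (BT.leaf ⟨[(nat_lit 6), (nat_lit 1), (nat_lit 5), (nat_lit 1)], (nat_lit 9), (nat_lit 3), (nat_lit 0), (nat_lit 4)⟩) (BT.node (nat_lit 62) (BT.leaf ⟨[(nat_lit 5), (nat_lit 1), (nat_lit 6), (nat_lit 1)], (nat_lit 9), (nat_lit 1), (nat_lit 0), (nat_lit 4)⟩) (BT.leaf ⟨[(nat_lit 9), (nat_lit 1), (nat_lit 9), (nat_lit 1)], (nat_lit 122), (nat_lit 0), (nat_lit 0), (nat_lit 4)⟩))))) (BT.node (nat_lit 68) (BT.node (nat_lit 65) (BT.node (nat_lit 64) (BT.leaf ⟨[(nat_lit 9), (nat_lit 9)], (nat_lit 120), (nat_lit 0), (nat_lit 0), (nat_lit 4)⟩) (BT.leaf ⟨[(nat_lit 3), (nat_lit 10),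 (nat_lit 2), (nat_lit 10)], (nat_lit 130), (nat_lit 3), (nat_lit 0), (nat_lit 4)⟩)) (BT.node (nat_lit 66) (BT.leaf ⟨[(nat_lit 8), (nat_lit 3), (nat_lit 6), (nat_lit 4), (nat_lit 5), (nat_lit 4), (nat_lit 1), (nat_lit 2)], (nat_lit 32), (nat_lit 2), (nat_lit 0), (nat_lit 4)⟩) (BT.node (nat_lit 67) (BT.leaf ⟨[(nat_lit 8), (nat_lit 2), (nat_lit 8), (nat_lit 2), (nat_lit 8), (nat_lit 2)], (nat_lit 23), (nat_lit 1), (nat_lit 0), (nat_lit 4)⟩) (BT.leaf ⟨[(nat_lit 5), (nat_lit 5), (nat_lit 5)], (nat_lit 5), (nat_lit 0), (nat_lit 0), (nat_lit 4)⟩)))) (BT.node (nat_lit 70) (BT.node (nat_lit 69) (BT.leaf ⟨[(nat_lit 4), (nat_lit 1), (nat_lit 4), (nat_lit 6), (nat_lit 1), (nat_lit 7), (nat_lit 5)], (nat_lit 25), (nat_lit 6), (nat_lit 0), (nat_lit 4)⟩) (BT.leaf ⟨[(nat_lit 3), (nat_lit 5), (nat_lit 10), (nat_lit 6), (nat_lit 3), (nat_lit 8), (nat_lit 4), (nat_lit 2), (nat_lit 9), (nat_lit 5), (nat_lit 10), (nat_lit 6), (nat_lit 2), (nat_lit 5), (nat_lit 10), (nat_lit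 6)], (nat_lit 134), (nat_lit 7), (nat_lit 0), (nat_lit 4)⟩)) (BT.node (nat_lit 71) (BT.leaf ⟨[(nat_lit 2), (nat_lit 9), (nat_lit 3), (nat_lit 9)], (nat_lit 123), (nat_lit 1), (nat_lit 0), (nat_lit 4)⟩) (BT.node (nat_lit 72) (BT.leaf ⟨[(nat_lit 2), (nat_lit 2), (nat_lit 2)], (nat_lit 4), (nat_lit 0), (nat_lit 0), (nat_lit 4)⟩) (BT.leaf ⟨[(nat_lit 0), (nat_lit 5), (nat_lit 10), (nat_lit 6), (nat_lit 2), (nat_lit 5), (nat_lit 10), (nat_lit 6), (nat_lit 3), (nat_lit 5), (nat_lit 10), (nat_lit 6), (nat_lit 9), (nat_lit 3), (nat_lit 4), (nat_lit 8), (nat_lit 2)], (nat_lit 277), (nat_lit 5), (nat_lit 1), (nat_lit 4)⟩))))))))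
noncomputable def eDi2_hcs : List CW := [⟨[(nat_lit 1)], (nat_lit 0), (nat_lit 0), (nat_lit 0), (nat_lit 0)⟩, ⟨[(nat_lit 2)], (nat_lit 1), (nat_lit 0), (nat_lit 0), (nat_lit 0)⟩, ⟨[(nat_lit 4)], (nat_lit 2), (nat_lit 0), (nat_lit 0), (nat_lit 0)⟩, ⟨[(nat_lit 5)], (nat_lit 3), (nat_lit 0), (nat_lit 0), (nat_lit 0)⟩, ⟨[(nat_lit 7)], (nat_lit 4), (nat_lit 0), (nat_lit 0), (nat_lit 0)⟩, ⟨[(nat_lit 8)], (nat_lit 5), (nat_lit 0), (nat_lit 0), (nat_lit 0)⟩, ⟨[(nat_lit 9)], (nat_lit 6), (nat_lit 0), (nat_lit 0), (nat_lit 0)⟩, ⟨[(nat_lit 1)], (nat_lit 7), (nat_lit 0), (nat_lit 0), (nat_lit 0)⟩, ⟨[(nat_lit 3)], (nat_lit 8), (nat_lit 0), (nat_lit 0), (nat_lit 0)⟩, ⟨[(nat_lit 4)], (nat_lit 9), (nat_lit 0), (nat_lit 0), (nat_lit 0)⟩, ⟨[(nat_lit 6)], (nat_lit 10), (nat_lit 0), (nat_lit 0), (nat_lit 0)⟩, ⟨[(nat_lit 7)], (nat_lit 11), (nat_lit 0), (nat_lit 0), (nat_lit 0)⟩, ⟨[(nat_lit 8)], (nat_lit 12), (nat_lit 0), (nat_lit 0), (nat_lit 0)⟩, ⟨[(nat_lit 9)], (nat_lit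 13), (nat_lit 0), (nat_lit 0), (nat_lit 0)⟩]
noncomputable def eDi2_H (x j : Nat) : Bx (Nat → Nat → Nat) := mkH eDi2_L eDi2_pb.1 eDi2_e.get (lmap CW.w eDi2_hcs) (nat_lit 1) (nat_lit 2) (nat_lit 11) (nat_lit 128) (nat_lit 16384) (nat_lit 8191) x (eDi2_rots.get j)
noncomputable def eDi2_F (x b : Nat) : Bool := blkOK eDi2_H eDi2_ch (nat_lit 2) (nat_lit 128) (nat_lit 128) (nat_lit 7) (nat_lit 127) (nat_lit 20) (nat_lit 1048575) x b

theorem eDi2_k0_0 : allFrom (eDi2_F (nat_lit 0)) (nat_lit 0) (nat_lit 2) = true := by decide +kernel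
theorem eDi2_k1_0 : allFrom (eDi2_F (nat_lit 1)) (nat_lit 0) (nat_lit 2) = true := by decide +kernel
theorem eDi2_k2_0 : allFrom (eDi2_F (nat_lit 2)) (nat_lit 0) (nat_lit 2) = true := by decide +kernel
theorem eDi2_k3_0 : allFrom (eDi2_F (nat_lit 3)) (nat_lit 0) (nat_lit 2) = true := by decide +kernel
theorem eDi2_k4_0 : allFrom (eDi2_F (nat_lit 4)) (nat_lit 0) (nat_lit 2) = true := by decide +kernel
theorem eDi2_k5_0 : allFrom (eDi2_F (nat_lit 5)) (nat_lit 0) (nat_lit 2) = true := by decide +kernel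
theorem eDi2_k6_0 : allFrom (eDi2_F (nat_lit 6)) (nat_lit 0) (nat_lit 2) = true := by decide +kernel
theorem eDi2_k7_0 : allFrom (eDi2_F (nat_lit 7)) (nat_lit 0) (nat_lit 2) = true := by decide +kernel
theorem eDi2_k8_0 : allFrom (eDi2_F (nat_lit 8)) (nat_lit 0) (nat_lit 2) = true := by decide +kernel
theorem eDi2_k9_0 : allFrom (eDi2_F (nat_lit 9)) (nat_lit 0) (nat_lit 2) = true := by decide +kernel
theorem eDi2_k10_0 : allFrom (eDi2_F (nat_lit 10)) (nat_lit 0) (nat_lit 2) = true := by decide +kernel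

noncomputable def eDi3_c0 : BT (Bx Nat) := (BT.leaf (Bx.mk (nat_lit 0x261b700000201ab000000000000000000000000000000000000000000000000000000000000000000000000000201a30000000000000001c19b000000000000000000000000000000000000000000000000001c1970000018191000000000000000000000000000000000001818e1418900000101891418a0000000000081821418710185101850c1840000000000041810000000000)))
noncomputable def eDi3_c1 : BT (Bx Nat) := (BT.leaf (Bx.mk (nat_lit 0x847c3000000000000000000002e13c00000000002943f5c3b95c3b5000007c3ae7c3ab00000000008c3b28c3af894340000000000894330000000000000000000000000647a564b22647a1000006142984b1c8479b000006142794b1e9479d914209141f81424814236da186da166941a8d99169419000009d7920000099414894178cb0c8c78b94b0a94789000008940f9140e9140d954869d3859140899407a0b04a0783a4382ac18100000)))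
noncomputable def eDi3_c2 : BT (Bx Nat) := (BT.leaf (Bx.mk (nat_lit 0xa4432000000000000000a442e98fbe00000000000000000000000000000000000000000000000000a0fc1000000000000000a0fbd00000a0fad00000000000000000000000000000000000000000000000000000000000000000ac0b000000ac0ac000000000000000a0f9900000a8f8ca0f96a8f8a00000a8f89a0f92ac09aac098ac09700000ac09500000ac093ac091a8f84a0f88a8f83a0f86ac087ac085a4402ac18100000)))
noncomputable def eDi3_c3 : BT (Bx Nat) := (BT.leaf (Bx.mk (nat_lit 0xa5e3200000000009de3da5e2e4e0c400000000000000000000000000000000000000000000000000000000000000000a04bea502ca849c00000000000000000000000000000000000000000000000000000000000000000ac0b100000ac0ad00000a8490a5018a848fa848ea5015a848ca5013a848aa5011a848900000ac0990000000000ac09600000ac094ac092a5007a8484a5005a8483ac088ac086a0482a820100000)))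
noncomputable def eDi3_c4 : BT (Bx Nat) := (BT.leaf (Bx.mk (nat_lit 0x309bf0000000000000000000000000000000000000000000000000044632000000000079b3500000806334113800000000006462f000000000000000000004db1e00000511246c99d5db220000055ba800000591268899f88c9c851214912a6912700000000007591499098000008591681117000000000000000910918d112000009c98f8cc8c9c98d8910e000007969094989990879510899085951069cc849c983a4602ac18100000)))
noncomputable def eDi3_c5 : BT (Bx Nat) := (BT.leaf (Bx.mk (nat_lit 0x51eba000000000000000a8a2f51ebb00000000000000054a2e54a345dc380000000000000005dc32ac0c400000ac0c3000000000000000ac0bf00000000000000000000000000000000000a8a1800000a8a17a0a24a8a1600000a8a14a0a20a8a12a0a1ea8a11a0a1cac0a9ac0a7ac0a5ac0a3ac0a100000ac09f00000ac09dac09ba8a08a0a10a8a0700000a8a06a0a0ca8a05a0a0aac08fac08dac08bac089a8a02a0a04ac083ac18100000)))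
noncomputable def eDi3_c6 : BT (Bx Nat) := (BT.leaf (Bx.mk (nat_lit 0xa8732000000000084ab6a872e000000000000000000000000000000000000000089d2f0000059dba00000587350000000000ac0c059dbb0000000000ac0bca4aa9a871aa4aa7a8719a4aa5a8718a4aa3a8717a4aa1a8716a4a9fa8714a4a9da8712a4a9ba8711ac0aaac0a8ac0a6ac0a4ac0a200000ac0a000000ac09eac09ca4a8fa8708a4a8da8707a4a8ba8706a4a89a8705ac090ac08eac08cac08aa4a83a8702ac084a828100000)))
noncomputable def eDi3_c7 : BT (Bx Nat) := (BT.leaf (Bx.mk (nat_lit 0x6452f0000000000000000000080533000007dab5000000000000000000000000000000000000000055aa400000000006c81d5da9c6c81b5882a000006daa08881f7082285aa15882869aa76082600000000000000088e18000007d19600000000000000000000000007c8108c80f00000000008080c8880b000000000091188000009918698e05948049c803a4502ac18100000)))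
noncomputable def eDi3_c8 : BT (Bx Nat) := (BT.leaf (Bx.mk (nat_lit 0x4984000000000003983d4cbc40000035fc23df41000000000000000000000000000000000000000000000606b555cb200000000000000000000000000000000000000005d823000005d81d84ba66581b0000061629000007581f000007892100000616270000068925000006d81274f117129a9189490f138d8168d81571299718188cb908160f0000000000000008490b94b8a0000091288a0f078d28690f05a0b8498903a0682ac18100000)))
noncomputable def eDi3_c9 : BT (Bx Nat) := (BT.leaf (Bx.mk (nat_lit 0x688c0000000000000000660440000000000000000000000000000000000000000000006c5b400000000000000000000000000000000000000000000000000000000000000000000000000000000908a5000000000000000908a190c200000000000000000000000000000000000094e9800000952160000095214000009521200000000009888f000000000098c0c0000098c0a988899d2089ce879d2069ce85a0c04a0883a4582ac18100000)))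
noncomputable def eDi3_c10 : BT (Bx Nat) := (BT.leaf (Bx.mk (nat_lit 0xa8dac00000a8da9a8da7a8da5a8da4a8da300000a8da1a8da0a8d9fa8d9eac0c2ac0c1a8d9da8d9cac0beac0bda8d9b00000ac0bb00000ac0ba00000ac0b9ac0b8ac0b7ac0b6ac0b5ac0b4ac0b3ac0b2ac0afac0aeac0ab0000000000000008531700000000000000000000917120000000000000008958e8d58d00000000008cd0a9550900000953050000090d879cd0398d84a8301ac10200000)))
noncomputable def eDi3_p : BT (Bx Nat) := (BT.leaf (Bx.mk (nat_lit 0x10d058642c312a18150bc685c2c2d2a16150ac675253a729d294e90a74653a229d094e80a73e539e29cf06e78273a539c29ce06e702736531a198d0ac6466322b18198c0ac5c662e2b16198b0ac5066282b1219890ac4466222a90094786a3c251c128c0d4604a28351412890d448482064102a0719038a818640c2a0519028a610330811830cc184408620428812800000000)))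
noncomputable def eDi3_e0 : BT Nat := (BT.node (nat_lit 512) (BT.node (nat_lit 72) (BT.node (nat_lit 68) (BT.node (nat_lit 66) (BT.leaf (nat_lit 2)) (BT.leaf (nat_lit 262146))) (BT.node (nat_lit 69) (BT.leaf (nat_lit 524290)) (BT.node (nat_lit 71) (BT.leaf (nat_lit 786434)) (BT.leaf (nat_lit 1048578))))) (BT.node (nat_lit 320) (BT.node (nat_lit 73) (BT.leaf (nat_lit 1310722)) (BT.node (nat_lit 128) (BT.leaf (nat_lit 1572866)) (BT.leaf (nat_lit 3369)))) (BT.node (nat_lit 384) (BT.leaf (nat_lit 2057)) (BT.node (nat_lit 448) (BT.leaf (nat_lit 3093)) (BT.leaf (nat_lit 3865)))))) (BT.node (nat_lit 1024) (BT.node (nat_lit 768) (BT.node (nat_lit 576) (BT.leaf (nat_lit 4117)) (BT.leaf (nat_lit 2069))) (BT.node (nat_lit 832) (BT.leaf (nat_lit 4101)) (BT.node (nat_lit 960) (BT.leaf (nat_lit 4121)) (BT.leaf (nat_lit 6157))))) (BT.node (nat_lit 2368) (BT.node (nat_lit 1536) (BT.leaf (nat_lit 6669)) (BT.node (nat_lit 1664) (BT.leaf (nat_lit 9497)) (BT.leaf (nat_lit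 10521)))) (BT.node (nat_lit 2624) (BT.leaf (nat_lit 14633)) (BT.node (nat_lit 3648) (BT.leaf (nat_lit 15145)) (BT.leaf (nat_lit 15109)))))))
noncomputable def eDi3_e : BT Nat := eDi3_e0
noncomputable def eDi3_cols : List (BT (Bx Nat)) := [eDi3_c0, eDi3_c1, eDi3_c2, eDi3_c3, eDi3_c4, eDi3_c5, eDi3_c6, eDi3_c7, eDi3_c8, eDi3_c9, eDi3_c10]
noncomputable def eDi3_ch (x j : Nat) : Bx Nat := chunkG eDi3_cols (nat_lit 1) x j
noncomputable def eDi3_L (x : Nat) : Bx (Nat → Nat) := lookG eDi3_ch (nat_lit 7) (nat_lit 127) (nat_lit 20) (nat_lit 1048575) x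
noncomputable def eDi3_pc (_ j : Nat) : Bx Nat := eDi3_p.get j
noncomputable def eDi3_pb : Bx (Nat → Nat) := lookG eDi3_pc (nat_lit 7) (nat_lit 127) (nat_lit 17) (nat_lit 131071) (nat_lit 0)
noncomputable def eDi3_rots : BT CW := (BT.node (nat_lit 33) (BT.node (nat_lit 16) (BT.node (nat_lit 8) (BT.node (nat_lit 4) (BT.node (nat_lit 2) (BT.node (nat_lit 1) (BT.leaf ⟨[], (nat_lit 1000000), (nat_lit 0), (nat_lit 0), (nat_lit 0)⟩) (BT.leaf ⟨[], (nat_lit 1000000), (nat_lit 0), (nat_lit 0), (nat_lit 1)⟩)) (BT.node (nat_lit 3) (BT.leaf ⟨[], (nat_lit 1000000), (nat_lit 0), (nat_lit 0), (nat_lit 2)⟩) (BT.leaf ⟨[(nat_lit 3), (nat_lit 2)], (nat_lit 141), (nat_lit 1), (nat_lit 0), (nat_lit 3)⟩))) (BT.node (nat_lit 6) (BT.node (nat_lit 5) (BT.leaf ⟨[(nat_lit 6), (nat_lit 5)], (nat_lit 139), (nat_lit 1), (nat_lit 0), (nat_lit 3)⟩) (BT.leaf ⟨[(nat_lit 10), (nat_lit 10)], (nat_lit 121), (nat_lit 0), (nat_lit 0), (nat_lit 3)⟩)) (BT.node (nat_lit 7) (BT.leaf ⟨[(nat_lit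 1), (nat_lit 10), (nat_lit 1), (nat_lit 10)], (nat_lit 129), (nat_lit 1), (nat_lit 0), (nat_lit 4)⟩) (BT.leaf ⟨[(nat_lit 2), (nat_lit 10), (nat_lit 3), (nat_lit 10)], (nat_lit 130), (nat_lit 1), (nat_lit 0), (nat_lit 4)⟩)))) (BT.node (nat_lit 12) (BT.node (nat_lit 10) (BT.node (nat_lit 9) (BT.leaf ⟨[(nat_lit 3), (nat_lit 2)], (nat_lit 141), (nat_lit 1), (nat_lit 0), (nat_lit 4)⟩) (BT.leaf ⟨[(nat_lit 7), (nat_lit 10), (nat_lit 7), (nat_lit 10)], (nat_lit 131), (nat_lit 1), (nat_lit 0), (nat_lit 4)⟩)) (BT.node (nat_lit 11) (BT.leaf ⟨[(nat_lit 9), (nat_lit 10), (nat_lit 9), (nat_lit 7), (nat_lit 10)], (nat_lit 128), (nat_lit 1), (nat_lit 0), (nat_lit 4)⟩) (BT.leaf ⟨[(nat_lit 4), (nat_lit 10), (nat_lit 4), (nat_lit 7), (nat_lit 10)], (nat_lit 132), (nat_lit 1), (nat_lit 0), (nat_lit 4)⟩))) (BT.node (nat_lit 14) (BT.node (nat_lit 13) (BT.leaf ⟨[(nat_lit 8), (nat_lit 7), (nat_lit 1), (nat_lit 4), (nat_lit 1), (nat_lit 4)], (nat_lit 20), (nat_lit 4), (nat_lit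 0), (nat_lit 4)⟩) (BT.leaf ⟨[(nat_lit 6), (nat_lit 5)], (nat_lit 139), (nat_lit 1), (nat_lit 0), (nat_lit 4)⟩)) (BT.node (nat_lit 15) (BT.leaf ⟨[(nat_lit 1), (nat_lit 6), (nat_lit 1), (nat_lit 5)], (nat_lit 9), (nat_lit 2), (nat_lit 0), (nat_lit 4)⟩) (BT.leaf ⟨[(nat_lit 7), (nat_lit 6), (nat_lit 8), (nat_lit 5)], (nat_lit 13), (nat_lit 1), (nat_lit 0), (nat_lit 4)⟩))))) (BT.node (nat_lit 24) (BT.node (nat_lit 20) (BT.node (nat_lit 18) (BT.node (nat_lit 17) (BT.leaf ⟨[(nat_lit 9), (nat_lit 6), (nat_lit 9), (nat_lit 5)], (nat_lit 125), (nat_lit 2), (nat_lit 0), (nat_lit 4)⟩) (BT.leaf ⟨[(nat_lit 8), (nat_lit 6), (nat_lit 7), (nat_lit 5), (nat_lit 7)], (nat_lit 17), (nat_lit 2), (nat_lit 0), (nat_lit 4)⟩)) (BT.node (nat_lit 19) (BT.leaf ⟨[(nat_lit 4), (nat_lit 6), (nat_lit 3), (nat_lit 8), (nat_lit 2), (nat_lit 5)], (nat_lit 22), (nat_lit 2), (nat_lit 0), (nat_lit 4)⟩) (BT.leaf ⟨[(nat_lit 5), (nat_lit 6)], (nat_lit 139), (nat_lit 0), (nat_lit 0), (nat_lit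 4)⟩))) (BT.node (nat_lit 22) (BT.node (nat_lit 21) (BT.leaf ⟨[(nat_lit 6), (nat_lit 6), (nat_lit 6)], (nat_lit 148), (nat_lit 0), (nat_lit 0), (nat_lit 4)⟩) (BT.leaf ⟨[(nat_lit 1), (nat_lit 5), (nat_lit 1), (nat_lit 6)], (nat_lit 9), (nat_lit 0), (nat_lit 0), (nat_lit 4)⟩)) (BT.node (nat_lit 23) (BT.leaf ⟨[(nat_lit 8), (nat_lit 5), (nat_lit 7), (nat_lit 6)], (nat_lit 13), (nat_lit 3), (nat_lit 0), (nat_lit 4)⟩) (BT.leaf ⟨[(nat_lit 9), (nat_lit 5), (nat_lit 9), (nat_lit 6)], (nat_lit 125), (nat_lit 0), (nat_lit 0), (nat_lit 4)⟩)))) (BT.node (nat_lit 28) (BT.node (nat_lit 26) (BT.node (nat_lit 25) (BT.leaf ⟨[(nat_lit 4), (nat_lit 5), (nat_lit 4), (nat_lit 1), (nat_lit 2), (nat_lit 8), (nat_lit 3), (nat_lit 6)], (nat_lit 32), (nat_lit 5), (nat_lit 0), (nat_lit 4)⟩) (BT.leaf ⟨[(nat_lit 10), (nat_lit 6), (nat_lit 10), (nat_lit 6), (nat_lit 10), (nat_lit 9), (nat_lit 1), (nat_lit 8), (nat_lit 6)], (nat_lit 276), (nat_lit 4), (nat_lit 0), (nat_lit 4)⟩)) (BT.node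 (nat_lit 27) (BT.leaf ⟨[(nat_lit 10), (nat_lit 10)], (nat_lit 121), (nat_lit 0), (nat_lit 0), (nat_lit 4)⟩) (BT.leaf ⟨[(nat_lit 7), (nat_lit 3), (nat_lit 7), (nat_lit 2)], (nat_lit 11), (nat_lit 1), (nat_lit 0), (nat_lit 4)⟩))) (BT.node (nat_lit 30) (BT.node (nat_lit 29) (BT.leaf ⟨[(nat_lit 9), (nat_lit 3), (nat_lit 9), (nat_lit 2)], (nat_lit 123), (nat_lit 2), (nat_lit 0), (nat_lit 4)⟩) (BT.leaf ⟨[(nat_lit 8), (nat_lit 3), (nat_lit 5), (nat_lit 4), (nat_lit 7), (nat_lit 6), (nat_lit 2)], (nat_lit 27), (nat_lit 1), (nat_lit 0), (nat_lit 4)⟩)) (BT.node (nat_lit 31) (BT.leaf ⟨[(nat_lit 2), (nat_lit 3)], (nat_lit 141), (nat_lit 0), (nat_lit 0), (nat_lit 4)⟩) (BT.node (nat_lit 32) (BT.leaf ⟨[(nat_lit 3), (nat_lit 3), (nat_lit 3)], (nat_lit 147), (nat_lit 0), (nat_lit 0), (nat_lit 4)⟩) (BT.leaf ⟨[(nat_lit 4), (nat_lit 3), (nat_lit 4), (nat_lit 3)], (nat_lit 151), (nat_lit 0), (nat_lit 0), (nat_lit 4)⟩))))))) (BT.node (nat_lit 50) (BT.node (nat_lit 41) (BT.node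 (nat_lit 37) (BT.node (nat_lit 35) (BT.node (nat_lit 34) (BT.leaf ⟨[(nat_lit 4), (nat_lit 4)], (nat_lit 1), (nat_lit 0), (nat_lit 0), (nat_lit 4)⟩) (BT.leaf ⟨[(nat_lit 7), (nat_lit 2), (nat_lit 7), (nat_lit 3)], (nat_lit 11), (nat_lit 3), (nat_lit 0), (nat_lit 4)⟩)) (BT.node (nat_lit 36) (BT.leaf ⟨[(nat_lit 9), (nat_lit 2), (nat_lit 9), (nat_lit 3)], (nat_lit 123), (nat_lit 0), (nat_lit 0), (nat_lit 4)⟩) (BT.leaf ⟨[(nat_lit 8), (nat_lit 4), (nat_lit 8), (nat_lit 4)], (nat_lit 15), (nat_lit 1), (nat_lit 0), (nat_lit 4)⟩))) (BT.node (nat_lit 39) (BT.node (nat_lit 38) (BT.leaf ⟨[(nat_lit 10), (nat_lit 3), (nat_lit 10), (nat_lit 2)], (nat_lit 130), (nat_lit 2), (nat_lit 0), (nat_lit 4)⟩) (BT.leaf ⟨[(nat_lit 1), (nat_lit 3), (nat_lit 6), (nat_lit 2), (nat_lit 1), (nat_lit 3), (nat_lit 6), (nat_lit 2)], (nat_lit 176), (nat_lit 3), (nat_lit 0), (nat_lit 4)⟩)) (BT.node (nat_lit 40) (BT.leaf ⟨[(nat_lit 1), (nat_lit 1)], (nat_lit 0), (nat_lit 0), (nat_lit 0), (nat_lit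 4)⟩) (BT.leaf ⟨[(nat_lit 1), (nat_lit 3), (nat_lit 1), (nat_lit 3), (nat_lit 1), (nat_lit 3)], (nat_lit 162), (nat_lit 1), (nat_lit 0), (nat_lit 4)⟩)))) (BT.node (nat_lit 45) (BT.node (nat_lit 43) (BT.node (nat_lit 42) (BT.leaf ⟨[(nat_lit 10), (nat_lit 6), (nat_lit 3), (nat_lit 5), (nat_lit 10), (nat_lit 6), (nat_lit 8), (nat_lit 2), (nat_lit 1), (nat_lit 4), (nat_lit 1), (nat_lit 9), (nat_lit 5), (nat_lit 10), (nat_lit 6), (nat_lit 2), (nat_lit 5)], (nat_lit 134), (nat_lit 5), (nat_lit 0), (nat_lit 4)⟩) (BT.leaf ⟨[(nat_lit 10), (nat_lit 1), (nat_lit 10), (nat_lit 1)], (nat_lit 129), (nat_lit 0), (nat_lit 0), (nat_lit 4)⟩)) (BT.node (nat_lit 44) (BT.leaf ⟨[(nat_lit 8), (nat_lit 1), (nat_lit 8), (nat_lit 1)], (nat_lit 14), (nat_lit 1), (nat_lit 0), (nat_lit 4)⟩) (BT.leaf ⟨[(nat_lit 4), (nat_lit 8), (nat_lit 7), (nat_lit 1), (nat_lit 4), (nat_lit 1)], (nat_lit 20), (nat_lit 3), (nat_lit 0), (nat_lit 4)⟩))) (BT.node (nat_lit 47) (BT.node (nat_lit 46) (BT.leaf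 ⟨[(nat_lit 10), (nat_lit 2), (nat_lit 10), (nat_lit 3)], (nat_lit 130), (nat_lit 0), (nat_lit 0), (nat_lit 4)⟩) (BT.leaf ⟨[(nat_lit 1), (nat_lit 2), (nat_lit 6), (nat_lit 3), (nat_lit 1), (nat_lit 2), (nat_lit 6), (nat_lit 3)], (nat_lit 174), (nat_lit 3), (nat_lit 0), (nat_lit 4)⟩)) (BT.node (nat_lit 48) (BT.leaf ⟨[(nat_lit 8), (nat_lit 8)], (nat_lit 3), (nat_lit 0), (nat_lit 0), (nat_lit 4)⟩) (BT.node (nat_lit 49) (BT.leaf ⟨[(nat_lit 8), (nat_lit 2), (nat_lit 5), (nat_lit 4), (nat_lit 6), (nat_lit 3)], (nat_lit 22), (nat_lit 5), (nat_lit 0), (nat_lit 4)⟩) (BT.leaf ⟨[(nat_lit 4), (nat_lit 2), (nat_lit 4), (nat_lit 2)], (nat_lit 8), (nat_lit 1), (nat_lit 0), (nat_lit 4)⟩)))))) (BT.node (nat_lit 58) (BT.node (nat_lit 54) (BT.node (nat_lit 52) (BT.node (nat_lit 51) (BT.leaf ⟨[(nat_lit 1), (nat_lit 2), (nat_lit 1), (nat_lit 2), (nat_lit 1), (nat_lit 2)], (nat_lit 19), (nat_lit 0), (nat_lit 0), (nat_lit 4)⟩) (BT.leaf ⟨[(nat_lit 1), (nat_lit 8), (nat_lit 1),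 (nat_lit 8)], (nat_lit 14), (nat_lit 0), (nat_lit 0), (nat_lit 4)⟩)) (BT.node (nat_lit 53) (BT.leaf ⟨[(nat_lit 7), (nat_lit 7)], (nat_lit 2), (nat_lit 0), (nat_lit 0), (nat_lit 4)⟩) (BT.leaf ⟨[(nat_lit 4), (nat_lit 7), (nat_lit 4), (nat_lit 7)], (nat_lit 12), (nat_lit 0), (nat_lit 0), (nat_lit 4)⟩))) (BT.node (nat_lit 56) (BT.node (nat_lit 55) (BT.leaf ⟨[(nat_lit 4), (nat_lit 1), (nat_lit 4), (nat_lit 8), (nat_lit 7), (nat_lit 1)], (nat_lit 20), (nat_lit 1), (nat_lit 0), (nat_lit 4)⟩) (BT.leaf ⟨[(nat_lit 5), (nat_lit 10), (nat_lit 5), (nat_lit 10), (nat_lit 5), (nat_lit 8), (nat_lit 1), (nat_lit 9), (nat_lit 10)], (nat_lit 133), (nat_lit 1), (nat_lit 0), (nat_lit 4)⟩)) (BT.node (nat_lit 57) (BT.leaf ⟨[(nat_lit 8), (nat_lit 6), (nat_lit 7), (nat_lit 8), (nat_lit 5)], (nat_lit 18), (nat_lit 1), (nat_lit 0), (nat_lit 4)⟩) (BT.leaf ⟨[(nat_lit 6), (nat_lit 10), (nat_lit 6), (nat_lit 10), (nat_lit 9), (nat_lit 1), (nat_lit 8), (nat_lit 6), (nat_lit 10)], (nat_lit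 276), (nat_lit 5), (nat_lit 0), (nat_lit 4)⟩)))) (BT.node (nat_lit 62) (BT.node (nat_lit 60) (BT.node (nat_lit 59) (BT.leaf ⟨[(nat_lit 6), (nat_lit 1), (nat_lit 5), (nat_lit 1)], (nat_lit 9), (nat_lit 3), (nat_lit 0), (nat_lit 4)⟩) (BT.leaf ⟨[(nat_lit 3), (nat_lit 10), (nat_lit 2), (nat_lit 10)], (nat_lit 130), (nat_lit 3), (nat_lit 0), (nat_lit 4)⟩)) (BT.node (nat_lit 61) (BT.leaf ⟨[(nat_lit 5), (nat_lit 5), (nat_lit 5)], (nat_lit 5), (nat_lit 0), (nat_lit 0), (nat_lit 4)⟩) (BT.leaf ⟨[(nat_lit 8), (nat_lit 3), (nat_lit 6), (nat_lit 4), (nat_lit 5), (nat_lit 4), (nat_lit 1), (nat_lit 2)], (nat_lit 32), (nat_lit 2), (nat_lit 0), (nat_lit 4)⟩))) (BT.node (nat_lit 64) (BT.node (nat_lit 63) (BT.leaf ⟨[(nat_lit 8), (nat_lit 2), (nat_lit 8), (nat_lit 2), (nat_lit 8), (nat_lit 2)], (nat_lit 23), (nat_lit 1), (nat_lit 0), (nat_lit 4)⟩) (BT.leaf ⟨[(nat_lit 9), (nat_lit 9)], (nat_lit 120), (nat_lit 0), (nat_lit 0), (nat_lit 4)⟩)) (BT.node (nat_lit 65) (BT.leaf ⟨[(nat_lit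 3), (nat_lit 5), (nat_lit 10), (nat_lit 6), (nat_lit 8), (nat_lit 2), (nat_lit 1), (nat_lit 4), (nat_lit 1), (nat_lit 9), (nat_lit 5), (nat_lit 10), (nat_lit 6), (nat_lit 2), (nat_lit 5), (nat_lit 10), (nat_lit 6)], (nat_lit 134), (nat_lit 7), (nat_lit 0), (nat_lit 4)⟩) (BT.node (nat_lit 66) (BT.leaf ⟨[(nat_lit 1), (nat_lit 3), (nat_lit 8), (nat_lit 5), (nat_lit 10), (nat_lit 6), (nat_lit 2), (nat_lit 5), (nat_lit 10), (nat_lit 6), (nat_lit 3), (nat_lit 5), (nat_lit 10), (nat_lit 6), (nat_lit 9), (nat_lit 1), (nat_lit 4)], (nat_lit 277), (nat_lit 3), (nat_lit 0), (nat_lit 4)⟩) (BT.leaf ⟨[(nat_lit 0), (nat_lit 1), (nat_lit 6), (nat_lit 1), (nat_lit 5)], (nat_lit 9), (nat_lit 2), (nat_lit 1), (nat_lit 4)⟩))))))))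
noncomputable def eDi3_hcs : List CW := [⟨[(nat_lit 1)], (nat_lit 0), (nat_lit 0), (nat_lit 0), (nat_lit 0)⟩, ⟨[(nat_lit 2)], (nat_lit 1), (nat_lit 0), (nat_lit 0), (nat_lit 0)⟩, ⟨[(nat_lit 4)], (nat_lit 2), (nat_lit 0), (nat_lit 0), (nat_lit 0)⟩, ⟨[(nat_lit 5)], (nat_lit 3), (nat_lit 0), (nat_lit 0), (nat_lit 0)⟩, ⟨[(nat_lit 7)], (nat_lit 4), (nat_lit 0), (nat_lit 0), (nat_lit 0)⟩, ⟨[(nat_lit 8)], (nat_lit 5), (nat_lit 0), (nat_lit 0), (nat_lit 0)⟩, ⟨[(nat_lit 9)], (nat_lit 6), (nat_lit 0), (nat_lit 0), (nat_lit 0)⟩, ⟨[(nat_lit 1)], (nat_lit 7), (nat_lit 0), (nat_lit 0), (nat_lit 0)⟩, ⟨[(nat_lit 3)], (nat_lit 8), (nat_lit 0), (nat_lit 0), (nat_lit 0)⟩, ⟨[(nat_lit 4)], (nat_lit 9), (nat_lit 0), (nat_lit 0), (nat_lit 0)⟩, ⟨[(nat_lit 6)], (nat_lit 10), (nat_lit 0), (nat_lit 0), (nat_lit 0)⟩, ⟨[(nat_lit 7)], (nat_lit 11), (nat_lit 0), (nat_lit 0), (nat_lit 0)⟩, ⟨[(nat_lit 8)], (nat_lit 12), (nat_lit 0), (nat_lit 0), (nat_lit 0)⟩, ⟨[(nat_lit 9)], (nat_lit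 13), (nat_lit 0), (nat_lit 0), (nat_lit 0)⟩]
noncomputable def eDi3_H (x j : Nat) : Bx (Nat → Nat → Nat) := mkH eDi3_L eDi3_pb.1 eDi3_e.get (lmap CW.w eDi3_hcs) (nat_lit 1) (nat_lit 2) (nat_lit 11) (nat_lit 128) (nat_lit 16384) (nat_lit 8191) x (eDi3_rots.get j)
noncomputable def eDi3_F (x b : Nat) : Bool := blkOK eDi3_H eDi3_ch (nat_lit 2) (nat_lit 128) (nat_lit 128) (nat_lit 7) (nat_lit 127) (nat_lit 20) (nat_lit 1048575) x b

theorem eDi3_k0_0 : allFrom (eDi3_F (nat_lit 0)) (nat_lit 0) (nat_lit 2) = true := by decide +kernel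
theorem eDi3_k1_0 : allFrom (eDi3_F (nat_lit 1)) (nat_lit 0) (nat_lit 2) = true := by decide +kernel
theorem eDi3_k2_0 : allFrom (eDi3_F (nat_lit 2)) (nat_lit 0) (nat_lit 2) = true := by decide +kernel
theorem eDi3_k3_0 : allFrom (eDi3_F (nat_lit 3)) (nat_lit 0) (nat_lit 2) = true := by decide +kernel
theorem eDi3_k4_0 : allFrom (eDi3_F (nat_lit 4)) (nat_lit 0) (nat_lit 2) = true := by decide +kernel
theorem eDi3_k5_0 : allFrom (eDi3_F (nat_lit 5)) (nat_lit 0) (nat_lit 2) = true := by decide +kernel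
theorem eDi3_k6_0 : allFrom (eDi3_F (nat_lit 6)) (nat_lit 0) (nat_lit 2) = true := by decide +kernel
theorem eDi3_k7_0 : allFrom (eDi3_F (nat_lit 7)) (nat_lit 0) (nat_lit 2) = true := by decide +kernel
theorem eDi3_k8_0 : allFrom (eDi3_F (nat_lit 8)) (nat_lit 0) (nat_lit 2) = true := by decide +kernel
theorem eDi3_k9_0 : allFrom (eDi3_F (nat_lit 9)) (nat_lit 0) (nat_lit 2) = true := by decide +kernel
theorem eDi3_k10_0 : allFrom (eDi3_F (nat_lit 10)) (nat_lit 0) (nat_lit 2) = true := by decide +kernel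

noncomputable def eDo0_c0 : BT (Bx Nat) := (BT.node (nat_lit 1) (BT.leaf (Bx.mk (nat_lit 0x3832f00000000000000000000000000000000000000000000000000000000000000000000000000a06980000000000140cbcc065c00000000000000000000000000000000000000000048332000000000008065e0000000000000000906700000000000160cd4c06680000028199000000000004832f00000000000000004032b00000000000000000000000000080c04000000000008180800000000000000014180800000000005031600000000000b06260000000000120c5800000000002818c8000009062e503162c18a940c5090626000001c188860c04000000000000000000000606060000028184800000000005030a241848e0c08706084830500000120c14806063830318181020c040000000000))) (BT.leaf (Bx.mk (nat_lit 0xd073a74d9e00000000000000000000000000000000000000000000000000000000000000000000000000000000000000000000000d06cc0000000000000000000000000000000000000000004032f000000000000000000000000000000000000060373341b90000000000000000))))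
noncomputable def eDo0_c1 : BT (Bx Nat) := (BT.node (nat_lit 1) (BT.leaf (Bx.mk (nat_lit 0x503dda80eea0000000000000001b7f0200000000000000000000000000a07b3501d9680ec8000000000046a2200000000000a1eae800002a7ac0daa68000004ea1ce750e53a8718d447c6a238000014a86900000000002750d6f073b78b1d3c3ce5e0ea400000787a84858f1e0e84f1641787a03aa1640000000000943a44a591e51e8d3072b98b154c3ca662c5f2284f9142748a13660e6531631987983aa1540000000000a839c5458dea1e6d1a856000003aa16c000014a83fa541f000002a0e5d5162da87964aa116550880000095424d2a0d6950694a833954264aa12e550953071c8198c40cc8e60e330331b7d413501c5a7543d43111a0389cca086862292a8287d412589c5e5504afa827ad40d4ea08ac5a253a81d9d40fd6a056750414160ca0785d4582aa1e133a8109d407d2a03a9501b52a06b1382d2a022b500f69604b4781dc1c0b0060200000))) (BT.leaf (Bx.mk (nat_lit 0x683d600000000000000000000000000260f3d3169d000000000000000000000000000000000000000000000004aa2a4000000000000000000001c0ef400000707c9b85a15c1f080000000000465a2c000011878990b31c83d8a40ec20000000000000002251212166e907b6c81db000000da895000000000000000000000))))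
noncomputable def eDo0_c2 : BT (Bx Nat) := (BT.node (nat_lit 1) (BT.leaf (Bx.mk (nat_lit 0x179f33000000000000000000000000000000000000179f2f000000000000000000000000000000000000000000000005e7ca4000017082800000000000000000000000000347e32e104a00000000000000000000000000b8411000000000000000000000000001d10ad7081f000000000000000000000000005c207000001801800000000000000000f1f68b840c800000000000000000000000002e102c00000c00b7800003002d7801697cf9e5c204c000000000000000600583002bb69f59000000000000000000000b4f920000000000000000b4fa2de7c340000000000bcf865a7c6ed3e7179f0b000005a7ccaf3e1569f15b4f95de7c26d3e2580126c0091e004830023b8011ac008be004530022379f04b4f845e7c0ed3e0d80107c0082dc200b0060200000))) (BT.leaf (Bx.mk (nat_lit 0x1397457087a4664e000000000000000042551800002e10e2000000000000000000000c47a0000000000000000000000000005c217c0000000000000000000000000000000000000000000000000000000000000000000000000000000000000000000000000000000000000000000000000000000000000000))))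
noncomputable def eDo0_c3 : BT (Bx Nat) := (BT.node (nat_lit 1) (BT.leaf (Bx.mk (nat_lit 0xbc4998000000000000000bc498800002f1260fa03c00000000000000000000000000000000000017892ab44cd000002f12520000000000000002e6a5000000000003825240000000000000005cd494000000000000000000000000017352200000000003003180000000000000002e6a3e000000000058d4fc0000180181b9a8e000000000010392f000006005e4000017351900000000002c6a6400000c00b85cd4580000000000c00b40000000000000000b9a89800003002bc0000000000000002d12ab72023bc487da253c0000000000000005c8076f121b68942b900d5e2432d127600000bc485da24d6e40297890ab44975c8046f121380127c00926004870023d8011bc008c6004570022572007bc4825c8016f120780108c00835a240af080200000))) (BT.leaf (Bx.mk (nat_lit 0x3c4d380000000000b89a00000000000000000809ab0000000000000000000000000000000000000000000000000000000000000000000000000000000da056000000000000000000000000000000000000000000000000000000000000000))))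
noncomputable def eDo0_c4 : BT (Bx Nat) := (BT.node (nat_lit 1) (BT.leaf (Bx.mk (nat_lit 0x1e18f4e996e000003a89f5d42d60000000000000001745211996300000000002518e200000000003889f000000e3a897113c80000000000f21685514c0000015451af0c6400000000001f450600000000004a8574000000000069d1b80000000000c3a2d0000000000000000ca24b80996000001c74820000000000000000000000000069daa000001f58ac0000075d1f000002a6490e3b4e00000468531b44a33933300000000000000010b82f9111c3e64c4000012b23b6512d800002142b33992a9912042c971e44740000000000000001744b0fa253999174c88d26265310c168908a44c854000015a12300000483072642353321bac60fd68474000011a222951104a8886618333a1179910c000000000010a2279c609d284468442400000b0987d06432c261b3a20ea0985c6b042a26135a107a9104568416a440d61904b0981dc300b0060200000))) (BT.leaf (Bx.mk (nat_lit 0x268a6c00000000000000000000171954000000000000000000000000005245300000000000b3a67000002e8a3c00000d3a8500000308a2000000c0c7561dcb000001618ca0000069d3f800001b44d8cbb9200000000001945280000080630800002542df2b270))))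
noncomputable def eDo0_c5 : BT (Bx Nat) := (BT.node (nat_lit 1) (BT.leaf (Bx.mk (nat_lit 0xbca1f8000000000000000b4a3e6006b400001801aabca1c5a51dc0000000000b4a3a60069f0034c00000000005e50cad28dd801a30000060068400000d428c000005a519c0000000000bca15da518c0000000000c00cd8000000000000000000000000030032e00000000005e50970032a000000000060064ef284600000c00c8800002d289d8018e000005a512c000018018abca0f0000030030e0000000000600612f283600000c00bf5e50680000179419c00bdde5062d287580176bca0bda50df002e779415b4a1a6005b6f282969431bca09e0059af28256942dc00b15e5046d285509456c00ad60055e4685180153c00a80000030029b8014a0000060051b002872943cc00a06004f66283980139c009b4c50bf00267801309ca0b6004b30025379408b4a085e501ed281d79406b4a065e5016d28158010fc0086e0042f0021379402b4a0260040f0060200000))) (BT.leaf (Bx.mk (nat_lit 0xbca3c5a52ac0000179472b4a540000000000000000b4a525e51a8000017946800000391a0ef28cb7945f000000000000000179459000000000000000179452000005e513c0000000000000005a523c0000000000bca24000000000000000000000000002f288400000000000000000000000000))))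
noncomputable def eDo0_c6 : BT (Bx Nat) := (BT.node (nat_lit 1) (BT.leaf (Bx.mk (nat_lit 0xb8abf5e38fc000017157bbc71de006b800001801abb8abb5e38e00000171573bc71ae006a00000000000000005c55b6f1c65801a40000060068800001801a0b8ab35e38bb0033a00000b8ab15e38ac0000000000c00ce0000000000000000b8aad5e389f0033171557bc7134454a30032d71553bc712600652e2aa178e23c00c95c5536f1c438018fb8aa55e3880000018018bb8aa35e387b0031171543bc70ee00616e2a8178e1bc00bfdc54f6f1c353151cc00be5c54e6f1c3180177b8a9b5e385f002e971533bc70ae005bae2a6178e149ca8b60059ee2a5978e12c00b1dc54a6f1c2318e25c00ade00563002ad80154c00a88000030029d8014bc00a4e0051f002893ae19c00a0e004fb002798013ac009bd0b84f0026980131c0097e004b7002557150fbc7045c5436f1c0f7150bbc7035c5426f1c0b80110c00876004330021571503bc701600412f0a0200000))) (BT.leaf (Bx.mk (nat_lit 0x5c56b6f1cf400000b8ad55e39e000001715a7bc73900000000001715a3bc7365c5686f1cd4000006d7410000000000000000bc72f8000000000171597bc72cdc5656f1cab71593bc729000002f1c9e00000b8ac75e393000000c8e68b8ac55e39200000171587bc722800002e2b0978e42000000000000000000000))))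
noncomputable def eDo0_c7 : BT (Bx Nat) := (BT.node (nat_lit 1) (BT.leaf (Bx.mk (nat_lit 0x75b374241b6014d8d908b0000000000000000000007484400000000000e108500000000000000012368191b403c41fc00000fb67d0000000000000000000006484b00000000000000007484a000000000000000000000000000000000000069b2700000000000d364b000004041580000000000808164c2949c6c55010290000036416c00000000006c82c0000000000150a48000004840e400000000000000046290a06c69390338c51fc0d8c672060000000000042411c000000000080822000000000010904199b204828ca1207c000008c817800001b20a800000000003a41440000000000000000000027144a000009ce11800000000000000000000568c780000120a1c9118dc8706a6143200000000004a28580000129c149c5098000000000121010a0807ca403ac201b2900c9c805cc402a820134a30800000568c1ab380b51004b0801dc280b0060200000))) (BT.leaf (Bx.mk (nat_lit 0x8c55280000000000000000000000000000000000000000034427e26d5e000000000000000000000000000000000000000000000000000000000000000000000000000000000000e36638083100000000000000006484c0000000000000000000003c41ee014f4e367700000000001b6ce8f9073805394a29c6546e129c6f))))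
noncomputable def eDo0_c8 : BT (Bx Nat) := (BT.node (nat_lit 1) (BT.leaf (Bx.mk (nat_lit 0x88bbfbebdb40000000000749452d11e80000000000000003eae1c000000000078942290dc9d1b052b05e00000000002024fcb0d6c0000000000000001330680000036ae55356ca00000000003e4a4c00000000000000000000244b00000000000038bd340000000000717a54c5d59c5e5c000007179600000262ea2f2f2900000000001d56b400000000003aad5c000010253b0000044bce400000000008579b3ebcd40000112f3300000465cfa25e612973c7d7a40000023248d0ab450000044ad0e06084000008c92044dcfc000011923d000003aad5400000eab5384f29000001f24a112b2800000000000000000000088f0880000214a4f0a5268d58f80000265e2f1921ca580ad2785232e332a51e9d58ec8485a85e3742f1a90b89c2949215e4741710955878000026561a0000098905d45c2a724134a508b4f03d0941a93c0b69704ac901da340b0060200000))) (BT.leaf (Bx.mk (nat_lit 0x24c2940000000000697c7000001a5ecd29794797b100000000000000000000036ae5c00000000000000038bdec0000000000797bb00000000000eaf730000038bdc4000011af5d))))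
noncomputable def eDo0_c9 : BT (Bx Nat) := (BT.node (nat_lit 1) (BT.leaf (Bx.mk (nat_lit 0x2016d8000000000034fa24000000000000000000001e810c000000000000000000000000000000000000000000fbe7d000000000000000000000000004a45980000000000000000000000000000000000000000000000000000000000000000000000000000000000000000000000000000000000000000000000000000000000000000000000000000000000000000000000000000000000000004691080000000000000000000000000000000000000000029227200000000000000000000149834000000000029306349130000004c90b80000000000000000000029225200000000000000000000000000000000000000000000000000000000000000120b1c00000000000000015241800000000002a482b51d149c589800002a3a220000000000000000000015980cac885d6602ab221362408b0e83d8901ac3a0b69804b4881dc2c0b0060200000))) (BT.leaf (Bx.mk (nat_lit 0xcc09900000000000000000000000000000001b82f400000000000000000000000000805b90000000000000000))))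
noncomputable def eDo0_c10 : BT (Bx Nat) := (BT.node (nat_lit 1) (BT.leaf (Bx.mk (nat_lit 0x5e6ceb0035979b3980dd0a86e92f366e00000c00d4de6cd2f3667801a5000000000000000179b31000005e6cc000000f9b8cc00cfe0067af365b79b2c00000000002f365400000bcd94e006680000000000c00cc800002f364c00000000003cf0f00000000000000005e6c8c0000000000bcd90e006400000000000c00c68000022345f79b1ec00c4800002f363b80186000005e6c6f0030780182bcd8d6005f40000000000bcd8c6005eb002f179b17c00ba8000000000180172c00b8de6c53002d98016a84da4de6c4b002cb80164bcd88e00587002bf79b10c00ae600566f361f80155c00a95e6c3b0029f8014cbcd86e005230028b79b0cc00a16004fef36178013bc009c5e6c2b0026b80132bcd84e004bb0025780128c0092e0048b0023f8011cc008ce0045b0022752906a9302d26c229360f61a03acd825e18070040400000))) (BT.leaf (Bx.mk (nat_lit 0x2a6a440000179b790000039164af36e681b9500000000002f36e0a9a760000000000218aee00000bcdb3de6d9923508000006e2cc00000000000d1b9b000000000011935000000000000000014375c0000000000000000000010296800000000002f368e00000000000000000000000000bcda0de6d030035e00000))))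
noncomputable def eDo0_p : BT (Bx Nat) := (BT.node (nat_lit 1) (BT.leaf (Bx.mk (nat_lit 0x73f19cfc573e29cec673b15ce8a73a0dce4a73819ce0573729cd4673515cd0a73329ccc373309cc8673215cc4a73109cc0a73009cbc372e19cb8572d29cb0a72b19cac572a29ca8272929ca437290989ca6271989c56262989866261589466242989066241588ca6231988c562129884662115880a62019880561f19878a61e19878561d29874661d1586ca61b1986c561a29868661a1586466182986066181585ca6171985c561529854661515850a61419850561319848a61219848561129844661115440a5100d440250f2943c350f09438a50e0d438250d29434350d09430a50c0d430250b2942c350b09428a50a0d42825092942435090902064081501c640715018640615014640514c10330408c0c330308808620214404a000000000))) (BT.leaf (Bx.mk (nat_lit 0x8812a1e8687a161e4a8781a1e058732a1c86872161c458702a1b0686c161a8686a161a068672a198a8651a17c685f16178a75b29d64675915d54675515d48675215d3c674f15d38a74c19d30574b29d24374819d20574729d14674515d10a74219d08574129d00a7400dd002))))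
noncomputable def eDo0_e0 : BT Nat := (BT.node (nat_lit 1856) (BT.node (nat_lit 512) (BT.node (nat_lit 73) (BT.node (nat_lit 69) (BT.node (nat_lit 66) (BT.leaf (nat_lit 2)) (BT.node (nat_lit 68) (BT.leaf (nat_lit 262146)) (BT.leaf (nat_lit 524290)))) (BT.node (nat_lit 71) (BT.leaf (nat_lit 786434)) (BT.node (nat_lit 72) (BT.leaf (nat_lit 1048578)) (BT.leaf (nat_lit 1310722))))) (BT.node (nat_lit 256) (BT.node (nat_lit 128) (BT.leaf (nat_lit 1572866)) (BT.node (nat_lit 192) (BT.leaf (nat_lit 35881)) (BT.leaf (nat_lit 2837)))) (BT.node (nat_lit 320) (BT.leaf (nat_lit 1577)) (BT.node (nat_lit 384) (BT.leaf (nat_lit 1545)) (BT.leaf (nat_lit 3093)))))) (BT.node (nat_lit 1088) (BT.node (nat_lit 704) (BT.node (nat_lit 576) (BT.leaf (nat_lit 3865)) (BT.node (nat_lit 640) (BT.leaf (nat_lit 1557)) (BT.leaf (nat_lit 1561)))) (BT.node (nat_lit 768) (BT.leaf (nat_lit 3097)) (BT.node (nat_lit 960) (BT.leaf (nat_lit 6921)) (BT.leaf (nat_lit 9513))))) (BT.node (nat_lit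 1600) (BT.node (nat_lit 1408) (BT.leaf (nat_lit 2825)) (BT.node (nat_lit 1472) (BT.leaf (nat_lit 19469)) (BT.leaf (nat_lit 17705)))) (BT.node (nat_lit 1728) (BT.node (nat_lit 1664) (BT.leaf (nat_lit 7193)) (BT.leaf (nat_lit 6925))) (BT.node (nat_lit 1792) (BT.leaf (nat_lit 16661)) (BT.leaf (nat_lit 16905))))))) (BT.node (nat_lit 4224) (BT.node (nat_lit 3008) (BT.node (nat_lit 2368) (BT.node (nat_lit 1984) (BT.leaf (nat_lit 6661)) (BT.node (nat_lit 2176) (BT.leaf (nat_lit 9477)) (BT.leaf (nat_lit 7173)))) (BT.node (nat_lit 2560) (BT.leaf (nat_lit 21769)) (BT.node (nat_lit 2752) (BT.leaf (nat_lit 9493)) (BT.leaf (nat_lit 7465))))) (BT.node (nat_lit 3840) (BT.node (nat_lit 3200) (BT.leaf (nat_lit 35865)) (BT.node (nat_lit 3584) (BT.leaf (nat_lit 14341)) (BT.leaf (nat_lit 7945)))) (BT.node (nat_lit 4032) (BT.leaf (nat_lit 7189)) (BT.node (nat_lit 4160) (BT.leaf (nat_lit 16909)) (BT.leaf (nat_lit 33577)))))) (BT.node (nat_lit 5696) (BT.node (nat_lit 4864) (BT.node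 (nat_lit 4416) (BT.leaf (nat_lit 33817)) (BT.node (nat_lit 4672) (BT.leaf (nat_lit 16133)) (BT.leaf (nat_lit 7961)))) (BT.node (nat_lit 5440) (BT.leaf (nat_lit 10249)) (BT.node (nat_lit 5504) (BT.leaf (nat_lit 38169)) (BT.leaf (nat_lit 9497))))) (BT.node (nat_lit 8448) (BT.node (nat_lit 6656) (BT.leaf (nat_lit 16913)) (BT.node (nat_lit 8384) (BT.leaf (nat_lit 22029)) (BT.leaf (nat_lit 43029)))) (BT.node (nat_lit 9536) (BT.node (nat_lit 8960) (BT.leaf (nat_lit 43305)) (BT.leaf (nat_lit 22025))) (BT.node (nat_lit 10816) (BT.leaf (nat_lit 43049)) (BT.leaf (nat_lit 43013))))))))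
noncomputable def eDo0_e : BT Nat := eDo0_e0
noncomputable def eDo0_cols : List (BT (Bx Nat)) := [eDo0_c0, eDo0_c1, eDo0_c2, eDo0_c3, eDo0_c4, eDo0_c5, eDo0_c6, eDo0_c7, eDo0_c8, eDo0_c9, eDo0_c10]
noncomputable def eDo0_ch (x j : Nat) : Bx Nat := chunkG eDo0_cols (nat_lit 2) x j
noncomputable def eDo0_L (x : Nat) : Bx (Nat → Nat) := lookG eDo0_ch (nat_lit 7) (nat_lit 127) (nat_lit 21) (nat_lit 2097151) x
noncomputable def eDo0_pc (_ j : Nat) : Bx Nat := eDo0_p.get j
noncomputable def eDo0_pb : Bx (Nat → Nat) := lookG eDo0_pc (nat_lit 7) (nat_lit 127) (nat_lit 18) (nat_lit 262143) (nat_lit 0)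
noncomputable def eDo0_rots : BT CW := (BT.node (nat_lit 38) (BT.node (nat_lit 19) (BT.node (nat_lit 9) (BT.node (nat_lit 4) (BT.node (nat_lit 2) (BT.node (nat_lit 1) (BT.leaf ⟨[], (nat_lit 1000000), (nat_lit 0), (nat_lit 0), (nat_lit 0)⟩) (BT.leaf ⟨[], (nat_lit 1000000), (nat_lit 0), (nat_lit 0), (nat_lit 1)⟩)) (BT.node (nat_lit 3) (BT.leaf ⟨[], (nat_lit 1000000), (nat_lit 0), (nat_lit 0), (nat_lit 2)⟩) (BT.leaf ⟨[(nat_lit 3), (nat_lit 2)], (nat_lit 145), (nat_lit 1), (nat_lit 0), (nat_lit 3)⟩))) (BT.node (nat_lit 6) (BT.node (nat_lit 5) (BT.leaf ⟨[(nat_lit 6), (nat_lit 5)], (nat_lit 143), (nat_lit 1), (nat_lit 0), (nat_lit 3)⟩) (BT.leaf ⟨[(nat_lit 10), (nat_lit 10)], (nat_lit 121), (nat_lit 0), (nat_lit 0), (nat_lit 3)⟩)) (BT.node (nat_lit 7) (BT.leaf ⟨[(nat_lit 1), (nat_lit 10), (nat_lit 1), (nat_lit 10)], (nat_lit 129), (nat_lit 1), (nat_lit 0), (nat_lit 4)⟩) (BT.node (nat_lit 8) (BT.leaf ⟨[(nat_lit 2), (nat_lit 10), (nat_lit 3), (nat_lit 10)], (nat_lit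 130), (nat_lit 1), (nat_lit 0), (nat_lit 4)⟩) (BT.leaf ⟨[(nat_lit 3), (nat_lit 2)], (nat_lit 145), (nat_lit 1), (nat_lit 0), (nat_lit 4)⟩))))) (BT.node (nat_lit 14) (BT.node (nat_lit 11) (BT.node (nat_lit 10) (BT.leaf ⟨[(nat_lit 7), (nat_lit 10), (nat_lit 7), (nat_lit 10)], (nat_lit 131), (nat_lit 1), (nat_lit 0), (nat_lit 4)⟩) (BT.leaf ⟨[(nat_lit 9), (nat_lit 10), (nat_lit 9), (nat_lit 7), (nat_lit 10)], (nat_lit 128), (nat_lit 1), (nat_lit 0), (nat_lit 4)⟩)) (BT.node (nat_lit 12) (BT.leaf ⟨[(nat_lit 4), (nat_lit 10), (nat_lit 4), (nat_lit 7), (nat_lit 10)], (nat_lit 132), (nat_lit 1), (nat_lit 0), (nat_lit 4)⟩) (BT.node (nat_lit 13) (BT.leaf ⟨[(nat_lit 8), (nat_lit 7), (nat_lit 1), (nat_lit 4), (nat_lit 1), (nat_lit 4)], (nat_lit 20), (nat_lit 4), (nat_lit 0), (nat_lit 4)⟩) (BT.leaf ⟨[(nat_lit 6), (nat_lit 5)], (nat_lit 143), (nat_lit 1), (nat_lit 0), (nat_lit 4)⟩)))) (BT.node (nat_lit 16) (BT.node (nat_lit 15) (BT.leaf ⟨[(nat_lit 1), (nat_lit 6), (nat_lit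 1), (nat_lit 5)], (nat_lit 9), (nat_lit 2), (nat_lit 0), (nat_lit 4)⟩) (BT.leaf ⟨[(nat_lit 7), (nat_lit 6), (nat_lit 8), (nat_lit 5)], (nat_lit 13), (nat_lit 1), (nat_lit 0), (nat_lit 4)⟩)) (BT.node (nat_lit 17) (BT.leaf ⟨[(nat_lit 9), (nat_lit 6), (nat_lit 9), (nat_lit 5)], (nat_lit 125), (nat_lit 2), (nat_lit 0), (nat_lit 4)⟩) (BT.node (nat_lit 18) (BT.leaf ⟨[(nat_lit 8), (nat_lit 6), (nat_lit 7), (nat_lit 5), (nat_lit 7)], (nat_lit 17), (nat_lit 2), (nat_lit 0), (nat_lit 4)⟩) (BT.leaf ⟨[(nat_lit 4), (nat_lit 6), (nat_lit 3), (nat_lit 8), (nat_lit 2), (nat_lit 5)], (nat_lit 22), (nat_lit 2), (nat_lit 0), (nat_lit 4)⟩)))))) (BT.node (nat_lit 28) (BT.node (nat_lit 23) (BT.node (nat_lit 21) (BT.node (nat_lit 20) (BT.leaf ⟨[(nat_lit 5), (nat_lit 6)], (nat_lit 143), (nat_lit 0), (nat_lit 0), (nat_lit 4)⟩) (BT.leaf ⟨[(nat_lit 6), (nat_lit 6), (nat_lit 6)], (nat_lit 152), (nat_lit 0), (nat_lit 0), (nat_lit 4)⟩)) (BT.node (nat_lit 22) (BT.leaf ⟨[(nat_lit 1),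 (nat_lit 5), (nat_lit 1), (nat_lit 6)], (nat_lit 9), (nat_lit 0), (nat_lit 0), (nat_lit 4)⟩) (BT.leaf ⟨[(nat_lit 8), (nat_lit 5), (nat_lit 7), (nat_lit 6)], (nat_lit 13), (nat_lit 3), (nat_lit 0), (nat_lit 4)⟩))) (BT.node (nat_lit 25) (BT.node (nat_lit 24) (BT.leaf ⟨[(nat_lit 9), (nat_lit 5), (nat_lit 9), (nat_lit 6)], (nat_lit 125), (nat_lit 0), (nat_lit 0), (nat_lit 4)⟩) (BT.leaf ⟨[(nat_lit 4), (nat_lit 5), (nat_lit 4), (nat_lit 1), (nat_lit 2), (nat_lit 8), (nat_lit 3), (nat_lit 6)], (nat_lit 32), (nat_lit 5), (nat_lit 0), (nat_lit 4)⟩)) (BT.node (nat_lit 26) (BT.leaf ⟨[(nat_lit 10), (nat_lit 6), (nat_lit 10), (nat_lit 6), (nat_lit 10), (nat_lit 9), (nat_lit 1), (nat_lit 8), (nat_lit 6)], (nat_lit 280), (nat_lit 4), (nat_lit 0), (nat_lit 4)⟩) (BT.node (nat_lit 27) (BT.leaf ⟨[(nat_lit 10), (nat_lit 10)], (nat_lit 121), (nat_lit 0), (nat_lit 0), (nat_lit 4)⟩) (BT.leaf ⟨[(nat_lit 7), (nat_lit 3), (nat_lit 7), (nat_lit 2)], (nat_lit 11), (nat_lit 1), (nat_lit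 0), (nat_lit 4)⟩))))) (BT.node (nat_lit 33) (BT.node (nat_lit 30) (BT.node (nat_lit 29) (BT.leaf ⟨[(nat_lit 9), (nat_lit 3), (nat_lit 9), (nat_lit 2)], (nat_lit 123), (nat_lit 2), (nat_lit 0), (nat_lit 4)⟩) (BT.leaf ⟨[(nat_lit 8), (nat_lit 3), (nat_lit 5), (nat_lit 4), (nat_lit 7), (nat_lit 6), (nat_lit 2)], (nat_lit 27), (nat_lit 1), (nat_lit 0), (nat_lit 4)⟩)) (BT.node (nat_lit 31) (BT.leaf ⟨[(nat_lit 2), (nat_lit 3)], (nat_lit 145), (nat_lit 0), (nat_lit 0), (nat_lit 4)⟩) (BT.node (nat_lit 32) (BT.leaf ⟨[(nat_lit 3), (nat_lit 3), (nat_lit 3)], (nat_lit 151), (nat_lit 0), (nat_lit 0), (nat_lit 4)⟩) (BT.leaf ⟨[(nat_lit 4), (nat_lit 3), (nat_lit 4), (nat_lit 3)], (nat_lit 155), (nat_lit 0), (nat_lit 0), (nat_lit 4)⟩)))) (BT.node (nat_lit 35) (BT.node (nat_lit 34) (BT.leaf ⟨[(nat_lit 4), (nat_lit 4)], (nat_lit 1), (nat_lit 0), (nat_lit 0), (nat_lit 4)⟩) (BT.leaf ⟨[(nat_lit 7), (nat_lit 2), (nat_lit 7), (nat_lit 3)], (nat_lit 11), (nat_lit 3), (nat_lit 0),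 (nat_lit 4)⟩)) (BT.node (nat_lit 36) (BT.leaf ⟨[(nat_lit 9), (nat_lit 2), (nat_lit 9), (nat_lit 3)], (nat_lit 123), (nat_lit 0), (nat_lit 0), (nat_lit 4)⟩) (BT.node (nat_lit 37) (BT.leaf ⟨[(nat_lit 8), (nat_lit 4), (nat_lit 8), (nat_lit 4)], (nat_lit 15), (nat_lit 1), (nat_lit 0), (nat_lit 4)⟩) (BT.leaf ⟨[(nat_lit 10), (nat_lit 3), (nat_lit 10), (nat_lit 2)], (nat_lit 130), (nat_lit 2), (nat_lit 0), (nat_lit 4)⟩))))))) (BT.node (nat_lit 57) (BT.node (nat_lit 47) (BT.node (nat_lit 42) (BT.node (nat_lit 40) (BT.node (nat_lit 39) (BT.leaf ⟨[(nat_lit 1), (nat_lit 3), (nat_lit 6), (nat_lit 2), (nat_lit 1), (nat_lit 3), (nat_lit 6), (nat_lit 2)], (nat_lit 180), (nat_lit 3), (nat_lit 0), (nat_lit 4)⟩) (BT.leaf ⟨[(nat_lit 1), (nat_lit 1)], (nat_lit 0), (nat_lit 0), (nat_lit 0), (nat_lit 4)⟩)) (BT.node (nat_lit 41) (BT.leaf ⟨[(nat_lit 10), (nat_lit 2), (nat_lit 10), (nat_lit 3)], (nat_lit 130), (nat_lit 0), (nat_lit 0), (nat_lit 4)⟩) (BT.leaf ⟨[(nat_lit 1), (nat_lit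 3), (nat_lit 1), (nat_lit 3), (nat_lit 1), (nat_lit 3)], (nat_lit 166), (nat_lit 1), (nat_lit 0), (nat_lit 4)⟩))) (BT.node (nat_lit 44) (BT.node (nat_lit 43) (BT.leaf ⟨[(nat_lit 8), (nat_lit 1), (nat_lit 8), (nat_lit 1)], (nat_lit 14), (nat_lit 1), (nat_lit 0), (nat_lit 4)⟩) (BT.leaf ⟨[(nat_lit 4), (nat_lit 8), (nat_lit 7), (nat_lit 1), (nat_lit 4), (nat_lit 1)], (nat_lit 20), (nat_lit 3), (nat_lit 0), (nat_lit 4)⟩)) (BT.node (nat_lit 45) (BT.leaf ⟨[(nat_lit 1), (nat_lit 2), (nat_lit 6), (nat_lit 3), (nat_lit 1), (nat_lit 2), (nat_lit 6), (nat_lit 3)], (nat_lit 178), (nat_lit 3), (nat_lit 0), (nat_lit 4)⟩) (BT.node (nat_lit 46) (BT.leaf ⟨[(nat_lit 6), (nat_lit 10), (nat_lit 6), (nat_lit 10), (nat_lit 9), (nat_lit 1), (nat_lit 8), (nat_lit 6), (nat_lit 10)], (nat_lit 280), (nat_lit 5), (nat_lit 0), (nat_lit 4)⟩) (BT.leaf ⟨[(nat_lit 8), (nat_lit 8)], (nat_lit 3), (nat_lit 0), (nat_lit 0), (nat_lit 4)⟩))))) (BT.node (nat_lit 52) (BT.node (nat_lit 49) (BT.node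 (nat_lit 48) (BT.leaf ⟨[(nat_lit 8), (nat_lit 2), (nat_lit 5), (nat_lit 4), (nat_lit 6), (nat_lit 3)], (nat_lit 22), (nat_lit 5), (nat_lit 0), (nat_lit 4)⟩) (BT.leaf ⟨[(nat_lit 1), (nat_lit 2), (nat_lit 1), (nat_lit 2), (nat_lit 1), (nat_lit 2)], (nat_lit 19), (nat_lit 0), (nat_lit 0), (nat_lit 4)⟩)) (BT.node (nat_lit 50) (BT.leaf ⟨[(nat_lit 4), (nat_lit 2), (nat_lit 4), (nat_lit 2)], (nat_lit 8), (nat_lit 1), (nat_lit 0), (nat_lit 4)⟩) (BT.node (nat_lit 51) (BT.leaf ⟨[(nat_lit 1), (nat_lit 8), (nat_lit 1), (nat_lit 8)], (nat_lit 14), (nat_lit 0), (nat_lit 0), (nat_lit 4)⟩) (BT.leaf ⟨[(nat_lit 5), (nat_lit 1), (nat_lit 6), (nat_lit 1)], (nat_lit 9), (nat_lit 1), (nat_lit 0), (nat_lit 4)⟩)))) (BT.node (nat_lit 54) (BT.node (nat_lit 53) (BT.leaf ⟨[(nat_lit 3), (nat_lit 10), (nat_lit 2), (nat_lit 10)], (nat_lit 130), (nat_lit 3), (nat_lit 0), (nat_lit 4)⟩) (BT.leaf ⟨[(nat_lit 7), (nat_lit 7)], (nat_lit 2), (nat_lit 0), (nat_lit 0), (nat_lit 4)⟩)) (BT.node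 (nat_lit 55) (BT.leaf ⟨[(nat_lit 8), (nat_lit 3), (nat_lit 6), (nat_lit 4), (nat_lit 5), (nat_lit 4), (nat_lit 1), (nat_lit 2)], (nat_lit 32), (nat_lit 2), (nat_lit 0), (nat_lit 4)⟩) (BT.node (nat_lit 56) (BT.leaf ⟨[(nat_lit 4), (nat_lit 6), (nat_lit 2), (nat_lit 7), (nat_lit 8), (nat_lit 3), (nat_lit 5), (nat_lit 8)], (nat_lit 34), (nat_lit 6), (nat_lit 0), (nat_lit 4)⟩) (BT.leaf ⟨[(nat_lit 3), (nat_lit 5), (nat_lit 10), (nat_lit 6), (nat_lit 8), (nat_lit 3), (nat_lit 1), (nat_lit 4), (nat_lit 1), (nat_lit 5), (nat_lit 10), (nat_lit 6), (nat_lit 2), (nat_lit 5), (nat_lit 10), (nat_lit 6), (nat_lit 3), (nat_lit 5), (nat_lit 10), (nat_lit 6), (nat_lit 4), (nat_lit 5), (nat_lit 10), (nat_lit 6), (nat_lit 2), (nat_lit 5), (nat_lit 10), (nat_lit 6)], (nat_lit 137), (nat_lit 19), (nat_lit 0), (nat_lit 4)⟩)))))) (BT.node (nat_lit 67) (BT.node (nat_lit 62) (BT.node (nat_lit 59) (BT.node (nat_lit 58) (BT.leaf ⟨[(nat_lit 4), (nat_lit 7), (nat_lit 4), (nat_lit 7)],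 (nat_lit 12), (nat_lit 0), (nat_lit 0), (nat_lit 4)⟩) (BT.leaf ⟨[(nat_lit 4), (nat_lit 1), (nat_lit 4), (nat_lit 8), (nat_lit 7), (nat_lit 1)], (nat_lit 20), (nat_lit 1), (nat_lit 0), (nat_lit 4)⟩)) (BT.node (nat_lit 60) (BT.leaf ⟨[(nat_lit 10), (nat_lit 4), (nat_lit 7), (nat_lit 10), (nat_lit 4)], (nat_lit 132), (nat_lit 2), (nat_lit 0), (nat_lit 4)⟩) (BT.node (nat_lit 61) (BT.leaf ⟨[(nat_lit 1), (nat_lit 3), (nat_lit 5), (nat_lit 2), (nat_lit 1), (nat_lit 3), (nat_lit 5), (nat_lit 2)], (nat_lit 33), (nat_lit 0), (nat_lit 0), (nat_lit 4)⟩) (BT.leaf ⟨[(nat_lit 9), (nat_lit 9)], (nat_lit 120), (nat_lit 0), (nat_lit 0), (nat_lit 4)⟩)))) (BT.node (nat_lit 64) (BT.node (nat_lit 63) (BT.leaf ⟨[(nat_lit 1), (nat_lit 4), (nat_lit 7), (nat_lit 8), (nat_lit 1), (nat_lit 4)], (nat_lit 21), (nat_lit 2), (nat_lit 0), (nat_lit 4)⟩) (BT.leaf ⟨[(nat_lit 9), (nat_lit 1), (nat_lit 9), (nat_lit 1)], (nat_lit 122), (nat_lit 0), (nat_lit 0), (nat_lit 4)⟩)) (BT.node (nat_lit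 65) (BT.leaf ⟨[(nat_lit 9), (nat_lit 4), (nat_lit 9), (nat_lit 4)], (nat_lit 124), (nat_lit 0), (nat_lit 0), (nat_lit 4)⟩) (BT.node (nat_lit 66) (BT.leaf ⟨[(nat_lit 5), (nat_lit 3), (nat_lit 5), (nat_lit 10), (nat_lit 6), (nat_lit 2), (nat_lit 5), (nat_lit 10), (nat_lit 6), (nat_lit 3), (nat_lit 5), (nat_lit 10), (nat_lit 6), (nat_lit 6), (nat_lit 5), (nat_lit 10), (nat_lit 6), (nat_lit 2), (nat_lit 5), (nat_lit 10), (nat_lit 6), (nat_lit 3), (nat_lit 5), (nat_lit 10), (nat_lit 6), (nat_lit 2), (nat_lit 1), (nat_lit 4)], (nat_lit 285), (nat_lit 3), (nat_lit 0), (nat_lit 4)⟩) (BT.leaf ⟨[(nat_lit 8), (nat_lit 1), (nat_lit 4), (nat_lit 1), (nat_lit 4), (nat_lit 7)], (nat_lit 21), (nat_lit 5), (nat_lit 0), (nat_lit 4)⟩))))) (BT.node (nat_lit 72) (BT.node (nat_lit 69) (BT.node (nat_lit 68) (BT.leaf ⟨[(nat_lit 8), (nat_lit 4), (nat_lit 1), (nat_lit 4), (nat_lit 1), (nat_lit 7)], (nat_lit 167), (nat_lit 1), (nat_lit 0), (nat_lit 4)⟩) (BT.leaf ⟨[(nat_lit 10),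 (nat_lit 5), (nat_lit 10), (nat_lit 5), (nat_lit 8), (nat_lit 1), (nat_lit 9), (nat_lit 10), (nat_lit 5)], (nat_lit 133), (nat_lit 2), (nat_lit 0), (nat_lit 4)⟩)) (BT.node (nat_lit 70) (BT.leaf ⟨[(nat_lit 5), (nat_lit 10), (nat_lit 5), (nat_lit 10), (nat_lit 5), (nat_lit 8), (nat_lit 1), (nat_lit 9), (nat_lit 10)], (nat_lit 133), (nat_lit 1), (nat_lit 0), (nat_lit 4)⟩) (BT.node (nat_lit 71) (BT.leaf ⟨[(nat_lit 2), (nat_lit 5), (nat_lit 10), (nat_lit 6), (nat_lit 3), (nat_lit 5), (nat_lit 10), (nat_lit 6), (nat_lit 2), (nat_lit 5), (nat_lit 10), (nat_lit 6), (nat_lit 2), (nat_lit 5), (nat_lit 10), (nat_lit 6), (nat_lit 3), (nat_lit 5), (nat_lit 10), (nat_lit 6), (nat_lit 2), (nat_lit 8), (nat_lit 5), (nat_lit 10), (nat_lit 6)], (nat_lit 136), (nat_lit 3), (nat_lit 0), (nat_lit 4)⟩) (BT.leaf ⟨[(nat_lit 4), (nat_lit 7), (nat_lit 10), (nat_lit 4), (nat_lit 10)], (nat_lit 132), (nat_lit 3), (nat_lit 0), (nat_lit 4)⟩)))) (BT.node (nat_lit 74) (BT.node (nat_lit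 73) (BT.leaf ⟨[(nat_lit 10), (nat_lit 1), (nat_lit 10), (nat_lit 1)], (nat_lit 129), (nat_lit 0), (nat_lit 0), (nat_lit 4)⟩) (BT.leaf ⟨[(nat_lit 2), (nat_lit 5), (nat_lit 10), (nat_lit 6), (nat_lit 3), (nat_lit 5), (nat_lit 10), (nat_lit 6), (nat_lit 6), (nat_lit 5), (nat_lit 10), (nat_lit 6), (nat_lit 2), (nat_lit 5), (nat_lit 10), (nat_lit 6), (nat_lit 3), (nat_lit 5), (nat_lit 10), (nat_lit 6), (nat_lit 2), (nat_lit 1), (nat_lit 4), (nat_lit 5), (nat_lit 3), (nat_lit 5), (nat_lit 10), (nat_lit 6)], (nat_lit 285), (nat_lit 8), (nat_lit 0), (nat_lit 4)⟩)) (BT.node (nat_lit 75) (BT.leaf ⟨[(nat_lit 2), (nat_lit 5), (nat_lit 10), (nat_lit 6), (nat_lit 3), (nat_lit 5), (nat_lit 10), (nat_lit 6), (nat_lit 5), (nat_lit 5), (nat_lit 10), (nat_lit 6), (nat_lit 2), (nat_lit 5), (nat_lit 10), (nat_lit 6), (nat_lit 3), (nat_lit 5), (nat_lit 10), (nat_lit 6), (nat_lit 2), (nat_lit 6), (nat_lit 4), (nat_lit 1), (nat_lit 3), (nat_lit 5), (nat_lit 10), (nat_lit 6)],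 (nat_lit 138), (nat_lit 3), (nat_lit 0), (nat_lit 4)⟩) (BT.node (nat_lit 76) (BT.leaf ⟨[(nat_lit 2), (nat_lit 5), (nat_lit 3), (nat_lit 8), (nat_lit 7), (nat_lit 1), (nat_lit 2), (nat_lit 5), (nat_lit 2), (nat_lit 6), (nat_lit 4), (nat_lit 5)], (nat_lit 107), (nat_lit 7), (nat_lit 0), (nat_lit 4)⟩) (BT.leaf ⟨[(nat_lit 0), (nat_lit 10), (nat_lit 6), (nat_lit 2), (nat_lit 5), (nat_lit 10), (nat_lit 6), (nat_lit 2), (nat_lit 5), (nat_lit 10), (nat_lit 6), (nat_lit 3), (nat_lit 5), (nat_lit 10), (nat_lit 6), (nat_lit 2), (nat_lit 8), (nat_lit 5), (nat_lit 10), (nat_lit 6), (nat_lit 2), (nat_lit 5), (nat_lit 10), (nat_lit 6), (nat_lit 3), (nat_lit 5)], (nat_lit 136), (nat_lit 9), (nat_lit 1), (nat_lit 4)⟩))))))))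
noncomputable def eDo0_hcs : List CW := [⟨[(nat_lit 1)], (nat_lit 0), (nat_lit 0), (nat_lit 0), (nat_lit 0)⟩, ⟨[(nat_lit 2)], (nat_lit 1), (nat_lit 0), (nat_lit 0), (nat_lit 0)⟩, ⟨[(nat_lit 4)], (nat_lit 2), (nat_lit 0), (nat_lit 0), (nat_lit 0)⟩, ⟨[(nat_lit 5)], (nat_lit 3), (nat_lit 0), (nat_lit 0), (nat_lit 0)⟩, ⟨[(nat_lit 7)], (nat_lit 4), (nat_lit 0), (nat_lit 0), (nat_lit 0)⟩, ⟨[(nat_lit 8)], (nat_lit 5), (nat_lit 0), (nat_lit 0), (nat_lit 0)⟩, ⟨[(nat_lit 9)], (nat_lit 6), (nat_lit 0), (nat_lit 0), (nat_lit 0)⟩, ⟨[(nat_lit 1)], (nat_lit 7), (nat_lit 0), (nat_lit 0), (nat_lit 0)⟩, ⟨[(nat_lit 3)], (nat_lit 8), (nat_lit 0), (nat_lit 0), (nat_lit 0)⟩, ⟨[(nat_lit 4)], (nat_lit 9), (nat_lit 0), (nat_lit 0), (nat_lit 0)⟩, ⟨[(nat_lit 6)], (nat_lit 10), (nat_lit 0), (nat_lit 0), (nat_lit 0)⟩, ⟨[(nat_lit 7)], (nat_lit 11), (nat_lit 0), (nat_lit 0), (nat_lit 0)⟩, ⟨[(nat_lit 8)], (nat_lit 12), (nat_lit 0), (nat_lit 0), (nat_lit 0)⟩, ⟨[(nat_lit 9)], (nat_lit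 13), (nat_lit 0), (nat_lit 0), (nat_lit 0)⟩]
noncomputable def eDo0_H (x j : Nat) : Bx (Nat → Nat → Nat) := mkH eDo0_L eDo0_pb.1 eDo0_e.get (lmap CW.w eDo0_hcs) (nat_lit 1) (nat_lit 2) (nat_lit 11) (nat_lit 256) (nat_lit 32768) (nat_lit 16383) x (eDo0_rots.get j)
noncomputable def eDo0_F (x b : Nat) : Bool := blkOK eDo0_H eDo0_ch (nat_lit 2) (nat_lit 256) (nat_lit 128) (nat_lit 7) (nat_lit 127) (nat_lit 21) (nat_lit 2097151) x b

theorem eDo0_k0_0 : allFrom (eDo0_F (nat_lit 0)) (nat_lit 0) (nat_lit 4) = true := by decide +kernel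
theorem eDo0_k1_0 : allFrom (eDo0_F (nat_lit 1)) (nat_lit 0) (nat_lit 4) = true := by decide +kernel
theorem eDo0_k2_0 : allFrom (eDo0_F (nat_lit 2)) (nat_lit 0) (nat_lit 4) = true := by decide +kernel
theorem eDo0_k3_0 : allFrom (eDo0_F (nat_lit 3)) (nat_lit 0) (nat_lit 4) = true := by decide +kernel
theorem eDo0_k4_0 : allFrom (eDo0_F (nat_lit 4)) (nat_lit 0) (nat_lit 4) = true := by decide +kernel
theorem eDo0_k5_0 : allFrom (eDo0_F (nat_lit 5)) (nat_lit 0) (nat_lit 4) = true := by decide +kernel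
theorem eDo0_k6_0 : allFrom (eDo0_F (nat_lit 6)) (nat_lit 0) (nat_lit 4) = true := by decide +kernel
theorem eDo0_k7_0 : allFrom (eDo0_F (nat_lit 7)) (nat_lit 0) (nat_lit 4) = true := by decide +kernel
theorem eDo0_k8_0 : allFrom (eDo0_F (nat_lit 8)) (nat_lit 0) (nat_lit 4) = true := by decide +kernel
theorem eDo0_k9_0 : allFrom (eDo0_F (nat_lit 9)) (nat_lit 0) (nat_lit 4) = true := by decide +kernel
theorem eDo0_k10_0 : allFrom (eDo0_F (nat_lit 10)) (nat_lit 0) (nat_lit 4) = true := by decide +kernel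

noncomputable def eDo1_c0 : BT (Bx Nat) := (BT.node (nat_lit 1) (BT.leaf (Bx.mk (nat_lit 0x3832f00000000000000000000000000000000000000000000000000000000000000000000000000a06980000000000140cbcc065c00000000000000000000000000000000000000000048332000000000008065e0000000000000000906700000000000160cd4c06680000028199000000000004832f00000000000000004032b00000000000000000000000000080c04000000000008180800000000000000014180800000000005031600000000000b06260000000000120c5800000000002818c8000009062e503162c18a940c5090626000001c188860c04000000000000000000000606060000028184800000000005030a241848e0c08706084830500000120c14806063830318181020c040000000000))) (BT.leaf (Bx.mk (nat_lit 0xd073a74d9e00000000000000000000000000000000000000000000000000000000000000000000000000000000000000000000000d06cc0000000000000000000000000000000000000000004032f000000000000000000000000000000000000060373341b90000000000000000))))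
noncomputable def eDo1_c1 : BT (Bx Nat) := (BT.node (nat_lit 1) (BT.leaf (Bx.mk (nat_lit 0x503dda80eea0000000000000001b7f0200000000000000000000000000a07b3501d9680ec8000000000046a2200000000000a1eae800002a7ac0daa68000004ea1ce750e53a8718d447c6a238000014a86900000000002750d6f073b78b1d3c3ce5e0ea400000787a84858f1e0e84f1641787a03aa1640000000000943a44a591e51e8d3072b98b154c3ca662c5f2284f9142748a13660e6531631987983aa1540000000000a839c5458dea1e6d1a856000003aa16c000014a83fa541f000002a0e5d5162da87964aa116550880000095424d2a0d6950694a833954264aa12e550953071c8198c40cc8e60e330331b7d413501c5a7543d43111a0389cca086862292a8287d412589c5e5504afa827ad40d4ea08ac5a253a81d9d40fd6a056750414160ca0785d4582aa1e133a8109d407d2a03a9501b52a06b1382d2a022b500f69604b4781dc1c0b0060200000))) (BT.leaf (Bx.mk (nat_lit 0x683d600000000000000000000000000260f3d3169d000000000000000000000000000000000000000000000004aa2a4000000000000000000001c0ef400000707c9b85a15c1f080000000000465a2c000011878990b31c83d8a40ec20000000000000002251212166e907b6c81db000000da895000000000000000000000))))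
noncomputable def eDo1_c2 : BT (Bx Nat) := (BT.node (nat_lit 1) (BT.leaf (Bx.mk (nat_lit 0x179f33000000000000000000000000000000000000179f2f000000000000000000000000000000000000000000000005e7ca4000017082800000000000000000000000000347e32e104a00000000000000000000000000b8411000000000000000000000000001d10ad7081f000000000000000000000000005c207000001801800000000000000000f1f68b840c800000000000000000000000002e102c00000c00b7800003002d7801697cf9e5c204c000000000000000600583002bb69f59000000000000000000000b4f920000000000000000b4fa2de7c340000000000bcf865a7c6ed3e7179f0b000005a7ccaf3e1569f15b4f95de7c26d3e2580126c0091e004830023b8011ac008be004530022379f04b4f845e7c0ed3e0d80107c0082dc200b0060200000))) (BT.leaf (Bx.mk (nat_lit 0x1397457087a4664e000000000000000042551800002e10e2000000000000000000000c47a0000000000000000000000000005c217c0000000000000000000000000000000000000000000000000000000000000000000000000000000000000000000000000000000000000000000000000000000000000000))))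
noncomputable def eDo1_c3 : BT (Bx Nat) := (BT.node (nat_lit 1) (BT.leaf (Bx.mk (nat_lit 0xbc4998000000000000000bc498800002f1260fa03c00000000000000000000000000000000000017892ab44cd000002f12520000000000000002e6a5000000000003825240000000000000005cd494000000000000000000000000017352200000000003003180000000000000002e6a3e000000000058d4fc0000180181b9a8e000000000010392f000006005e4000017351900000000002c6a6400000c00b85cd4580000000000c00b40000000000000000b9a89800003002bc0000000000000002d12ab72023bc487da253c0000000000000005c8076f121b68942b900d5e2432d127600000bc485da24d6e40297890ab44975c8046f121380127c00926004870023d8011bc008c6004570022572007bc4825c8016f120780108c00835a240af080200000))) (BT.leaf (Bx.mk (nat_lit 0x3c4d380000000000b89a00000000000000000809ab0000000000000000000000000000000000000000000000000000000000000000000000000000000da056000000000000000000000000000000000000000000000000000000000000000))))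
noncomputable def eDo1_c4 : BT (Bx Nat) := (BT.node (nat_lit 1) (BT.leaf (Bx.mk (nat_lit 0x1e18f4e996e000003a89f5d42d60000000000000001745211996300000000002518e200000000003889f000000e3a897113c80000000000f21685514c0000015451af0c6400000000001f450600000000004a8574000000000069d1b80000000000c3a2d0000000000000000ca24b80996000001c74820000000000000000000000000069daa000001f58ac0000075d1f000002a6490e3b4e00000468531b44a33933300000000000000010b82f9111c3e64c4000012b23b6512d800002142b33992a9912042c971e4474000008111e000001744b0fa253999174c88d26265310c168908a44c854000015a12300000483072642353321bac60fd68474000011a222951104a8886618333a1179910c000000000010a2279c609d284468442400000b0987d06432c261b3a20ea0985c6b042a26135a107a9104568416a440d61904b0981dc300b0060200000))) (BT.leaf (Bx.mk (nat_lit 0x268a6c00000000000000000000171954000000000000000000000000005245300000000000b3a67000002e8a3c00000d3a8500000308a2000000c0c7561dcb000001618ca0000069d3f800001b44d8cbb9200000000001945280000080630800002542df2b270))))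
noncomputable def eDo1_c5 : BT (Bx Nat) := (BT.node (nat_lit 1) (BT.leaf (Bx.mk (nat_lit 0xbca1f8000000000000000b4a3e6006b400001801aabca1c5a51dc0000000000b4a3a60069f0034c00000000005e50cad28dd801a30000060068400000d428c000005a519c0000000000bca15da518c0000000000c00cd8000000000000000000000000030032e00000000005e50970032a000000000060064ef284600000c00c8800002d289d8018e000005a512c000018018abca0f0000030030e0000000000600612f283600000c00bf5e50680000179419c00bdde5062d287580176bca0bda50df002e779415b4a1a6005b6f282969431bca09e0059af28256942dc00b15e5046d285509456c00ad60055e4685180153c00a80000030029b8014a0000060051b002872943cc00a06004f66283980139c009b4c50bf00267801309ca0b6004b30025379408b4a085e501ed281d79406b4a065e5016d28158010fc0086e0042f0021379402b4a0260040f0060200000))) (BT.leaf (Bx.mk (nat_lit 0xbca3c5a52ac0000179472b4a540000000000000000b4a525e51a8000017946800000391a0ef28cb7945f000000000000000179459000000000000000179452000005e513c0000000000000005a523c0000000000bca24000000000000000000000000002f288400000000000000000000000000))))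
noncomputable def eDo1_c6 : BT (Bx Nat) := (BT.node (nat_lit 1) (BT.leaf (Bx.mk (nat_lit 0xb8abf5e38fc000017157bbc71de006b800001801abb8abb5e38e00000171573bc71ae006a00000000000000005c55b6f1c65801a40000060068800001801a0b8ab35e38bb0033a00000b8ab15e38ac0000000000c00ce0000000000000000b8aad5e389f0033171557bc7134454a30032d71553bc712600652e2aa178e23c00c95c5536f1c438018fb8aa55e3880000018018bb8aa35e387b0031171543bc70ee00616e2a8178e1bc00bfdc54f6f1c353151cc00be5c54e6f1c3180177b8a9b5e385f002e971533bc70ae005bae2a6178e149ca8b60059ee2a5978e12c00b1dc54a6f1c2318e25c00ade00563002ad80154c00a88000030029d8014bc00a4e0051f002893ae19c00a0e004fb002798013ac009bd0b84f0026980131c0097e004b7002557150fbc7045c5436f1c0f7150bbc7035c5426f1c0b80110c00876004330021571503bc701600412f0a0200000))) (BT.leaf (Bx.mk (nat_lit 0x5c56b6f1cf400000b8ad55e39e000001715a7bc73900000000001715a3bc7365c5686f1cd4000006d7410000000000000000bc72f8000000000171597bc72cdc5656f1cab71593bc729000002f1c9e00000b8ac75e393000000c8e68b8ac55e39200000171587bc722800002e2b0978e42000000000000000000000))))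
noncomputable def eDo1_c7 : BT (Bx Nat) := (BT.node (nat_lit 1) (BT.leaf (Bx.mk (nat_lit 0x75b374241b6014d8d908b0000000000000000000007484400000000000e108500000000000000012368191b403c41fc00000fb67d0000000000000000000006484b00000000000000007484a000000000000000000000000000000000000069b2700000000000d364b000004041580000000000808164c2949c6c55010290000036416c00000000006c82c0000000000150a48000004840e400000000000000046290a06c69390338c51fc0d8c672060000000000042411c000000000080822000000000010904199b204828ca1207c000008c817800001b20a800000000003a41440000000000000000000027144a000009ce11800000000000000000000568c780000120a1c9118dc8706a6143200000000004a28580000129c149c5098000000000121010a0807ca403ac201b2900c9c805cc402a820134a30800000568c1ab380b51004b0801dc280b0060200000))) (BT.leaf (Bx.mk (nat_lit 0x8c55280000000000000000000000000000000000000000034427e26d5e000000000000000000000000000000000000000000000000000000000000000000000000000000000000e36638083100000000000000006484c0000000000000000000003c41ee014f4e367700000000001b6ce8f9073805394a29c6546e129c6f))))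
noncomputable def eDo1_c8 : BT (Bx Nat) := (BT.node (nat_lit 1) (BT.leaf (Bx.mk (nat_lit 0x88bbfbebdb40000000000749452d11e80000000000000003eae1c000000000078942290dc9d1b052b05e00000000002024fcb0d6c0000000000000001330680000036ae55356ca00000000003e4a4c00000000000000000000244b00000000000038bd340000000000717a54c5d59c5e5c000007179600000262ea2f2f2900000000001d56b400000000003aad5c000010253b0000044bce400000000008579b3ebcd40000112f3300000465cfa25e612973c7d7a40000023248d0ab450000044ad0e06084000008c92044dcfc000011923d000003aad5400000eab5384f29000001f24a112b2800000000000000000000088f0880000214a4f0a5268d58f80000265e2f1921ca580ad2785232e332a51e9d58ec8485a85e3742f1a90b89c2949215e4741710955878000026561a0000098905d45c2a724134a508b4f03d0941a93c0b69704ac901da340b0060200000))) (BT.leaf (Bx.mk (nat_lit 0x24c2940000000000697c7000001a5ecd29794797b100000000000000000000036ae5c00000000000000038bdec0000000000797bb00000000000eaf730000038bdc4000011af5d))))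
noncomputable def eDo1_c9 : BT (Bx Nat) := (BT.node (nat_lit 1) (BT.leaf (Bx.mk (nat_lit 0x2016d8000000000034fa24000000000000000000001e810c000000000000000000000000000000000000000000fbe7d000000000000000000000000004a45980000000000000000000000000000000000000000000000000000000000000000000000000000000000000000000000000000000000000000000000000000000000000000000000000000000000000000000000000000000000000004691080000000000000000000000000000000000000000029227200000000000000000000149834000000000029306349130000004c90b80000000000000000000029225200000000000000000000000000000000000000000000000000000000000000120b1c00000000000000015241800000000002a482b51d149c589800002a3a220000000000000000000015980cac885d6602ab221362408b0e83d8901ac3a0b69804b4881dc2c0b0060200000))) (BT.leaf (Bx.mk (nat_lit 0xcc09900000000000000000000000000000001b82f400000000000000000000000000805b90000000000000000))))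
noncomputable def eDo1_c10 : BT (Bx Nat) := (BT.node (nat_lit 1) (BT.leaf (Bx.mk (nat_lit 0x5e6ceb0035979b3980dd0a86e92f366e00000c00d4de6cd2f3667801a5000000000000000179b31000005e6cc000000f9b8cc00cfe0067af365b79b2c00000000002f365400000bcd94e006680000000000c00cc800002f364c00000000003cf0f00000000000000005e6c8c0000000000bcd90e006400000000000c00c68000022345f79b1ec00c4800002f363b80186000005e6c6f0030780182bcd8d6005f40000000000bcd8c6005eb002f179b17c00ba8000000000180172c00b8de6c53002d98016a84da4de6c4b002cb80164bcd88e00587002bf79b10c00ae600566f361f80155c00a95e6c3b0029f8014cbcd86e005230028b79b0cc00a16004fef36178013bc009c5e6c2b0026b80132bcd84e004bb0025780128c0092e0048b0023f8011cc008ce0045b0022752906a9302d26c229360f61a03acd825e18070040400000))) (BT.leaf (Bx.mk (nat_lit 0x2a6a440000179b790000039164af36e681b9500000000002f36e0a9a760000000000218aee00000bcdb3de6d9923508000006e2cc00000000000d1b9b000000000011935000000000000000014375c0000000000000000000010296800000000002f368e00000000000000000000000000bcda0de6d030035e00000))))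
noncomputable def eDo1_p : BT (Bx Nat) := (BT.node (nat_lit 1) (BT.leaf (Bx.mk (nat_lit 0x73f19cfc573e29cec673b15ce8a73a0dce4a73819ce0573729cd4673515cd0a73329ccc373309cc8673215cc4a73109cc0a73009cbc372e19cb8572d29cb0a72b19cac572a29ca8272929ca437290989ca6271989c56262989866261589466242989066241588ca6231988c562129884662115880a62019880561f19878a61e19878561d29874661d1586ca61b1986c561a29868661a1586466182986066181585ca6171985c561529854661515850a61419850561319848a61219848561129844661115440a5100d440250f2943c350f09438a50e0d438250d29434350d09430a50c0d430250b2942c350b09428a50a0d42825092942435090902064081501c640715018640615014640514c10330408c0c330308808620214404a000000000))) (BT.leaf (Bx.mk (nat_lit 0x8812a1e8687a161e4a8781a1e058732a1c86872161c458702a1b0686c161a8686a161a068672a198a8651a17c685f16178a75b29d64675915d54675515d48675215d3c674f15d38a74c19d30574b29d24374819d20574729d14674515d10a74219d08574129d00a7400dd002))))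
noncomputable def eDo1_e0 : BT Nat := (BT.node (nat_lit 1856) (BT.node (nat_lit 512) (BT.node (nat_lit 73) (BT.node (nat_lit 69) (BT.node (nat_lit 66) (BT.leaf (nat_lit 2)) (BT.node (nat_lit 68) (BT.leaf (nat_lit 262146)) (BT.leaf (nat_lit 524290)))) (BT.node (nat_lit 71) (BT.leaf (nat_lit 786434)) (BT.node (nat_lit 72) (BT.leaf (nat_lit 1048578)) (BT.leaf (nat_lit 1310722))))) (BT.node (nat_lit 256) (BT.node (nat_lit 128) (BT.leaf (nat_lit 1572866)) (BT.node (nat_lit 192) (BT.leaf (nat_lit 35881)) (BT.leaf (nat_lit 2837)))) (BT.node (nat_lit 320) (BT.leaf (nat_lit 1577)) (BT.node (nat_lit 384) (BT.leaf (nat_lit 1545)) (BT.leaf (nat_lit 3093)))))) (BT.node (nat_lit 1088) (BT.node (nat_lit 704) (BT.node (nat_lit 576) (BT.leaf (nat_lit 3865)) (BT.node (nat_lit 640) (BT.leaf (nat_lit 1557)) (BT.leaf (nat_lit 1561)))) (BT.node (nat_lit 768) (BT.leaf (nat_lit 3097)) (BT.node (nat_lit 960) (BT.leaf (nat_lit 6921)) (BT.leaf (nat_lit 9513))))) (BT.node (nat_lit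 1600) (BT.node (nat_lit 1408) (BT.leaf (nat_lit 2825)) (BT.node (nat_lit 1472) (BT.leaf (nat_lit 19469)) (BT.leaf (nat_lit 17705)))) (BT.node (nat_lit 1728) (BT.node (nat_lit 1664) (BT.leaf (nat_lit 7193)) (BT.leaf (nat_lit 6925))) (BT.node (nat_lit 1792) (BT.leaf (nat_lit 16661)) (BT.leaf (nat_lit 16905))))))) (BT.node (nat_lit 4224) (BT.node (nat_lit 3008) (BT.node (nat_lit 2368) (BT.node (nat_lit 1984) (BT.leaf (nat_lit 6661)) (BT.node (nat_lit 2176) (BT.leaf (nat_lit 9477)) (BT.leaf (nat_lit 7173)))) (BT.node (nat_lit 2560) (BT.leaf (nat_lit 21769)) (BT.node (nat_lit 2752) (BT.leaf (nat_lit 9493)) (BT.leaf (nat_lit 7465))))) (BT.node (nat_lit 3840) (BT.node (nat_lit 3200) (BT.leaf (nat_lit 35865)) (BT.node (nat_lit 3584) (BT.leaf (nat_lit 14341)) (BT.leaf (nat_lit 7945)))) (BT.node (nat_lit 4032) (BT.leaf (nat_lit 7189)) (BT.node (nat_lit 4160) (BT.leaf (nat_lit 16909)) (BT.leaf (nat_lit 33577)))))) (BT.node (nat_lit 5696) (BT.node (nat_lit 4864) (BT.node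 (nat_lit 4416) (BT.leaf (nat_lit 33817)) (BT.node (nat_lit 4672) (BT.leaf (nat_lit 16133)) (BT.leaf (nat_lit 7961)))) (BT.node (nat_lit 5440) (BT.leaf (nat_lit 10249)) (BT.node (nat_lit 5504) (BT.leaf (nat_lit 38169)) (BT.leaf (nat_lit 9497))))) (BT.node (nat_lit 8448) (BT.node (nat_lit 6656) (BT.leaf (nat_lit 16913)) (BT.node (nat_lit 8384) (BT.leaf (nat_lit 22029)) (BT.leaf (nat_lit 43029)))) (BT.node (nat_lit 9536) (BT.node (nat_lit 8960) (BT.leaf (nat_lit 43305)) (BT.leaf (nat_lit 22025))) (BT.node (nat_lit 10816) (BT.leaf (nat_lit 43049)) (BT.leaf (nat_lit 43013))))))))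
noncomputable def eDo1_e : BT Nat := eDo1_e0
noncomputable def eDo1_cols : List (BT (Bx Nat)) := [eDo1_c0, eDo1_c1, eDo1_c2, eDo1_c3, eDo1_c4, eDo1_c5, eDo1_c6, eDo1_c7, eDo1_c8, eDo1_c9, eDo1_c10]
noncomputable def eDo1_ch (x j : Nat) : Bx Nat := chunkG eDo1_cols (nat_lit 2) x j
noncomputable def eDo1_L (x : Nat) : Bx (Nat → Nat) := lookG eDo1_ch (nat_lit 7) (nat_lit 127) (nat_lit 21) (nat_lit 2097151) x
noncomputable def eDo1_pc (_ j : Nat) : Bx Nat := eDo1_p.get j
noncomputable def eDo1_pb : Bx (Nat → Nat) := lookG eDo1_pc (nat_lit 7) (nat_lit 127) (nat_lit 18) (nat_lit 262143) (nat_lit 0)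
noncomputable def eDo1_rots : BT CW := (BT.node (nat_lit 38) (BT.node (nat_lit 19) (BT.node (nat_lit 9) (BT.node (nat_lit 4) (BT.node (nat_lit 2) (BT.node (nat_lit 1) (BT.leaf ⟨[], (nat_lit 1000000), (nat_lit 0), (nat_lit 0), (nat_lit 0)⟩) (BT.leaf ⟨[], (nat_lit 1000000), (nat_lit 0), (nat_lit 0), (nat_lit 1)⟩)) (BT.node (nat_lit 3) (BT.leaf ⟨[], (nat_lit 1000000), (nat_lit 0), (nat_lit 0), (nat_lit 2)⟩) (BT.leaf ⟨[(nat_lit 3), (nat_lit 2)], (nat_lit 145), (nat_lit 1), (nat_lit 0), (nat_lit 3)⟩))) (BT.node (nat_lit 6) (BT.node (nat_lit 5) (BT.leaf ⟨[(nat_lit 6), (nat_lit 5)], (nat_lit 143), (nat_lit 1), (nat_lit 0), (nat_lit 3)⟩) (BT.leaf ⟨[(nat_lit 10), (nat_lit 10)], (nat_lit 121), (nat_lit 0), (nat_lit 0), (nat_lit 3)⟩)) (BT.node (nat_lit 7) (BT.leaf ⟨[(nat_lit 1), (nat_lit 10), (nat_lit 1), (nat_lit 10)], (nat_lit 129), (nat_lit 1), (nat_lit 0), (nat_lit 4)⟩) (BT.node (nat_lit 8) (BT.leaf ⟨[(nat_lit 2), (nat_lit 10), (nat_lit 3), (nat_lit 10)], (nat_lit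 130), (nat_lit 1), (nat_lit 0), (nat_lit 4)⟩) (BT.leaf ⟨[(nat_lit 3), (nat_lit 2)], (nat_lit 145), (nat_lit 1), (nat_lit 0), (nat_lit 4)⟩))))) (BT.node (nat_lit 14) (BT.node (nat_lit 11) (BT.node (nat_lit 10) (BT.leaf ⟨[(nat_lit 7), (nat_lit 10), (nat_lit 7), (nat_lit 10)], (nat_lit 131), (nat_lit 1), (nat_lit 0), (nat_lit 4)⟩) (BT.leaf ⟨[(nat_lit 9), (nat_lit 10), (nat_lit 9), (nat_lit 7), (nat_lit 10)], (nat_lit 128), (nat_lit 1), (nat_lit 0), (nat_lit 4)⟩)) (BT.node (nat_lit 12) (BT.leaf ⟨[(nat_lit 4), (nat_lit 10), (nat_lit 4), (nat_lit 7), (nat_lit 10)], (nat_lit 132), (nat_lit 1), (nat_lit 0), (nat_lit 4)⟩) (BT.node (nat_lit 13) (BT.leaf ⟨[(nat_lit 8), (nat_lit 7), (nat_lit 1), (nat_lit 4), (nat_lit 1), (nat_lit 4)], (nat_lit 20), (nat_lit 4), (nat_lit 0), (nat_lit 4)⟩) (BT.leaf ⟨[(nat_lit 6), (nat_lit 5)], (nat_lit 143), (nat_lit 1), (nat_lit 0), (nat_lit 4)⟩)))) (BT.node (nat_lit 16) (BT.node (nat_lit 15) (BT.leaf ⟨[(nat_lit 1), (nat_lit 6), (nat_lit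 1), (nat_lit 5)], (nat_lit 9), (nat_lit 2), (nat_lit 0), (nat_lit 4)⟩) (BT.leaf ⟨[(nat_lit 7), (nat_lit 6), (nat_lit 8), (nat_lit 5)], (nat_lit 13), (nat_lit 1), (nat_lit 0), (nat_lit 4)⟩)) (BT.node (nat_lit 17) (BT.leaf ⟨[(nat_lit 9), (nat_lit 6), (nat_lit 9), (nat_lit 5)], (nat_lit 125), (nat_lit 2), (nat_lit 0), (nat_lit 4)⟩) (BT.node (nat_lit 18) (BT.leaf ⟨[(nat_lit 8), (nat_lit 6), (nat_lit 7), (nat_lit 5), (nat_lit 7)], (nat_lit 17), (nat_lit 2), (nat_lit 0), (nat_lit 4)⟩) (BT.leaf ⟨[(nat_lit 4), (nat_lit 6), (nat_lit 3), (nat_lit 8), (nat_lit 2), (nat_lit 5)], (nat_lit 22), (nat_lit 2), (nat_lit 0), (nat_lit 4)⟩)))))) (BT.node (nat_lit 28) (BT.node (nat_lit 23) (BT.node (nat_lit 21) (BT.node (nat_lit 20) (BT.leaf ⟨[(nat_lit 5), (nat_lit 6)], (nat_lit 143), (nat_lit 0), (nat_lit 0), (nat_lit 4)⟩) (BT.leaf ⟨[(nat_lit 6), (nat_lit 6), (nat_lit 6)], (nat_lit 152), (nat_lit 0), (nat_lit 0), (nat_lit 4)⟩)) (BT.node (nat_lit 22) (BT.leaf ⟨[(nat_lit 1),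 (nat_lit 5), (nat_lit 1), (nat_lit 6)], (nat_lit 9), (nat_lit 0), (nat_lit 0), (nat_lit 4)⟩) (BT.leaf ⟨[(nat_lit 8), (nat_lit 5), (nat_lit 7), (nat_lit 6)], (nat_lit 13), (nat_lit 3), (nat_lit 0), (nat_lit 4)⟩))) (BT.node (nat_lit 25) (BT.node (nat_lit 24) (BT.leaf ⟨[(nat_lit 9), (nat_lit 5), (nat_lit 9), (nat_lit 6)], (nat_lit 125), (nat_lit 0), (nat_lit 0), (nat_lit 4)⟩) (BT.leaf ⟨[(nat_lit 4), (nat_lit 5), (nat_lit 4), (nat_lit 1), (nat_lit 2), (nat_lit 8), (nat_lit 3), (nat_lit 6)], (nat_lit 32), (nat_lit 5), (nat_lit 0), (nat_lit 4)⟩)) (BT.node (nat_lit 26) (BT.leaf ⟨[(nat_lit 10), (nat_lit 6), (nat_lit 10), (nat_lit 6), (nat_lit 10), (nat_lit 9), (nat_lit 1), (nat_lit 8), (nat_lit 6)], (nat_lit 280), (nat_lit 4), (nat_lit 0), (nat_lit 4)⟩) (BT.node (nat_lit 27) (BT.leaf ⟨[(nat_lit 10), (nat_lit 10)], (nat_lit 121), (nat_lit 0), (nat_lit 0), (nat_lit 4)⟩) (BT.leaf ⟨[(nat_lit 7), (nat_lit 3), (nat_lit 7), (nat_lit 2)], (nat_lit 11), (nat_lit 1), (nat_lit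 0), (nat_lit 4)⟩))))) (BT.node (nat_lit 33) (BT.node (nat_lit 30) (BT.node (nat_lit 29) (BT.leaf ⟨[(nat_lit 9), (nat_lit 3), (nat_lit 9), (nat_lit 2)], (nat_lit 123), (nat_lit 2), (nat_lit 0), (nat_lit 4)⟩) (BT.leaf ⟨[(nat_lit 8), (nat_lit 3), (nat_lit 5), (nat_lit 4), (nat_lit 7), (nat_lit 6), (nat_lit 2)], (nat_lit 27), (nat_lit 1), (nat_lit 0), (nat_lit 4)⟩)) (BT.node (nat_lit 31) (BT.leaf ⟨[(nat_lit 2), (nat_lit 3)], (nat_lit 145), (nat_lit 0), (nat_lit 0), (nat_lit 4)⟩) (BT.node (nat_lit 32) (BT.leaf ⟨[(nat_lit 3), (nat_lit 3), (nat_lit 3)], (nat_lit 151), (nat_lit 0), (nat_lit 0), (nat_lit 4)⟩) (BT.leaf ⟨[(nat_lit 4), (nat_lit 3), (nat_lit 4), (nat_lit 3)], (nat_lit 155), (nat_lit 0), (nat_lit 0), (nat_lit 4)⟩)))) (BT.node (nat_lit 35) (BT.node (nat_lit 34) (BT.leaf ⟨[(nat_lit 4), (nat_lit 4)], (nat_lit 1), (nat_lit 0), (nat_lit 0), (nat_lit 4)⟩) (BT.leaf ⟨[(nat_lit 7), (nat_lit 2), (nat_lit 7), (nat_lit 3)], (nat_lit 11), (nat_lit 3), (nat_lit 0),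 (nat_lit 4)⟩)) (BT.node (nat_lit 36) (BT.leaf ⟨[(nat_lit 9), (nat_lit 2), (nat_lit 9), (nat_lit 3)], (nat_lit 123), (nat_lit 0), (nat_lit 0), (nat_lit 4)⟩) (BT.node (nat_lit 37) (BT.leaf ⟨[(nat_lit 8), (nat_lit 4), (nat_lit 8), (nat_lit 4)], (nat_lit 15), (nat_lit 1), (nat_lit 0), (nat_lit 4)⟩) (BT.leaf ⟨[(nat_lit 10), (nat_lit 3), (nat_lit 10), (nat_lit 2)], (nat_lit 130), (nat_lit 2), (nat_lit 0), (nat_lit 4)⟩))))))) (BT.node (nat_lit 57) (BT.node (nat_lit 47) (BT.node (nat_lit 42) (BT.node (nat_lit 40) (BT.node (nat_lit 39) (BT.leaf ⟨[(nat_lit 1), (nat_lit 3), (nat_lit 6), (nat_lit 2), (nat_lit 1), (nat_lit 3), (nat_lit 6), (nat_lit 2)], (nat_lit 180), (nat_lit 3), (nat_lit 0), (nat_lit 4)⟩) (BT.leaf ⟨[(nat_lit 1), (nat_lit 1)], (nat_lit 0), (nat_lit 0), (nat_lit 0), (nat_lit 4)⟩)) (BT.node (nat_lit 41) (BT.leaf ⟨[(nat_lit 10), (nat_lit 2), (nat_lit 10), (nat_lit 3)], (nat_lit 130), (nat_lit 0), (nat_lit 0), (nat_lit 4)⟩) (BT.leaf ⟨[(nat_lit 1), (nat_lit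 3), (nat_lit 1), (nat_lit 3), (nat_lit 1), (nat_lit 3)], (nat_lit 166), (nat_lit 1), (nat_lit 0), (nat_lit 4)⟩))) (BT.node (nat_lit 44) (BT.node (nat_lit 43) (BT.leaf ⟨[(nat_lit 8), (nat_lit 1), (nat_lit 8), (nat_lit 1)], (nat_lit 14), (nat_lit 1), (nat_lit 0), (nat_lit 4)⟩) (BT.leaf ⟨[(nat_lit 4), (nat_lit 8), (nat_lit 7), (nat_lit 1), (nat_lit 4), (nat_lit 1)], (nat_lit 20), (nat_lit 3), (nat_lit 0), (nat_lit 4)⟩)) (BT.node (nat_lit 45) (BT.leaf ⟨[(nat_lit 1), (nat_lit 2), (nat_lit 6), (nat_lit 3), (nat_lit 1), (nat_lit 2), (nat_lit 6), (nat_lit 3)], (nat_lit 178), (nat_lit 3), (nat_lit 0), (nat_lit 4)⟩) (BT.node (nat_lit 46) (BT.leaf ⟨[(nat_lit 6), (nat_lit 10), (nat_lit 6), (nat_lit 10), (nat_lit 9), (nat_lit 1), (nat_lit 8), (nat_lit 6), (nat_lit 10)], (nat_lit 280), (nat_lit 5), (nat_lit 0), (nat_lit 4)⟩) (BT.leaf ⟨[(nat_lit 8), (nat_lit 8)], (nat_lit 3), (nat_lit 0), (nat_lit 0), (nat_lit 4)⟩))))) (BT.node (nat_lit 52) (BT.node (nat_lit 49) (BT.node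 (nat_lit 48) (BT.leaf ⟨[(nat_lit 8), (nat_lit 2), (nat_lit 5), (nat_lit 4), (nat_lit 6), (nat_lit 3)], (nat_lit 22), (nat_lit 5), (nat_lit 0), (nat_lit 4)⟩) (BT.leaf ⟨[(nat_lit 1), (nat_lit 2), (nat_lit 1), (nat_lit 2), (nat_lit 1), (nat_lit 2)], (nat_lit 19), (nat_lit 0), (nat_lit 0), (nat_lit 4)⟩)) (BT.node (nat_lit 50) (BT.leaf ⟨[(nat_lit 4), (nat_lit 2), (nat_lit 4), (nat_lit 2)], (nat_lit 8), (nat_lit 1), (nat_lit 0), (nat_lit 4)⟩) (BT.node (nat_lit 51) (BT.leaf ⟨[(nat_lit 1), (nat_lit 8), (nat_lit 1), (nat_lit 8)], (nat_lit 14), (nat_lit 0), (nat_lit 0), (nat_lit 4)⟩) (BT.leaf ⟨[(nat_lit 5), (nat_lit 1), (nat_lit 6), (nat_lit 1)], (nat_lit 9), (nat_lit 1), (nat_lit 0), (nat_lit 4)⟩)))) (BT.node (nat_lit 54) (BT.node (nat_lit 53) (BT.leaf ⟨[(nat_lit 3), (nat_lit 10), (nat_lit 2), (nat_lit 10)], (nat_lit 130), (nat_lit 3), (nat_lit 0), (nat_lit 4)⟩) (BT.leaf ⟨[(nat_lit 7), (nat_lit 7)], (nat_lit 2), (nat_lit 0), (nat_lit 0), (nat_lit 4)⟩)) (BT.node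 (nat_lit 55) (BT.leaf ⟨[(nat_lit 8), (nat_lit 3), (nat_lit 6), (nat_lit 4), (nat_lit 5), (nat_lit 4), (nat_lit 1), (nat_lit 2)], (nat_lit 32), (nat_lit 2), (nat_lit 0), (nat_lit 4)⟩) (BT.node (nat_lit 56) (BT.leaf ⟨[(nat_lit 4), (nat_lit 6), (nat_lit 2), (nat_lit 7), (nat_lit 8), (nat_lit 3), (nat_lit 5), (nat_lit 8)], (nat_lit 34), (nat_lit 6), (nat_lit 0), (nat_lit 4)⟩) (BT.leaf ⟨[(nat_lit 3), (nat_lit 5), (nat_lit 10), (nat_lit 6), (nat_lit 8), (nat_lit 3), (nat_lit 1), (nat_lit 4), (nat_lit 1), (nat_lit 5), (nat_lit 10), (nat_lit 6), (nat_lit 2), (nat_lit 5), (nat_lit 10), (nat_lit 6), (nat_lit 3), (nat_lit 5), (nat_lit 10), (nat_lit 6), (nat_lit 4), (nat_lit 5), (nat_lit 10), (nat_lit 6), (nat_lit 2), (nat_lit 5), (nat_lit 10), (nat_lit 6)], (nat_lit 137), (nat_lit 19), (nat_lit 0), (nat_lit 4)⟩)))))) (BT.node (nat_lit 67) (BT.node (nat_lit 62) (BT.node (nat_lit 59) (BT.node (nat_lit 58) (BT.leaf ⟨[(nat_lit 4), (nat_lit 7), (nat_lit 4), (nat_lit 7)],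 (nat_lit 12), (nat_lit 0), (nat_lit 0), (nat_lit 4)⟩) (BT.leaf ⟨[(nat_lit 4), (nat_lit 1), (nat_lit 4), (nat_lit 8), (nat_lit 7), (nat_lit 1)], (nat_lit 20), (nat_lit 1), (nat_lit 0), (nat_lit 4)⟩)) (BT.node (nat_lit 60) (BT.leaf ⟨[(nat_lit 10), (nat_lit 4), (nat_lit 7), (nat_lit 10), (nat_lit 4)], (nat_lit 132), (nat_lit 2), (nat_lit 0), (nat_lit 4)⟩) (BT.node (nat_lit 61) (BT.leaf ⟨[(nat_lit 1), (nat_lit 3), (nat_lit 5), (nat_lit 2), (nat_lit 1), (nat_lit 3), (nat_lit 5), (nat_lit 2)], (nat_lit 33), (nat_lit 0), (nat_lit 0), (nat_lit 4)⟩) (BT.leaf ⟨[(nat_lit 9), (nat_lit 9)], (nat_lit 120), (nat_lit 0), (nat_lit 0), (nat_lit 4)⟩)))) (BT.node (nat_lit 64) (BT.node (nat_lit 63) (BT.leaf ⟨[(nat_lit 1), (nat_lit 4), (nat_lit 7), (nat_lit 8), (nat_lit 1), (nat_lit 4)], (nat_lit 21), (nat_lit 2), (nat_lit 0), (nat_lit 4)⟩) (BT.leaf ⟨[(nat_lit 9), (nat_lit 1), (nat_lit 9), (nat_lit 1)], (nat_lit 122), (nat_lit 0), (nat_lit 0), (nat_lit 4)⟩)) (BT.node (nat_lit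 65) (BT.leaf ⟨[(nat_lit 9), (nat_lit 4), (nat_lit 9), (nat_lit 4)], (nat_lit 124), (nat_lit 0), (nat_lit 0), (nat_lit 4)⟩) (BT.node (nat_lit 66) (BT.leaf ⟨[(nat_lit 5), (nat_lit 3), (nat_lit 5), (nat_lit 10), (nat_lit 6), (nat_lit 2), (nat_lit 5), (nat_lit 10), (nat_lit 6), (nat_lit 3), (nat_lit 5), (nat_lit 10), (nat_lit 6), (nat_lit 6), (nat_lit 5), (nat_lit 10), (nat_lit 6), (nat_lit 2), (nat_lit 5), (nat_lit 10), (nat_lit 6), (nat_lit 3), (nat_lit 5), (nat_lit 10), (nat_lit 6), (nat_lit 2), (nat_lit 4), (nat_lit 1)], (nat_lit 285), (nat_lit 3), (nat_lit 0), (nat_lit 4)⟩) (BT.leaf ⟨[(nat_lit 8), (nat_lit 1), (nat_lit 4), (nat_lit 1), (nat_lit 4), (nat_lit 7)], (nat_lit 21), (nat_lit 5), (nat_lit 0), (nat_lit 4)⟩))))) (BT.node (nat_lit 72) (BT.node (nat_lit 69) (BT.node (nat_lit 68) (BT.leaf ⟨[(nat_lit 8), (nat_lit 4), (nat_lit 1), (nat_lit 4), (nat_lit 1), (nat_lit 7)], (nat_lit 167), (nat_lit 1), (nat_lit 0), (nat_lit 4)⟩) (BT.leaf ⟨[(nat_lit 10),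 (nat_lit 5), (nat_lit 10), (nat_lit 5), (nat_lit 8), (nat_lit 1), (nat_lit 9), (nat_lit 10), (nat_lit 5)], (nat_lit 133), (nat_lit 2), (nat_lit 0), (nat_lit 4)⟩)) (BT.node (nat_lit 70) (BT.leaf ⟨[(nat_lit 5), (nat_lit 10), (nat_lit 5), (nat_lit 10), (nat_lit 5), (nat_lit 8), (nat_lit 1), (nat_lit 9), (nat_lit 10)], (nat_lit 133), (nat_lit 1), (nat_lit 0), (nat_lit 4)⟩) (BT.node (nat_lit 71) (BT.leaf ⟨[(nat_lit 2), (nat_lit 5), (nat_lit 10), (nat_lit 6), (nat_lit 3), (nat_lit 5), (nat_lit 10), (nat_lit 6), (nat_lit 2), (nat_lit 5), (nat_lit 10), (nat_lit 6), (nat_lit 2), (nat_lit 5), (nat_lit 10), (nat_lit 6), (nat_lit 3), (nat_lit 5), (nat_lit 10), (nat_lit 6), (nat_lit 2), (nat_lit 8), (nat_lit 5), (nat_lit 10), (nat_lit 6)], (nat_lit 136), (nat_lit 3), (nat_lit 0), (nat_lit 4)⟩) (BT.leaf ⟨[(nat_lit 4), (nat_lit 7), (nat_lit 10), (nat_lit 4), (nat_lit 10)], (nat_lit 132), (nat_lit 3), (nat_lit 0), (nat_lit 4)⟩)))) (BT.node (nat_lit 74) (BT.node (nat_lit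 73) (BT.leaf ⟨[(nat_lit 10), (nat_lit 1), (nat_lit 10), (nat_lit 1)], (nat_lit 129), (nat_lit 0), (nat_lit 0), (nat_lit 4)⟩) (BT.leaf ⟨[(nat_lit 2), (nat_lit 5), (nat_lit 10), (nat_lit 6), (nat_lit 3), (nat_lit 5), (nat_lit 10), (nat_lit 6), (nat_lit 6), (nat_lit 5), (nat_lit 10), (nat_lit 6), (nat_lit 2), (nat_lit 5), (nat_lit 10), (nat_lit 6), (nat_lit 3), (nat_lit 5), (nat_lit 10), (nat_lit 6), (nat_lit 2), (nat_lit 4), (nat_lit 1), (nat_lit 5), (nat_lit 3), (nat_lit 5), (nat_lit 10), (nat_lit 6)], (nat_lit 285), (nat_lit 8), (nat_lit 0), (nat_lit 4)⟩)) (BT.node (nat_lit 75) (BT.leaf ⟨[(nat_lit 2), (nat_lit 5), (nat_lit 10), (nat_lit 6), (nat_lit 3), (nat_lit 5), (nat_lit 10), (nat_lit 6), (nat_lit 5), (nat_lit 5), (nat_lit 10), (nat_lit 6), (nat_lit 2), (nat_lit 5), (nat_lit 10), (nat_lit 6), (nat_lit 3), (nat_lit 5), (nat_lit 10), (nat_lit 6), (nat_lit 2), (nat_lit 6), (nat_lit 1), (nat_lit 4), (nat_lit 3), (nat_lit 5), (nat_lit 10), (nat_lit 6)],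 (nat_lit 138), (nat_lit 3), (nat_lit 0), (nat_lit 4)⟩) (BT.node (nat_lit 76) (BT.leaf ⟨[(nat_lit 2), (nat_lit 5), (nat_lit 3), (nat_lit 8), (nat_lit 7), (nat_lit 1), (nat_lit 2), (nat_lit 5), (nat_lit 2), (nat_lit 6), (nat_lit 4), (nat_lit 5)], (nat_lit 107), (nat_lit 7), (nat_lit 0), (nat_lit 4)⟩) (BT.leaf ⟨[(nat_lit 0), (nat_lit 10), (nat_lit 6), (nat_lit 2), (nat_lit 5), (nat_lit 10), (nat_lit 6), (nat_lit 2), (nat_lit 5), (nat_lit 10), (nat_lit 6), (nat_lit 3), (nat_lit 5), (nat_lit 10), (nat_lit 6), (nat_lit 2), (nat_lit 8), (nat_lit 5), (nat_lit 10), (nat_lit 6), (nat_lit 2), (nat_lit 5), (nat_lit 10), (nat_lit 6), (nat_lit 3), (nat_lit 5)], (nat_lit 136), (nat_lit 9), (nat_lit 1), (nat_lit 4)⟩))))))))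
noncomputable def eDo1_hcs : List CW := [⟨[(nat_lit 1)], (nat_lit 0), (nat_lit 0), (nat_lit 0), (nat_lit 0)⟩, ⟨[(nat_lit 2)], (nat_lit 1), (nat_lit 0), (nat_lit 0), (nat_lit 0)⟩, ⟨[(nat_lit 4)], (nat_lit 2), (nat_lit 0), (nat_lit 0), (nat_lit 0)⟩, ⟨[(nat_lit 5)], (nat_lit 3), (nat_lit 0), (nat_lit 0), (nat_lit 0)⟩, ⟨[(nat_lit 7)], (nat_lit 4), (nat_lit 0), (nat_lit 0), (nat_lit 0)⟩, ⟨[(nat_lit 8)], (nat_lit 5), (nat_lit 0), (nat_lit 0), (nat_lit 0)⟩, ⟨[(nat_lit 9)], (nat_lit 6), (nat_lit 0), (nat_lit 0), (nat_lit 0)⟩, ⟨[(nat_lit 1)], (nat_lit 7), (nat_lit 0), (nat_lit 0), (nat_lit 0)⟩, ⟨[(nat_lit 3)], (nat_lit 8), (nat_lit 0), (nat_lit 0), (nat_lit 0)⟩, ⟨[(nat_lit 4)], (nat_lit 9), (nat_lit 0), (nat_lit 0), (nat_lit 0)⟩, ⟨[(nat_lit 6)], (nat_lit 10), (nat_lit 0), (nat_lit 0), (nat_lit 0)⟩, ⟨[(nat_lit 7)], (nat_lit 11), (nat_lit 0), (nat_lit 0), (nat_lit 0)⟩, ⟨[(nat_lit 8)], (nat_lit 12), (nat_lit 0), (nat_lit 0), (nat_lit 0)⟩, ⟨[(nat_lit 9)], (nat_lit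 13), (nat_lit 0), (nat_lit 0), (nat_lit 0)⟩]
noncomputable def eDo1_H (x j : Nat) : Bx (Nat → Nat → Nat) := mkH eDo1_L eDo1_pb.1 eDo1_e.get (lmap CW.w eDo1_hcs) (nat_lit 1) (nat_lit 2) (nat_lit 11) (nat_lit 256) (nat_lit 32768) (nat_lit 16383) x (eDo1_rots.get j)
noncomputable def eDo1_F (x b : Nat) : Bool := blkOK eDo1_H eDo1_ch (nat_lit 2) (nat_lit 256) (nat_lit 128) (nat_lit 7) (nat_lit 127) (nat_lit 21) (nat_lit 2097151) x b

theorem eDo1_k0_0 : allFrom (eDo1_F (nat_lit 0)) (nat_lit 0) (nat_lit 4) = true := by decide +kernel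
theorem eDo1_k1_0 : allFrom (eDo1_F (nat_lit 1)) (nat_lit 0) (nat_lit 4) = true := by decide +kernel
theorem eDo1_k2_0 : allFrom (eDo1_F (nat_lit 2)) (nat_lit 0) (nat_lit 4) = true := by decide +kernel
theorem eDo1_k3_0 : allFrom (eDo1_F (nat_lit 3)) (nat_lit 0) (nat_lit 4) = true := by decide +kernel
theorem eDo1_k4_0 : allFrom (eDo1_F (nat_lit 4)) (nat_lit 0) (nat_lit 4) = true := by decide +kernel
theorem eDo1_k5_0 : allFrom (eDo1_F (nat_lit 5)) (nat_lit 0) (nat_lit 4) = true := by decide +kernel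
theorem eDo1_k6_0 : allFrom (eDo1_F (nat_lit 6)) (nat_lit 0) (nat_lit 4) = true := by decide +kernel
theorem eDo1_k7_0 : allFrom (eDo1_F (nat_lit 7)) (nat_lit 0) (nat_lit 4) = true := by decide +kernel
theorem eDo1_k8_0 : allFrom (eDo1_F (nat_lit 8)) (nat_lit 0) (nat_lit 4) = true := by decide +kernel
theorem eDo1_k9_0 : allFrom (eDo1_F (nat_lit 9)) (nat_lit 0) (nat_lit 4) = true := by decide +kernel
theorem eDo1_k10_0 : allFrom (eDo1_F (nat_lit 10)) (nat_lit 0) (nat_lit 4) = true := by decide +kernel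

noncomputable def eDo2_c0 : BT (Bx Nat) := (BT.leaf (Bx.mk (nat_lit 0x2a1c100000241c80000000000000000000000000000000000000000000000000000000000000000000000000000000000000241a600000000000000000000201ae201ad000000000000000000000000000000000000000000000000000000000000000000000000000000000000000000201910000000000000001c197000001c195000000000000000000000000000000000000000000000000001c189000001818b1818a14189000000c182181851418614185101840c18308182041810000000000)))
noncomputable def eDo2_c1 : BT (Bx Nat) := (BT.leaf (Bx.mk (nat_lit 0x88b548535500000000002d6d600000603ce0000059348803c2814c100000000005decd903c4903c399e40000008d3467d34c7d34b953450000068b39687b880b3068b33687b26533e0000088b26887a588b29887aa0000000000983af00000000000000098b28987a70000085334853359532d9532c85337853368839b719a0883987199a6d32390396918919039391894853246d321a1297853229d31900000a16928d31c8d31d9d3158d31e90b0c9078b98b0a987898d3108d30f9530e9530d99486a1285953089d307a4b04a4783a8382b018100000)))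
noncomputable def eDo2_c2 : BT (Bx Nat) := (BT.leaf (Bx.mk (nat_lit 0xa8449360d2000000000000000a8442000000000000000acf3900000acf340000000000acf2e000000000000000000000000000000acf2600000000000000000000000000000000000000000000000000000000000000000000000000000000000000000000000000000000000000b00c5000000000000000b00c000000000000000000000000000000000000000000000000000a4f31acf0c000000000000000a4f2bacf0aa4f1500000acf09a4f12b00a3b00a0b009eb009cb0099b0097b0094b0091acf04a4f08acf03a4f06b0087b0085a8402b018100000)))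
noncomputable def eDo2_c3 : BT (Bx Nat) := (BT.leaf (Bx.mk (nat_lit 0x321540000000000000000000000000000000000000000000000000000000000000000000000000000000000000ac4aa0000000000a44d1a8fc0ac4a6a9aa40000000000000000000000000b00cd00000000000000000000b00cb0000000000a9a9b00000a9a98b00c80000000000a9a9600000000000000000000b00c10000000000000000000000000ac48f000000000000000ac48d00000000000000000000ac48b00000a8f94ac48a00000a8f91ac48900000b00a10000000000b009a00000b0095b0092a8f87ac484a8f85ac483b0088b0086a4482ac20100000)))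
noncomputable def eDo2_c4 : BT (Bx Nat) := (BT.leaf (Bx.mk (nat_lit 0x48644000007064200000000005dcce0000000000450cc000006d0ca00000000000000051ca80000000000550b70000061cb30000059d3b000006d63c000005d0b9000000000075ba900000000008cc26000000000000000000004d0be00000890ad000000000079915000009d020000008061b8991a00000000007d09f8509e00000886180000000000000000000000000950119109200000a098f90c0c000008d08e9098b7d610989899d007990889d00599086a0c04a0983a8602b018100000)))
noncomputable def eDo2_c5 : BT (Bx Nat) := (BT.leaf (Bx.mk (nat_lit 0xaca4300000a4a53000000000000000000000000000000000000000000000000000000000000000000000000000b00d20000000000b00d00000000000aca220000000000aca200000000000a4a370000000000aca1a0000000000aca180000000000aca15a4a2d0000000000aca13aca12a4a28aca11a4a2674a3cb00bd81a24b00bab00b800000b00b600000b00b484a30b00b20000088a1bb00ae88a29b00acb00aa8ca16b00a7b00a5aca08a4a1000000a4a0eaca06a4a0caca05a4a0ab008fb008db008bb0089aca02a4a04b0083b018100000)))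
noncomputable def eDo2_c6 : BT (Bx Nat) := (BT.leaf (Bx.mk (nat_lit 0xa8ad2ac74200000ac73f000000000000000000000000000000b00d70000000000b00d50000000000b00d4b00d3000000000000000a8abdac72378aa4a8abaac721a8ab8ac720a8ab6ac71e00000ac71ca8ab2ac71a0000088a9b00000ac717a8aacac71500000ac7148ca96a8aa7ac712a8aa5ac7117c722b00beb00bcb00bbb00b900000b00b7b00b5000008d718b00b300000b00b00000091713b00ad00000b00a9b00a8b00a6a8a8fac708a8a8dac707a8a8bac706a8a89ac705b0090b008eb008cb008aa8a83ac702b0084ac28100000)))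
noncomputable def eDo2_c7 : BT (Bx Nat) := (BT.leaf (Bx.mk (nat_lit 0x6054261141000008114870547000000000000000000000000000000000000000000000000000000059c37000007083c000000000061c26708255c83e00000000008882e71c2d8c82c00000000000000085c3474833000008052b000007c8295c83b00000648390000000000000008c522000008cda0000000000000000000008051b8111a000008851800000845160000084d948c5130000000000808109080f8480e000008480c8c80b8880a9080995108000009d1069cd8598804a0803a8502b018100000)))
noncomputable def eDo2_c8 : BT (Bx Nat) := (BT.leaf (Bx.mk (nat_lit 0x406ca000000000000000000000000000000000003d1c200000000000000000000617b68953c00000617a789539697a500000655bd000000000000000797ac00000855300000000000000007c93279b31000000000000000655ba000006c938795a400000000000000078e9100000751a37d59d000007c91b9581594e94000008d59c809169179a9179981513751a1757a0915108558f000008958d000008890b9950a8c90995188a4e879118694e85000009c903a4682b018100000)))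
noncomputable def eDo2_c9 : BT (Bx Nat) := (BT.leaf (Bx.mk (nat_lit 0x5204c59f420000055fcf00000705c70000000000000000000000000000000000000000000000000000000000000000000000000000000000000000000000000000000000000000000000000000000000000000000094bad000000000000000000000000000000000000000000000000000000000000000000000000000000000000000000000000000000000000000000099395000008c59300000000000000000000000000000000000000009cb8a9c889a1388a0e0700000a0e05a4b84a4883a8582b018100000)))
noncomputable def eDo2_c10 : BT (Bx Nat) := (BT.leaf (Bx.mk (nat_lit 0xacd48000000000038cd000000000000000000000acd3900000000000000000000acd2eb00d6acd2d0000000000acd28acd27acd26b00d100000acd23b00cf0000069db00000000000b00ce00000b00cc0000078ca900000b00ca000000000000000acd17b00c9b00c7b00c6acd140000074d35b00c4b00c3b00c200000acd10b00bfacd0f000000000000000000000000000000acd0c00000b00b1acd0bb00afacd0a00000b00abacd090000000000b00a4b00a2b009fb009db009bb0098b0096b0093994069920594d0894d07a0c839cd04ac301b010200000)))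
noncomputable def eDo2_p : BT (Bx Nat) := (BT.leaf (Bx.mk (nat_lit 0x89234482a230d10c68843442162094efc577c53b929dc86edca7681bb329d714eb8375a53ac29d504ea0a74e53a629d306e982646532319918ac886642332115900cc80563c331e158e8cc705634331a158c94c60662e5317158a8cc545628531415898cc4866242b1119888aa40a520128f294786a3c251c528e094694a342518528c0d4604a2ca516128a294506a28251252890d448482064102a0719038a818640c2a0519028a610330811830cc184408620428812800000000)))
noncomputable def eDo2_e0 : BT Nat := (BT.node (nat_lit 512) (BT.node (nat_lit 73) (BT.node (nat_lit 69) (BT.node (nat_lit 66) (BT.leaf (nat_lit 2)) (BT.node (nat_lit 68) (BT.leaf (nat_lit 262146)) (BT.leaf (nat_lit 524290)))) (BT.node (nat_lit 71) (BT.leaf (nat_lit 786434)) (BT.node (nat_lit 72) (BT.leaf (nat_lit 1048578)) (BT.leaf (nat_lit 1310722))))) (BT.node (nat_lit 256) (BT.node (nat_lit 128) (BT.leaf (nat_lit 1572866)) (BT.node (nat_lit 192) (BT.leaf (nat_lit 1833)) (BT.leaf (nat_lit 1813)))) (BT.node (nat_lit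 384) (BT.node (nat_lit 320) (BT.leaf (nat_lit 2089)) (BT.leaf (nat_lit 2057))) (BT.node (nat_lit 448) (BT.leaf (nat_lit 3093)) (BT.leaf (nat_lit 3353)))))) (BT.node (nat_lit 1664) (BT.node (nat_lit 768) (BT.node (nat_lit 576) (BT.leaf (nat_lit 3865)) (BT.node (nat_lit 704) (BT.leaf (nat_lit 2069)) (BT.leaf (nat_lit 3097)))) (BT.node (nat_lit 832) (BT.leaf (nat_lit 6665)) (BT.node (nat_lit 960) (BT.leaf (nat_lit 7181)) (BT.leaf (nat_lit 8205))))) (BT.node (nat_lit 3264) (BT.node (nat_lit 1792) (BT.leaf (nat_lit 13077)) (BT.node (nat_lit 2048) (BT.leaf (nat_lit 13337)) (BT.leaf (nat_lit 14613)))) (BT.node (nat_lit 3648) (BT.node (nat_lit 3328) (BT.leaf (nat_lit 14609)) (BT.leaf (nat_lit 19209))) (BT.node (nat_lit 4800) (BT.leaf (nat_lit 19721)) (BT.leaf (nat_lit 19717)))))))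
noncomputable def eDo2_e : BT Nat := eDo2_e0
noncomputable def eDo2_cols : List (BT (Bx Nat)) := [eDo2_c0, eDo2_c1, eDo2_c2, eDo2_c3, eDo2_c4, eDo2_c5, eDo2_c6, eDo2_c7, eDo2_c8, eDo2_c9, eDo2_c10]
noncomputable def eDo2_ch (x j : Nat) : Bx Nat := chunkG eDo2_cols (nat_lit 1) x j
noncomputable def eDo2_L (x : Nat) : Bx (Nat → Nat) := lookG eDo2_ch (nat_lit 7) (nat_lit 127) (nat_lit 20) (nat_lit 1048575) x
noncomputable def eDo2_pc (_ j : Nat) : Bx Nat := eDo2_p.get j
noncomputable def eDo2_pb : Bx (Nat → Nat) := lookG eDo2_pc (nat_lit 7) (nat_lit 127) (nat_lit 17) (nat_lit 131071) (nat_lit 0)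
noncomputable def eDo2_rots : BT CW := (BT.node (nat_lit 33) (BT.node (nat_lit 16) (BT.node (nat_lit 8) (BT.node (nat_lit 4) (BT.node (nat_lit 2) (BT.node (nat_lit 1) (BT.leaf ⟨[], (nat_lit 1000000), (nat_lit 0), (nat_lit 0), (nat_lit 0)⟩) (BT.leaf ⟨[], (nat_lit 1000000), (nat_lit 0), (nat_lit 0), (nat_lit 1)⟩)) (BT.node (nat_lit 3) (BT.leaf ⟨[], (nat_lit 1000000), (nat_lit 0), (nat_lit 0), (nat_lit 2)⟩) (BT.leaf ⟨[(nat_lit 3), (nat_lit 2)], (nat_lit 145), (nat_lit 1), (nat_lit 0), (nat_lit 3)⟩))) (BT.node (nat_lit 6) (BT.node (nat_lit 5) (BT.leaf ⟨[(nat_lit 6), (nat_lit 5)], (nat_lit 143), (nat_lit 1), (nat_lit 0), (nat_lit 3)⟩) (BT.leaf ⟨[(nat_lit 10), (nat_lit 10)], (nat_lit 121), (nat_lit 0), (nat_lit 0), (nat_lit 3)⟩)) (BT.node (nat_lit 7) (BT.leaf ⟨[(nat_lit 1), (nat_lit 10), (nat_lit 1), (nat_lit 10)], (nat_lit 129), (nat_lit 1), (nat_lit 0), (nat_lit 4)⟩) (BT.leaf ⟨[(nat_lit 2), (nat_lit 10), (nat_lit 3), (nat_lit 10)], (nat_lit 130), (nat_lit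 1), (nat_lit 0), (nat_lit 4)⟩)))) (BT.node (nat_lit 12) (BT.node (nat_lit 10) (BT.node (nat_lit 9) (BT.leaf ⟨[(nat_lit 3), (nat_lit 2)], (nat_lit 145), (nat_lit 1), (nat_lit 0), (nat_lit 4)⟩) (BT.leaf ⟨[(nat_lit 7), (nat_lit 10), (nat_lit 7), (nat_lit 10)], (nat_lit 131), (nat_lit 1), (nat_lit 0), (nat_lit 4)⟩)) (BT.node (nat_lit 11) (BT.leaf ⟨[(nat_lit 9), (nat_lit 10), (nat_lit 9), (nat_lit 7), (nat_lit 10)], (nat_lit 128), (nat_lit 1), (nat_lit 0), (nat_lit 4)⟩) (BT.leaf ⟨[(nat_lit 4), (nat_lit 10), (nat_lit 4), (nat_lit 7), (nat_lit 10)], (nat_lit 132), (nat_lit 1), (nat_lit 0), (nat_lit 4)⟩))) (BT.node (nat_lit 14) (BT.node (nat_lit 13) (BT.leaf ⟨[(nat_lit 8), (nat_lit 7), (nat_lit 1), (nat_lit 4), (nat_lit 1), (nat_lit 4)], (nat_lit 20), (nat_lit 4), (nat_lit 0), (nat_lit 4)⟩) (BT.leaf ⟨[(nat_lit 6), (nat_lit 5)], (nat_lit 143), (nat_lit 1), (nat_lit 0), (nat_lit 4)⟩)) (BT.node (nat_lit 15) (BT.leaf ⟨[(nat_lit 1), (nat_lit 6), (nat_lit 1), (nat_lit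 5)], (nat_lit 9), (nat_lit 2), (nat_lit 0), (nat_lit 4)⟩) (BT.leaf ⟨[(nat_lit 7), (nat_lit 6), (nat_lit 8), (nat_lit 5)], (nat_lit 13), (nat_lit 1), (nat_lit 0), (nat_lit 4)⟩))))) (BT.node (nat_lit 24) (BT.node (nat_lit 20) (BT.node (nat_lit 18) (BT.node (nat_lit 17) (BT.leaf ⟨[(nat_lit 9), (nat_lit 6), (nat_lit 9), (nat_lit 5)], (nat_lit 125), (nat_lit 2), (nat_lit 0), (nat_lit 4)⟩) (BT.leaf ⟨[(nat_lit 8), (nat_lit 6), (nat_lit 7), (nat_lit 5), (nat_lit 7)], (nat_lit 17), (nat_lit 2), (nat_lit 0), (nat_lit 4)⟩)) (BT.node (nat_lit 19) (BT.leaf ⟨[(nat_lit 4), (nat_lit 6), (nat_lit 3), (nat_lit 8), (nat_lit 2), (nat_lit 5)], (nat_lit 22), (nat_lit 2), (nat_lit 0), (nat_lit 4)⟩) (BT.leaf ⟨[(nat_lit 5), (nat_lit 6)], (nat_lit 143), (nat_lit 0), (nat_lit 0), (nat_lit 4)⟩))) (BT.node (nat_lit 22) (BT.node (nat_lit 21) (BT.leaf ⟨[(nat_lit 6), (nat_lit 6), (nat_lit 6)], (nat_lit 152), (nat_lit 0), (nat_lit 0), (nat_lit 4)⟩) (BT.leaf ⟨[(nat_lit 1), (nat_lit 5),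 (nat_lit 1), (nat_lit 6)], (nat_lit 9), (nat_lit 0), (nat_lit 0), (nat_lit 4)⟩)) (BT.node (nat_lit 23) (BT.leaf ⟨[(nat_lit 9), (nat_lit 5), (nat_lit 9), (nat_lit 6)], (nat_lit 125), (nat_lit 0), (nat_lit 0), (nat_lit 4)⟩) (BT.leaf ⟨[(nat_lit 4), (nat_lit 5), (nat_lit 4), (nat_lit 1), (nat_lit 2), (nat_lit 8), (nat_lit 3), (nat_lit 6)], (nat_lit 32), (nat_lit 5), (nat_lit 0), (nat_lit 4)⟩)))) (BT.node (nat_lit 28) (BT.node (nat_lit 26) (BT.node (nat_lit 25) (BT.leaf ⟨[(nat_lit 10), (nat_lit 6), (nat_lit 10), (nat_lit 6), (nat_lit 10), (nat_lit 9), (nat_lit 1), (nat_lit 8), (nat_lit 6)], (nat_lit 280), (nat_lit 4), (nat_lit 0), (nat_lit 4)⟩) (BT.leaf ⟨[(nat_lit 10), (nat_lit 10)], (nat_lit 121), (nat_lit 0), (nat_lit 0), (nat_lit 4)⟩)) (BT.node (nat_lit 27) (BT.leaf ⟨[(nat_lit 7), (nat_lit 3), (nat_lit 7), (nat_lit 2)], (nat_lit 11), (nat_lit 1), (nat_lit 0), (nat_lit 4)⟩) (BT.leaf ⟨[(nat_lit 9), (nat_lit 3), (nat_lit 9), (nat_lit 2)], (nat_lit 123), (nat_lit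 2), (nat_lit 0), (nat_lit 4)⟩))) (BT.node (nat_lit 30) (BT.node (nat_lit 29) (BT.leaf ⟨[(nat_lit 8), (nat_lit 3), (nat_lit 5), (nat_lit 4), (nat_lit 7), (nat_lit 6), (nat_lit 2)], (nat_lit 27), (nat_lit 1), (nat_lit 0), (nat_lit 4)⟩) (BT.leaf ⟨[(nat_lit 2), (nat_lit 3)], (nat_lit 145), (nat_lit 0), (nat_lit 0), (nat_lit 4)⟩)) (BT.node (nat_lit 31) (BT.leaf ⟨[(nat_lit 3), (nat_lit 3), (nat_lit 3)], (nat_lit 151), (nat_lit 0), (nat_lit 0), (nat_lit 4)⟩) (BT.node (nat_lit 32) (BT.leaf ⟨[(nat_lit 4), (nat_lit 3), (nat_lit 4), (nat_lit 3)], (nat_lit 155), (nat_lit 0), (nat_lit 0), (nat_lit 4)⟩) (BT.leaf ⟨[(nat_lit 4), (nat_lit 4)], (nat_lit 1), (nat_lit 0), (nat_lit 0), (nat_lit 4)⟩))))))) (BT.node (nat_lit 50) (BT.node (nat_lit 41) (BT.node (nat_lit 37) (BT.node (nat_lit 35) (BT.node (nat_lit 34) (BT.leaf ⟨[(nat_lit 7), (nat_lit 2), (nat_lit 7), (nat_lit 3)], (nat_lit 11), (nat_lit 3), (nat_lit 0), (nat_lit 4)⟩) (BT.leaf ⟨[(nat_lit 8), (nat_lit 4), (nat_lit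 8), (nat_lit 4)], (nat_lit 15), (nat_lit 1), (nat_lit 0), (nat_lit 4)⟩)) (BT.node (nat_lit 36) (BT.leaf ⟨[(nat_lit 10), (nat_lit 3), (nat_lit 10), (nat_lit 2)], (nat_lit 130), (nat_lit 2), (nat_lit 0), (nat_lit 4)⟩) (BT.leaf ⟨[(nat_lit 1), (nat_lit 3), (nat_lit 6), (nat_lit 2), (nat_lit 1), (nat_lit 3), (nat_lit 6), (nat_lit 2)], (nat_lit 180), (nat_lit 3), (nat_lit 0), (nat_lit 4)⟩))) (BT.node (nat_lit 39) (BT.node (nat_lit 38) (BT.leaf ⟨[(nat_lit 1), (nat_lit 1)], (nat_lit 0), (nat_lit 0), (nat_lit 0), (nat_lit 4)⟩) (BT.leaf ⟨[(nat_lit 9), (nat_lit 2), (nat_lit 9), (nat_lit 3)], (nat_lit 123), (nat_lit 0), (nat_lit 0), (nat_lit 4)⟩)) (BT.node (nat_lit 40) (BT.leaf ⟨[(nat_lit 10), (nat_lit 2), (nat_lit 10), (nat_lit 3)], (nat_lit 130), (nat_lit 0), (nat_lit 0), (nat_lit 4)⟩) (BT.leaf ⟨[(nat_lit 1), (nat_lit 3), (nat_lit 1), (nat_lit 3), (nat_lit 1), (nat_lit 3)], (nat_lit 166), (nat_lit 1), (nat_lit 0), (nat_lit 4)⟩)))) (BT.node (nat_lit 45) (BT.node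 (nat_lit 43) (BT.node (nat_lit 42) (BT.leaf ⟨[(nat_lit 8), (nat_lit 5), (nat_lit 7), (nat_lit 6)], (nat_lit 13), (nat_lit 3), (nat_lit 0), (nat_lit 4)⟩) (BT.leaf ⟨[(nat_lit 8), (nat_lit 1), (nat_lit 8), (nat_lit 1)], (nat_lit 14), (nat_lit 1), (nat_lit 0), (nat_lit 4)⟩)) (BT.node (nat_lit 44) (BT.leaf ⟨[(nat_lit 4), (nat_lit 8), (nat_lit 7), (nat_lit 1), (nat_lit 4), (nat_lit 1)], (nat_lit 20), (nat_lit 3), (nat_lit 0), (nat_lit 4)⟩) (BT.leaf ⟨[(nat_lit 1), (nat_lit 2), (nat_lit 6), (nat_lit 3), (nat_lit 1), (nat_lit 2), (nat_lit 6), (nat_lit 3)], (nat_lit 178), (nat_lit 3), (nat_lit 0), (nat_lit 4)⟩))) (BT.node (nat_lit 47) (BT.node (nat_lit 46) (BT.leaf ⟨[(nat_lit 6), (nat_lit 10), (nat_lit 6), (nat_lit 10), (nat_lit 9), (nat_lit 1), (nat_lit 8), (nat_lit 6), (nat_lit 10)], (nat_lit 280), (nat_lit 5), (nat_lit 0), (nat_lit 4)⟩) (BT.leaf ⟨[(nat_lit 8), (nat_lit 8)], (nat_lit 3), (nat_lit 0), (nat_lit 0), (nat_lit 4)⟩)) (BT.node (nat_lit 48) (BT.leaf ⟨[(nat_lit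 8), (nat_lit 2), (nat_lit 5), (nat_lit 4), (nat_lit 6), (nat_lit 3)], (nat_lit 22), (nat_lit 5), (nat_lit 0), (nat_lit 4)⟩) (BT.node (nat_lit 49) (BT.leaf ⟨[(nat_lit 1), (nat_lit 2), (nat_lit 1), (nat_lit 2), (nat_lit 1), (nat_lit 2)], (nat_lit 19), (nat_lit 0), (nat_lit 0), (nat_lit 4)⟩) (BT.leaf ⟨[(nat_lit 4), (nat_lit 2), (nat_lit 4), (nat_lit 2)], (nat_lit 8), (nat_lit 1), (nat_lit 0), (nat_lit 4)⟩)))))) (BT.node (nat_lit 58) (BT.node (nat_lit 54) (BT.node (nat_lit 52) (BT.node (nat_lit 51) (BT.leaf ⟨[(nat_lit 1), (nat_lit 8), (nat_lit 1), (nat_lit 8)], (nat_lit 14), (nat_lit 0), (nat_lit 0), (nat_lit 4)⟩) (BT.leaf ⟨[(nat_lit 5), (nat_lit 1), (nat_lit 6), (nat_lit 1)], (nat_lit 9), (nat_lit 1), (nat_lit 0), (nat_lit 4)⟩)) (BT.node (nat_lit 53) (BT.leaf ⟨[(nat_lit 3), (nat_lit 10), (nat_lit 2), (nat_lit 10)], (nat_lit 130), (nat_lit 3), (nat_lit 0), (nat_lit 4)⟩) (BT.leaf ⟨[(nat_lit 8), (nat_lit 3), (nat_lit 6), (nat_lit 4), (nat_lit 5), (nat_lit 4),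 (nat_lit 1), (nat_lit 2)], (nat_lit 32), (nat_lit 2), (nat_lit 0), (nat_lit 4)⟩))) (BT.node (nat_lit 56) (BT.node (nat_lit 55) (BT.leaf ⟨[(nat_lit 4), (nat_lit 6), (nat_lit 2), (nat_lit 7), (nat_lit 8), (nat_lit 3), (nat_lit 5), (nat_lit 8)], (nat_lit 34), (nat_lit 6), (nat_lit 0), (nat_lit 4)⟩) (BT.leaf ⟨[(nat_lit 7), (nat_lit 7)], (nat_lit 2), (nat_lit 0), (nat_lit 0), (nat_lit 4)⟩)) (BT.node (nat_lit 57) (BT.leaf ⟨[(nat_lit 4), (nat_lit 7), (nat_lit 4), (nat_lit 7)], (nat_lit 12), (nat_lit 0), (nat_lit 0), (nat_lit 4)⟩) (BT.leaf ⟨[(nat_lit 4), (nat_lit 1), (nat_lit 4), (nat_lit 8), (nat_lit 7), (nat_lit 1)], (nat_lit 20), (nat_lit 1), (nat_lit 0), (nat_lit 4)⟩)))) (BT.node (nat_lit 62) (BT.node (nat_lit 60) (BT.node (nat_lit 59) (BT.leaf ⟨[(nat_lit 10), (nat_lit 4), (nat_lit 7), (nat_lit 10), (nat_lit 4)], (nat_lit 132), (nat_lit 2), (nat_lit 0), (nat_lit 4)⟩) (BT.leaf ⟨[(nat_lit 1), (nat_lit 3), (nat_lit 5), (nat_lit 2), (nat_lit 1), (nat_lit 3), (nat_lit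 5), (nat_lit 2)], (nat_lit 33), (nat_lit 0), (nat_lit 0), (nat_lit 4)⟩)) (BT.node (nat_lit 61) (BT.leaf ⟨[(nat_lit 1), (nat_lit 7), (nat_lit 1), (nat_lit 7)], (nat_lit 10), (nat_lit 0), (nat_lit 0), (nat_lit 4)⟩) (BT.leaf ⟨[(nat_lit 9), (nat_lit 4), (nat_lit 9), (nat_lit 4)], (nat_lit 124), (nat_lit 0), (nat_lit 0), (nat_lit 4)⟩))) (BT.node (nat_lit 64) (BT.node (nat_lit 63) (BT.leaf ⟨[(nat_lit 9), (nat_lit 1), (nat_lit 9), (nat_lit 1)], (nat_lit 122), (nat_lit 0), (nat_lit 0), (nat_lit 4)⟩) (BT.leaf ⟨[(nat_lit 9), (nat_lit 9)], (nat_lit 120), (nat_lit 0), (nat_lit 0), (nat_lit 4)⟩)) (BT.node (nat_lit 65) (BT.leaf ⟨[(nat_lit 2), (nat_lit 5), (nat_lit 10), (nat_lit 6), (nat_lit 3), (nat_lit 5), (nat_lit 10), (nat_lit 6), (nat_lit 5), (nat_lit 5), (nat_lit 10), (nat_lit 6), (nat_lit 2), (nat_lit 5), (nat_lit 10), (nat_lit 6), (nat_lit 3), (nat_lit 5), (nat_lit 10), (nat_lit 6), (nat_lit 2), (nat_lit 8), (nat_lit 6), (nat_lit 3), (nat_lit 5), (nat_lit 10),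 (nat_lit 6)], (nat_lit 138), (nat_lit 3), (nat_lit 0), (nat_lit 4)⟩) (BT.node (nat_lit 66) (BT.leaf ⟨[(nat_lit 3), (nat_lit 5), (nat_lit 10), (nat_lit 6), (nat_lit 1), (nat_lit 5), (nat_lit 10), (nat_lit 6), (nat_lit 2), (nat_lit 5), (nat_lit 10), (nat_lit 6), (nat_lit 3), (nat_lit 5), (nat_lit 10), (nat_lit 6), (nat_lit 2), (nat_lit 1), (nat_lit 3), (nat_lit 5), (nat_lit 10), (nat_lit 6), (nat_lit 2), (nat_lit 5), (nat_lit 10), (nat_lit 6)], (nat_lit 135), (nat_lit 7), (nat_lit 0), (nat_lit 4)⟩) (BT.leaf ⟨[(nat_lit 0), (nat_lit 10), (nat_lit 1), (nat_lit 10), (nat_lit 1)], (nat_lit 129), (nat_lit 0), (nat_lit 1), (nat_lit 4)⟩))))))))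
noncomputable def eDo2_hcs : List CW := [⟨[(nat_lit 1)], (nat_lit 0), (nat_lit 0), (nat_lit 0), (nat_lit 0)⟩, ⟨[(nat_lit 2)], (nat_lit 1), (nat_lit 0), (nat_lit 0), (nat_lit 0)⟩, ⟨[(nat_lit 4)], (nat_lit 2), (nat_lit 0), (nat_lit 0), (nat_lit 0)⟩, ⟨[(nat_lit 5)], (nat_lit 3), (nat_lit 0), (nat_lit 0), (nat_lit 0)⟩, ⟨[(nat_lit 7)], (nat_lit 4), (nat_lit 0), (nat_lit 0), (nat_lit 0)⟩, ⟨[(nat_lit 8)], (nat_lit 5), (nat_lit 0), (nat_lit 0), (nat_lit 0)⟩, ⟨[(nat_lit 9)], (nat_lit 6), (nat_lit 0), (nat_lit 0), (nat_lit 0)⟩, ⟨[(nat_lit 1)], (nat_lit 7), (nat_lit 0), (nat_lit 0), (nat_lit 0)⟩, ⟨[(nat_lit 3)], (nat_lit 8), (nat_lit 0), (nat_lit 0), (nat_lit 0)⟩, ⟨[(nat_lit 4)], (nat_lit 9), (nat_lit 0), (nat_lit 0), (nat_lit 0)⟩, ⟨[(nat_lit 6)], (nat_lit 10), (nat_lit 0), (nat_lit 0), (nat_lit 0)⟩, ⟨[(nat_lit 7)], (nat_lit 11), (nat_lit 0), (nat_lit 0), (nat_lit 0)⟩, ⟨[(nat_lit 8)], (nat_lit 12), (nat_lit 0), (nat_lit 0), (nat_lit 0)⟩, ⟨[(nat_lit 9)], (nat_lit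 13), (nat_lit 0), (nat_lit 0), (nat_lit 0)⟩]
noncomputable def eDo2_H (x j : Nat) : Bx (Nat → Nat → Nat) := mkH eDo2_L eDo2_pb.1 eDo2_e.get (lmap CW.w eDo2_hcs) (nat_lit 1) (nat_lit 2) (nat_lit 11) (nat_lit 128) (nat_lit 16384) (nat_lit 8191) x (eDo2_rots.get j)
noncomputable def eDo2_F (x b : Nat) : Bool := blkOK eDo2_H eDo2_ch (nat_lit 2) (nat_lit 128) (nat_lit 128) (nat_lit 7) (nat_lit 127) (nat_lit 20) (nat_lit 1048575) x b

theorem eDo2_k0_0 : allFrom (eDo2_F (nat_lit 0)) (nat_lit 0) (nat_lit 2) = true := by decide +kernel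
theorem eDo2_k1_0 : allFrom (eDo2_F (nat_lit 1)) (nat_lit 0) (nat_lit 2) = true := by decide +kernel
theorem eDo2_k2_0 : allFrom (eDo2_F (nat_lit 2)) (nat_lit 0) (nat_lit 2) = true := by decide +kernel
theorem eDo2_k3_0 : allFrom (eDo2_F (nat_lit 3)) (nat_lit 0) (nat_lit 2) = true := by decide +kernel
theorem eDo2_k4_0 : allFrom (eDo2_F (nat_lit 4)) (nat_lit 0) (nat_lit 2) = true := by decide +kernel
theorem eDo2_k5_0 : allFrom (eDo2_F (nat_lit 5)) (nat_lit 0) (nat_lit 2) = true := by decide +kernel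
theorem eDo2_k6_0 : allFrom (eDo2_F (nat_lit 6)) (nat_lit 0) (nat_lit 2) = true := by decide +kernel
theorem eDo2_k7_0 : allFrom (eDo2_F (nat_lit 7)) (nat_lit 0) (nat_lit 2) = true := by decide +kernel
theorem eDo2_k8_0 : allFrom (eDo2_F (nat_lit 8)) (nat_lit 0) (nat_lit 2) = true := by decide +kernel
theorem eDo2_k9_0 : allFrom (eDo2_F (nat_lit 9)) (nat_lit 0) (nat_lit 2) = true := by decide +kernel
theorem eDo2_k10_0 : allFrom (eDo2_F (nat_lit 10)) (nat_lit 0) (nat_lit 2) = true := by decide +kernel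

noncomputable def eDo3_c0 : BT (Bx Nat) := (BT.leaf (Bx.mk (nat_lit 0x2a1c100000241c80000000000000000000000000000000000000000000000000000000000000000000000000000000000000241a600000000000000000000201ae201ad000000000000000000000000000000000000000000000000000000000000000000000000000000000000000000201910000000000000001c197000001c195000000000000000000000000000000000000000000000000001c189000001818b1818a14189000000c182181851418614185101840c18308182041810000000000)))
noncomputable def eDo3_c1 : BT (Bx Nat) := (BT.leaf (Bx.mk (nat_lit 0x88b548535500000000002d6d600000603ce0000059348803c2814c100000000005decd903c4903c399e40000008d3467d34c7d34b953450000068b39687b880b3068b33687b26533e0000088b26887a588b29887aa0000000000983af00000000000000098b28987a70000085334853359532d9532c85337853368839b719a0883987199a6d32390396918919039391894853246d321a1297853229d31900000a16928d31c8d31d9d3158d31e90b0c9078b98b0a987898d3108d30f9530e9530d99486a1285953089d307a4b04a4783a8382b018100000)))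
noncomputable def eDo3_c2 : BT (Bx Nat) := (BT.leaf (Bx.mk (nat_lit 0xa8449360d2000000000000000a8442000000000000000acf3900000acf340000000000acf2e000000000000000000000000000000acf2600000000000000000000000000000000000000000000000000000000000000000000000000000000000000000000000000000000000000b00c5000000000000000b00c000000000000000000000000000000000000000000000000000a4f31acf0c000000000000000a4f2bacf0aa4f1500000acf09a4f12b00a3b00a0b009eb009cb0099b0097b0094b0091acf04a4f08acf03a4f06b0087b0085a8402b018100000)))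
noncomputable def eDo3_c3 : BT (Bx Nat) := (BT.leaf (Bx.mk (nat_lit 0x321540000000000000000000000000000000000000000000000000000000000000000000000000000000000000ac4aa0000000000a44d1a8fc0ac4a6a9aa40000000000000000000000000b00cd00000000000000000000b00cb0000000000a9a9b00000a9a98b00c80000000000a9a9600000000000000000000b00c10000000000000000000000000ac48f000000000000000ac48d00000000000000000000ac48b00000a8f94ac48a00000a8f91ac48900000b00a10000000000b009a00000b0095b0092a8f87ac484a8f85ac483b0088b0086a4482ac20100000)))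
noncomputable def eDo3_c4 : BT (Bx Nat) := (BT.leaf (Bx.mk (nat_lit 0x48644000007064200000000005dcce0000000000450cc000006d0ca00000000000000051ca80000000000550b70000061cb30000059d3b000006d63c000005d0b9000000000075ba900000000008cc26000000000000000000004d0be00000890ad000000000079915000009d020000008061b8991a00000000007d09f8509e00000886180000000000000000000000000950119109200000a098f90c0c000008d08e9098b7d610989899d007990889d00599086a0c04a0983a8602b018100000)))
noncomputable def eDo3_c5 : BT (Bx Nat) := (BT.leaf (Bx.mk (nat_lit 0xaca4300000a4a53000000000000000000000000000000000000000000000000000000000000000000000000000b00d20000000000b00d00000000000aca220000000000aca200000000000a4a370000000000aca1a0000000000aca180000000000aca15a4a2d0000000000aca13aca12a4a28aca11a4a2674a3cb00bd81a24b00bab00b800000b00b600000b00b484a30b00b20000088a1bb00ae88a29b00acb00aa8ca16b00a7b00a5aca08a4a1000000a4a0eaca06a4a0caca05a4a0ab008fb008db008bb0089aca02a4a04b0083b018100000)))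
noncomputable def eDo3_c6 : BT (Bx Nat) := (BT.leaf (Bx.mk (nat_lit 0xa8ad2ac74200000ac73f000000000000000000000000000000b00d70000000000b00d50000000000b00d4b00d3000000000000000a8abdac72378aa4a8abaac721a8ab8ac720a8ab6ac71e00000ac71ca8ab2ac71a0000088a9b00000ac717a8aacac71500000ac7148ca96a8aa7ac712a8aa5ac7117c722b00beb00bcb00bbb00b900000b00b7b00b5000008d718b00b300000b00b00000091713b00ad00000b00a9b00a8b00a6a8a8fac708a8a8dac707a8a8bac706a8a89ac705b0090b008eb008cb008aa8a83ac702b0084ac28100000)))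
noncomputable def eDo3_c7 : BT (Bx Nat) := (BT.leaf (Bx.mk (nat_lit 0x6054261141000008114870547000000000000000000000000000000000000000000000000000000059c37000007083c000000000061c26708255c83e00000000008882e71c2d8c82c00000000000000085c3474833000008052b000007c8295c83b00000648390000000000000008c522000008cda0000000000000000000008051b8111a000008851800000845160000084d948c5130000000000808109080f8480e000008480c8c80b8880a9080995108000009d1069cd8598804a0803a8502b018100000)))
noncomputable def eDo3_c8 : BT (Bx Nat) := (BT.leaf (Bx.mk (nat_lit 0x406ca000000000000000000000000000000000003d1c200000000000000000000617b68953c00000617a789539697a500000655bd000000000000000797ac00000855300000000000000007c93279b31000000000000000655ba000006c938795a400000000000000078e9100000751a37d59d000007c91b9581594e94000008d59c809169179a9179981513751a1757a0915108558f000008958d000008890b9950a8c90995188a4e879118694e85000009c903a4682b018100000)))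
noncomputable def eDo3_c9 : BT (Bx Nat) := (BT.leaf (Bx.mk (nat_lit 0x5204c59f420000055fcf00000705c70000000000000000000000000000000000000000000000000000000000000000000000000000000000000000000000000000000000000000000000000000000000000000000094bad000000000000000000000000000000000000000000000000000000000000000000000000000000000000000000000000000000000000000000099395000008c59300000000000000000000000000000000000000009cb8a9c889a1388a0e0700000a0e05a4b84a4883a8582b018100000)))
noncomputable def eDo3_c10 : BT (Bx Nat) := (BT.leaf (Bx.mk (nat_lit 0xacd48000000000038cd000000000000000000000acd3900000000000000000000acd2eb00d6acd2d0000000000acd28acd27acd26b00d100000acd23b00cf0000069db00000000000b00ce00000b00cc0000078ca900000b00ca000000000000000acd17b00c9b00c7b00c6acd140000074d35b00c4b00c3b00c200000acd10b00bfacd0f000000000000000000000000000000acd0c00000b00b1acd0bb00afacd0a00000b00abacd090000000000b00a4b00a2b009fb009db009bb0098b0096b0093994069920594d0894d07a0c839cd04ac301b010200000)))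
noncomputable def eDo3_p : BT (Bx Nat) := (BT.leaf (Bx.mk (nat_lit 0x89234482a230d10c68843442162094efc577c53b929dc86edca7681bb329d714eb8375a53ac29d504ea0a74e53a629d306e982646532319918ac886642332115900cc80563c331e158e8cc705634331a158c94c60662e5317158a8cc545628531415898cc4866242b1119888aa40a520128f294786a3c251c528e094694a342518528c0d4604a2ca516128a294506a28251252890d448482064102a0719038a818640c2a0519028a610330811830cc184408620428812800000000)))
noncomputable def eDo3_e0 : BT Nat := (BT.node (nat_lit 512) (BT.node (nat_lit 73) (BT.node (nat_lit 69) (BT.node (nat_lit 66) (BT.leaf (nat_lit 2)) (BT.node (nat_lit 68) (BT.leaf (nat_lit 262146)) (BT.leaf (nat_lit 524290)))) (BT.node (nat_lit 71) (BT.leaf (nat_lit 786434)) (BT.node (nat_lit 72) (BT.leaf (nat_lit 1048578)) (BT.leaf (nat_lit 1310722))))) (BT.node (nat_lit 256) (BT.node (nat_lit 128) (BT.leaf (nat_lit 1572866)) (BT.node (nat_lit 192) (BT.leaf (nat_lit 1833)) (BT.leaf (nat_lit 1813)))) (BT.node (nat_lit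 384) (BT.node (nat_lit 320) (BT.leaf (nat_lit 2089)) (BT.leaf (nat_lit 2057))) (BT.node (nat_lit 448) (BT.leaf (nat_lit 3093)) (BT.leaf (nat_lit 3353)))))) (BT.node (nat_lit 1664) (BT.node (nat_lit 768) (BT.node (nat_lit 576) (BT.leaf (nat_lit 3865)) (BT.node (nat_lit 704) (BT.leaf (nat_lit 2069)) (BT.leaf (nat_lit 3097)))) (BT.node (nat_lit 832) (BT.leaf (nat_lit 6665)) (BT.node (nat_lit 960) (BT.leaf (nat_lit 7181)) (BT.leaf (nat_lit 8205))))) (BT.node (nat_lit 3264) (BT.node (nat_lit 1792) (BT.leaf (nat_lit 13077)) (BT.node (nat_lit 2048) (BT.leaf (nat_lit 13337)) (BT.leaf (nat_lit 14613)))) (BT.node (nat_lit 3648) (BT.node (nat_lit 3328) (BT.leaf (nat_lit 14609)) (BT.leaf (nat_lit 19209))) (BT.node (nat_lit 4800) (BT.leaf (nat_lit 19721)) (BT.leaf (nat_lit 19717)))))))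
noncomputable def eDo3_e : BT Nat := eDo3_e0
noncomputable def eDo3_cols : List (BT (Bx Nat)) := [eDo3_c0, eDo3_c1, eDo3_c2, eDo3_c3, eDo3_c4, eDo3_c5, eDo3_c6, eDo3_c7, eDo3_c8, eDo3_c9, eDo3_c10]
noncomputable def eDo3_ch (x j : Nat) : Bx Nat := chunkG eDo3_cols (nat_lit 1) x j
noncomputable def eDo3_L (x : Nat) : Bx (Nat → Nat) := lookG eDo3_ch (nat_lit 7) (nat_lit 127) (nat_lit 20) (nat_lit 1048575) x
noncomputable def eDo3_pc (_ j : Nat) : Bx Nat := eDo3_p.get j
noncomputable def eDo3_pb : Bx (Nat → Nat) := lookG eDo3_pc (nat_lit 7) (nat_lit 127) (nat_lit 17) (nat_lit 131071) (nat_lit 0)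
noncomputable def eDo3_rots : BT CW := (BT.node (nat_lit 33) (BT.node (nat_lit 16) (BT.node (nat_lit 8) (BT.node (nat_lit 4) (BT.node (nat_lit 2) (BT.node (nat_lit 1) (BT.leaf ⟨[], (nat_lit 1000000), (nat_lit 0), (nat_lit 0), (nat_lit 0)⟩) (BT.leaf ⟨[], (nat_lit 1000000), (nat_lit 0), (nat_lit 0), (nat_lit 1)⟩)) (BT.node (nat_lit 3) (BT.leaf ⟨[], (nat_lit 1000000), (nat_lit 0), (nat_lit 0), (nat_lit 2)⟩) (BT.leaf ⟨[(nat_lit 3), (nat_lit 2)], (nat_lit 145), (nat_lit 1), (nat_lit 0), (nat_lit 3)⟩))) (BT.node (nat_lit 6) (BT.node (nat_lit 5) (BT.leaf ⟨[(nat_lit 6), (nat_lit 5)], (nat_lit 143), (nat_lit 1), (nat_lit 0), (nat_lit 3)⟩) (BT.leaf ⟨[(nat_lit 10), (nat_lit 10)], (nat_lit 121), (nat_lit 0), (nat_lit 0), (nat_lit 3)⟩)) (BT.node (nat_lit 7) (BT.leaf ⟨[(nat_lit 1), (nat_lit 10), (nat_lit 1), (nat_lit 10)], (nat_lit 129), (nat_lit 1), (nat_lit 0), (nat_lit 4)⟩) (BT.leaf ⟨[(nat_lit 2), (nat_lit 10), (nat_lit 3), (nat_lit 10)], (nat_lit 130), (nat_lit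 1), (nat_lit 0), (nat_lit 4)⟩)))) (BT.node (nat_lit 12) (BT.node (nat_lit 10) (BT.node (nat_lit 9) (BT.leaf ⟨[(nat_lit 3), (nat_lit 2)], (nat_lit 145), (nat_lit 1), (nat_lit 0), (nat_lit 4)⟩) (BT.leaf ⟨[(nat_lit 7), (nat_lit 10), (nat_lit 7), (nat_lit 10)], (nat_lit 131), (nat_lit 1), (nat_lit 0), (nat_lit 4)⟩)) (BT.node (nat_lit 11) (BT.leaf ⟨[(nat_lit 9), (nat_lit 10), (nat_lit 9), (nat_lit 7), (nat_lit 10)], (nat_lit 128), (nat_lit 1), (nat_lit 0), (nat_lit 4)⟩) (BT.leaf ⟨[(nat_lit 4), (nat_lit 10), (nat_lit 4), (nat_lit 7), (nat_lit 10)], (nat_lit 132), (nat_lit 1), (nat_lit 0), (nat_lit 4)⟩))) (BT.node (nat_lit 14) (BT.node (nat_lit 13) (BT.leaf ⟨[(nat_lit 8), (nat_lit 7), (nat_lit 1), (nat_lit 4), (nat_lit 1), (nat_lit 4)], (nat_lit 20), (nat_lit 4), (nat_lit 0), (nat_lit 4)⟩) (BT.leaf ⟨[(nat_lit 6), (nat_lit 5)], (nat_lit 143), (nat_lit 1), (nat_lit 0), (nat_lit 4)⟩)) (BT.node (nat_lit 15) (BT.leaf ⟨[(nat_lit 1), (nat_lit 6), (nat_lit 1), (nat_lit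 5)], (nat_lit 9), (nat_lit 2), (nat_lit 0), (nat_lit 4)⟩) (BT.leaf ⟨[(nat_lit 7), (nat_lit 6), (nat_lit 8), (nat_lit 5)], (nat_lit 13), (nat_lit 1), (nat_lit 0), (nat_lit 4)⟩))))) (BT.node (nat_lit 24) (BT.node (nat_lit 20) (BT.node (nat_lit 18) (BT.node (nat_lit 17) (BT.leaf ⟨[(nat_lit 9), (nat_lit 6), (nat_lit 9), (nat_lit 5)], (nat_lit 125), (nat_lit 2), (nat_lit 0), (nat_lit 4)⟩) (BT.leaf ⟨[(nat_lit 8), (nat_lit 6), (nat_lit 7), (nat_lit 5), (nat_lit 7)], (nat_lit 17), (nat_lit 2), (nat_lit 0), (nat_lit 4)⟩)) (BT.node (nat_lit 19) (BT.leaf ⟨[(nat_lit 4), (nat_lit 6), (nat_lit 3), (nat_lit 8), (nat_lit 2), (nat_lit 5)], (nat_lit 22), (nat_lit 2), (nat_lit 0), (nat_lit 4)⟩) (BT.leaf ⟨[(nat_lit 5), (nat_lit 6)], (nat_lit 143), (nat_lit 0), (nat_lit 0), (nat_lit 4)⟩))) (BT.node (nat_lit 22) (BT.node (nat_lit 21) (BT.leaf ⟨[(nat_lit 6), (nat_lit 6), (nat_lit 6)], (nat_lit 152), (nat_lit 0), (nat_lit 0), (nat_lit 4)⟩) (BT.leaf ⟨[(nat_lit 1), (nat_lit 5),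 (nat_lit 1), (nat_lit 6)], (nat_lit 9), (nat_lit 0), (nat_lit 0), (nat_lit 4)⟩)) (BT.node (nat_lit 23) (BT.leaf ⟨[(nat_lit 9), (nat_lit 5), (nat_lit 9), (nat_lit 6)], (nat_lit 125), (nat_lit 0), (nat_lit 0), (nat_lit 4)⟩) (BT.leaf ⟨[(nat_lit 4), (nat_lit 5), (nat_lit 4), (nat_lit 1), (nat_lit 2), (nat_lit 8), (nat_lit 3), (nat_lit 6)], (nat_lit 32), (nat_lit 5), (nat_lit 0), (nat_lit 4)⟩)))) (BT.node (nat_lit 28) (BT.node (nat_lit 26) (BT.node (nat_lit 25) (BT.leaf ⟨[(nat_lit 10), (nat_lit 6), (nat_lit 10), (nat_lit 6), (nat_lit 10), (nat_lit 9), (nat_lit 1), (nat_lit 8), (nat_lit 6)], (nat_lit 280), (nat_lit 4), (nat_lit 0), (nat_lit 4)⟩) (BT.leaf ⟨[(nat_lit 10), (nat_lit 10)], (nat_lit 121), (nat_lit 0), (nat_lit 0), (nat_lit 4)⟩)) (BT.node (nat_lit 27) (BT.leaf ⟨[(nat_lit 7), (nat_lit 3), (nat_lit 7), (nat_lit 2)], (nat_lit 11), (nat_lit 1), (nat_lit 0), (nat_lit 4)⟩) (BT.leaf ⟨[(nat_lit 9), (nat_lit 3), (nat_lit 9), (nat_lit 2)], (nat_lit 123), (nat_lit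 2), (nat_lit 0), (nat_lit 4)⟩))) (BT.node (nat_lit 30) (BT.node (nat_lit 29) (BT.leaf ⟨[(nat_lit 8), (nat_lit 3), (nat_lit 5), (nat_lit 4), (nat_lit 7), (nat_lit 6), (nat_lit 2)], (nat_lit 27), (nat_lit 1), (nat_lit 0), (nat_lit 4)⟩) (BT.leaf ⟨[(nat_lit 2), (nat_lit 3)], (nat_lit 145), (nat_lit 0), (nat_lit 0), (nat_lit 4)⟩)) (BT.node (nat_lit 31) (BT.leaf ⟨[(nat_lit 3), (nat_lit 3), (nat_lit 3)], (nat_lit 151), (nat_lit 0), (nat_lit 0), (nat_lit 4)⟩) (BT.node (nat_lit 32) (BT.leaf ⟨[(nat_lit 4), (nat_lit 3), (nat_lit 4), (nat_lit 3)], (nat_lit 155), (nat_lit 0), (nat_lit 0), (nat_lit 4)⟩) (BT.leaf ⟨[(nat_lit 4), (nat_lit 4)], (nat_lit 1), (nat_lit 0), (nat_lit 0), (nat_lit 4)⟩))))))) (BT.node (nat_lit 50) (BT.node (nat_lit 41) (BT.node (nat_lit 37) (BT.node (nat_lit 35) (BT.node (nat_lit 34) (BT.leaf ⟨[(nat_lit 7), (nat_lit 2), (nat_lit 7), (nat_lit 3)], (nat_lit 11), (nat_lit 3), (nat_lit 0), (nat_lit 4)⟩) (BT.leaf ⟨[(nat_lit 8), (nat_lit 4), (nat_lit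 8), (nat_lit 4)], (nat_lit 15), (nat_lit 1), (nat_lit 0), (nat_lit 4)⟩)) (BT.node (nat_lit 36) (BT.leaf ⟨[(nat_lit 10), (nat_lit 3), (nat_lit 10), (nat_lit 2)], (nat_lit 130), (nat_lit 2), (nat_lit 0), (nat_lit 4)⟩) (BT.leaf ⟨[(nat_lit 1), (nat_lit 3), (nat_lit 6), (nat_lit 2), (nat_lit 1), (nat_lit 3), (nat_lit 6), (nat_lit 2)], (nat_lit 180), (nat_lit 3), (nat_lit 0), (nat_lit 4)⟩))) (BT.node (nat_lit 39) (BT.node (nat_lit 38) (BT.leaf ⟨[(nat_lit 1), (nat_lit 1)], (nat_lit 0), (nat_lit 0), (nat_lit 0), (nat_lit 4)⟩) (BT.leaf ⟨[(nat_lit 9), (nat_lit 2), (nat_lit 9), (nat_lit 3)], (nat_lit 123), (nat_lit 0), (nat_lit 0), (nat_lit 4)⟩)) (BT.node (nat_lit 40) (BT.leaf ⟨[(nat_lit 10), (nat_lit 2), (nat_lit 10), (nat_lit 3)], (nat_lit 130), (nat_lit 0), (nat_lit 0), (nat_lit 4)⟩) (BT.leaf ⟨[(nat_lit 1), (nat_lit 3), (nat_lit 1), (nat_lit 3), (nat_lit 1), (nat_lit 3)], (nat_lit 166), (nat_lit 1), (nat_lit 0), (nat_lit 4)⟩)))) (BT.node (nat_lit 45) (BT.node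 (nat_lit 43) (BT.node (nat_lit 42) (BT.leaf ⟨[(nat_lit 8), (nat_lit 5), (nat_lit 7), (nat_lit 6)], (nat_lit 13), (nat_lit 3), (nat_lit 0), (nat_lit 4)⟩) (BT.leaf ⟨[(nat_lit 8), (nat_lit 1), (nat_lit 8), (nat_lit 1)], (nat_lit 14), (nat_lit 1), (nat_lit 0), (nat_lit 4)⟩)) (BT.node (nat_lit 44) (BT.leaf ⟨[(nat_lit 4), (nat_lit 8), (nat_lit 7), (nat_lit 1), (nat_lit 4), (nat_lit 1)], (nat_lit 20), (nat_lit 3), (nat_lit 0), (nat_lit 4)⟩) (BT.leaf ⟨[(nat_lit 1), (nat_lit 2), (nat_lit 6), (nat_lit 3), (nat_lit 1), (nat_lit 2), (nat_lit 6), (nat_lit 3)], (nat_lit 178), (nat_lit 3), (nat_lit 0), (nat_lit 4)⟩))) (BT.node (nat_lit 47) (BT.node (nat_lit 46) (BT.leaf ⟨[(nat_lit 6), (nat_lit 10), (nat_lit 6), (nat_lit 10), (nat_lit 9), (nat_lit 1), (nat_lit 8), (nat_lit 6), (nat_lit 10)], (nat_lit 280), (nat_lit 5), (nat_lit 0), (nat_lit 4)⟩) (BT.leaf ⟨[(nat_lit 8), (nat_lit 8)], (nat_lit 3), (nat_lit 0), (nat_lit 0), (nat_lit 4)⟩)) (BT.node (nat_lit 48) (BT.leaf ⟨[(nat_lit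 8), (nat_lit 2), (nat_lit 5), (nat_lit 4), (nat_lit 6), (nat_lit 3)], (nat_lit 22), (nat_lit 5), (nat_lit 0), (nat_lit 4)⟩) (BT.node (nat_lit 49) (BT.leaf ⟨[(nat_lit 1), (nat_lit 2), (nat_lit 1), (nat_lit 2), (nat_lit 1), (nat_lit 2)], (nat_lit 19), (nat_lit 0), (nat_lit 0), (nat_lit 4)⟩) (BT.leaf ⟨[(nat_lit 4), (nat_lit 2), (nat_lit 4), (nat_lit 2)], (nat_lit 8), (nat_lit 1), (nat_lit 0), (nat_lit 4)⟩)))))) (BT.node (nat_lit 58) (BT.node (nat_lit 54) (BT.node (nat_lit 52) (BT.node (nat_lit 51) (BT.leaf ⟨[(nat_lit 1), (nat_lit 8), (nat_lit 1), (nat_lit 8)], (nat_lit 14), (nat_lit 0), (nat_lit 0), (nat_lit 4)⟩) (BT.leaf ⟨[(nat_lit 5), (nat_lit 1), (nat_lit 6), (nat_lit 1)], (nat_lit 9), (nat_lit 1), (nat_lit 0), (nat_lit 4)⟩)) (BT.node (nat_lit 53) (BT.leaf ⟨[(nat_lit 3), (nat_lit 10), (nat_lit 2), (nat_lit 10)], (nat_lit 130), (nat_lit 3), (nat_lit 0), (nat_lit 4)⟩) (BT.leaf ⟨[(nat_lit 8), (nat_lit 3), (nat_lit 6), (nat_lit 4), (nat_lit 5), (nat_lit 4),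 (nat_lit 1), (nat_lit 2)], (nat_lit 32), (nat_lit 2), (nat_lit 0), (nat_lit 4)⟩))) (BT.node (nat_lit 56) (BT.node (nat_lit 55) (BT.leaf ⟨[(nat_lit 4), (nat_lit 6), (nat_lit 2), (nat_lit 7), (nat_lit 8), (nat_lit 3), (nat_lit 5), (nat_lit 8)], (nat_lit 34), (nat_lit 6), (nat_lit 0), (nat_lit 4)⟩) (BT.leaf ⟨[(nat_lit 7), (nat_lit 7)], (nat_lit 2), (nat_lit 0), (nat_lit 0), (nat_lit 4)⟩)) (BT.node (nat_lit 57) (BT.leaf ⟨[(nat_lit 4), (nat_lit 7), (nat_lit 4), (nat_lit 7)], (nat_lit 12), (nat_lit 0), (nat_lit 0), (nat_lit 4)⟩) (BT.leaf ⟨[(nat_lit 4), (nat_lit 1), (nat_lit 4), (nat_lit 8), (nat_lit 7), (nat_lit 1)], (nat_lit 20), (nat_lit 1), (nat_lit 0), (nat_lit 4)⟩)))) (BT.node (nat_lit 62) (BT.node (nat_lit 60) (BT.node (nat_lit 59) (BT.leaf ⟨[(nat_lit 10), (nat_lit 4), (nat_lit 7), (nat_lit 10), (nat_lit 4)], (nat_lit 132), (nat_lit 2), (nat_lit 0), (nat_lit 4)⟩) (BT.leaf ⟨[(nat_lit 1), (nat_lit 3), (nat_lit 5), (nat_lit 2), (nat_lit 1), (nat_lit 3), (nat_lit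 5), (nat_lit 2)], (nat_lit 33), (nat_lit 0), (nat_lit 0), (nat_lit 4)⟩)) (BT.node (nat_lit 61) (BT.leaf ⟨[(nat_lit 1), (nat_lit 7), (nat_lit 1), (nat_lit 7)], (nat_lit 10), (nat_lit 0), (nat_lit 0), (nat_lit 4)⟩) (BT.leaf ⟨[(nat_lit 9), (nat_lit 4), (nat_lit 9), (nat_lit 4)], (nat_lit 124), (nat_lit 0), (nat_lit 0), (nat_lit 4)⟩))) (BT.node (nat_lit 64) (BT.node (nat_lit 63) (BT.leaf ⟨[(nat_lit 9), (nat_lit 1), (nat_lit 9), (nat_lit 1)], (nat_lit 122), (nat_lit 0), (nat_lit 0), (nat_lit 4)⟩) (BT.leaf ⟨[(nat_lit 9), (nat_lit 9)], (nat_lit 120), (nat_lit 0), (nat_lit 0), (nat_lit 4)⟩)) (BT.node (nat_lit 65) (BT.leaf ⟨[(nat_lit 2), (nat_lit 5), (nat_lit 10), (nat_lit 6), (nat_lit 3), (nat_lit 5), (nat_lit 10), (nat_lit 6), (nat_lit 5), (nat_lit 5), (nat_lit 10), (nat_lit 6), (nat_lit 2), (nat_lit 5), (nat_lit 10), (nat_lit 6), (nat_lit 3), (nat_lit 5), (nat_lit 10), (nat_lit 6), (nat_lit 2), (nat_lit 6), (nat_lit 3), (nat_lit 5), (nat_lit 10), (nat_lit 6)],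 (nat_lit 138), (nat_lit 3), (nat_lit 0), (nat_lit 4)⟩) (BT.node (nat_lit 66) (BT.leaf ⟨[(nat_lit 3), (nat_lit 5), (nat_lit 10), (nat_lit 6), (nat_lit 1), (nat_lit 5), (nat_lit 10), (nat_lit 6), (nat_lit 2), (nat_lit 5), (nat_lit 10), (nat_lit 6), (nat_lit 3), (nat_lit 5), (nat_lit 10), (nat_lit 6), (nat_lit 2), (nat_lit 1), (nat_lit 3), (nat_lit 5), (nat_lit 10), (nat_lit 6), (nat_lit 2), (nat_lit 5), (nat_lit 10), (nat_lit 6)], (nat_lit 135), (nat_lit 7), (nat_lit 0), (nat_lit 4)⟩) (BT.leaf ⟨[(nat_lit 0), (nat_lit 10), (nat_lit 1), (nat_lit 10), (nat_lit 1)], (nat_lit 129), (nat_lit 0), (nat_lit 1), (nat_lit 4)⟩))))))))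
noncomputable def eDo3_hcs : List CW := [⟨[(nat_lit 1)], (nat_lit 0), (nat_lit 0), (nat_lit 0), (nat_lit 0)⟩, ⟨[(nat_lit 2)], (nat_lit 1), (nat_lit 0), (nat_lit 0), (nat_lit 0)⟩, ⟨[(nat_lit 4)], (nat_lit 2), (nat_lit 0), (nat_lit 0), (nat_lit 0)⟩, ⟨[(nat_lit 5)], (nat_lit 3), (nat_lit 0), (nat_lit 0), (nat_lit 0)⟩, ⟨[(nat_lit 7)], (nat_lit 4), (nat_lit 0), (nat_lit 0), (nat_lit 0)⟩, ⟨[(nat_lit 8)], (nat_lit 5), (nat_lit 0), (nat_lit 0), (nat_lit 0)⟩, ⟨[(nat_lit 9)], (nat_lit 6), (nat_lit 0), (nat_lit 0), (nat_lit 0)⟩, ⟨[(nat_lit 1)], (nat_lit 7), (nat_lit 0), (nat_lit 0), (nat_lit 0)⟩, ⟨[(nat_lit 3)], (nat_lit 8), (nat_lit 0), (nat_lit 0), (nat_lit 0)⟩, ⟨[(nat_lit 4)], (nat_lit 9), (nat_lit 0), (nat_lit 0), (nat_lit 0)⟩, ⟨[(nat_lit 6)], (nat_lit 10), (nat_lit 0), (nat_lit 0), (nat_lit 0)⟩, ⟨[(nat_lit 7)], (nat_lit 11), (nat_lit 0), (nat_lit 0), (nat_lit 0)⟩, ⟨[(nat_lit 8)], (nat_lit 12), (nat_lit 0), (nat_lit 0), (nat_lit 0)⟩, ⟨[(nat_lit 9)], (nat_lit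 13), (nat_lit 0), (nat_lit 0), (nat_lit 0)⟩]
noncomputable def eDo3_H (x j : Nat) : Bx (Nat → Nat → Nat) := mkH eDo3_L eDo3_pb.1 eDo3_e.get (lmap CW.w eDo3_hcs) (nat_lit 1) (nat_lit 2) (nat_lit 11) (nat_lit 128) (nat_lit 16384) (nat_lit 8191) x (eDo3_rots.get j)
noncomputable def eDo3_F (x b : Nat) : Bool := blkOK eDo3_H eDo3_ch (nat_lit 2) (nat_lit 128) (nat_lit 128) (nat_lit 7) (nat_lit 127) (nat_lit 20) (nat_lit 1048575) x b

theorem eDo3_k0_0 : allFrom (eDo3_F (nat_lit 0)) (nat_lit 0) (nat_lit 2) = true := by decide +kernel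
theorem eDo3_k1_0 : allFrom (eDo3_F (nat_lit 1)) (nat_lit 0) (nat_lit 2) = true := by decide +kernel
theorem eDo3_k2_0 : allFrom (eDo3_F (nat_lit 2)) (nat_lit 0) (nat_lit 2) = true := by decide +kernel
theorem eDo3_k3_0 : allFrom (eDo3_F (nat_lit 3)) (nat_lit 0) (nat_lit 2) = true := by decide +kernel
theorem eDo3_k4_0 : allFrom (eDo3_F (nat_lit 4)) (nat_lit 0) (nat_lit 2) = true := by decide +kernel
theorem eDo3_k5_0 : allFrom (eDo3_F (nat_lit 5)) (nat_lit 0) (nat_lit 2) = true := by decide +kernel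
theorem eDo3_k6_0 : allFrom (eDo3_F (nat_lit 6)) (nat_lit 0) (nat_lit 2) = true := by decide +kernel
theorem eDo3_k7_0 : allFrom (eDo3_F (nat_lit 7)) (nat_lit 0) (nat_lit 2) = true := by decide +kernel
theorem eDo3_k8_0 : allFrom (eDo3_F (nat_lit 8)) (nat_lit 0) (nat_lit 2) = true := by decide +kernel
theorem eDo3_k9_0 : allFrom (eDo3_F (nat_lit 9)) (nat_lit 0) (nat_lit 2) = true := by decide +kernel
theorem eDo3_k10_0 : allFrom (eDo3_F (nat_lit 10)) (nat_lit 0) (nat_lit 2) = true := by decide +kernel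

theorem eCi0_all : Cov eCi0_F 2 11 0 := by
  have h := Cov.zero eCi0_F 2
  have h := h.blk (b := 2) eCi0_k0_0 rfl
  have h := h.next (y := 1) rfl rfl
  have h := h.blk (b := 2) eCi0_k1_0 rfl
  have h := h.next (y := 2) rfl rfl
  have h := h.blk (b := 2) eCi0_k2_0 rfl
  have h := h.next (y := 3) rfl rfl
  have h := h.blk (b := 2) eCi0_k3_0 rfl
  have h := h.next (y := 4) rfl rfl
  have h := h.blk (b := 2) eCi0_k4_0 rfl
  have h := h.next (y := 5) rfl rfl
  have h := h.blk (b := 2) eCi0_k5_0 rfl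
  have h := h.next (y := 6) rfl rfl
  have h := h.blk (b := 2) eCi0_k6_0 rfl
  have h := h.next (y := 7) rfl rfl
  have h := h.blk (b := 2) eCi0_k7_0 rfl
  have h := h.next (y := 8) rfl rfl
  have h := h.blk (b := 2) eCi0_k8_0 rfl
  have h := h.next (y := 9) rfl rfl
  have h := h.blk (b := 2) eCi0_k9_0 rfl
  have h := h.next (y := 10) rfl rfl
  have h := h.blk (b := 2) eCi0_k10_0 rfl
  have h := h.next (y := 11) rfl rfl
  exact h

theorem eCi0 : Enum (RB ++ XI [1] [] [3, 5]) HB [[15]] 1 :=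
  ⟨eCi0_cols, eCi0_ch, eCi0_L, eCi0_H, eCi0_pb.1, eCi0_e.get, [(nat_lit 0), (nat_lit 1), (nat_lit 3), (nat_lit 4), (nat_lit 5), (nat_lit 7), (nat_lit 8), (nat_lit 9), (nat_lit 11), (nat_lit 13), (nat_lit 15)], (nat_lit 245), (nat_lit 8), eCi0_rots, eCi0_hcs,
    (nat_lit 2), (nat_lit 11), (nat_lit 64), (nat_lit 64), (nat_lit 4096), (nat_lit 4095), (nat_lit 7), (nat_lit 127), (nat_lit 18), (nat_lit 262143), (nat_lit 1), (nat_lit 2),
    fun _ _ => rfl, fun _ => rfl, fun _ _ => rfl, by decide +kernel, eCi0_all.1⟩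

theorem eCi1_all : Cov eCi1_F 2 11 0 := by
  have h := Cov.zero eCi1_F 2
  have h := h.blk (b := 2) eCi1_k0_0 rfl
  have h := h.next (y := 1) rfl rfl
  have h := h.blk (b := 2) eCi1_k1_0 rfl
  have h := h.next (y := 2) rfl rfl
  have h := h.blk (b := 2) eCi1_k2_0 rfl
  have h := h.next (y := 3) rfl rfl
  have h := h.blk (b := 2) eCi1_k3_0 rfl
  have h := h.next (y := 4) rfl rfl
  have h := h.blk (b := 2) eCi1_k4_0 rfl
  have h := h.next (y := 5) rfl rfl
  have h := h.blk (b := 2) eCi1_k5_0 rfl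
  have h := h.next (y := 6) rfl rfl
  have h := h.blk (b := 2) eCi1_k6_0 rfl
  have h := h.next (y := 7) rfl rfl
  have h := h.blk (b := 2) eCi1_k7_0 rfl
  have h := h.next (y := 8) rfl rfl
  have h := h.blk (b := 2) eCi1_k8_0 rfl
  have h := h.next (y := 9) rfl rfl
  have h := h.blk (b := 2) eCi1_k9_0 rfl
  have h := h.next (y := 10) rfl rfl
  have h := h.blk (b := 2) eCi1_k10_0 rfl
  have h := h.next (y := 11) rfl rfl
  exact h

theorem eCi1 : Enum (RB ++ XI [1] [] [3, 5, 9]) HB [[15]] 1 :=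
  ⟨eCi1_cols, eCi1_ch, eCi1_L, eCi1_H, eCi1_pb.1, eCi1_e.get, [(nat_lit 0), (nat_lit 1), (nat_lit 3), (nat_lit 4), (nat_lit 5), (nat_lit 7), (nat_lit 8), (nat_lit 9), (nat_lit 11), (nat_lit 13), (nat_lit 15)], (nat_lit 245), (nat_lit 8), eCi1_rots, eCi1_hcs,
    (nat_lit 2), (nat_lit 11), (nat_lit 64), (nat_lit 64), (nat_lit 4096), (nat_lit 4095), (nat_lit 7), (nat_lit 127), (nat_lit 18), (nat_lit 262143), (nat_lit 1), (nat_lit 2),
    fun _ _ => rfl, fun _ => rfl, fun _ _ => rfl, by decide +kernel, eCi1_all.1⟩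

theorem eCi2_all : Cov eCi2_F 2 11 0 := by
  have h := Cov.zero eCi2_F 2
  have h := h.blk (b := 2) eCi2_k0_0 rfl
  have h := h.next (y := 1) rfl rfl
  have h := h.blk (b := 2) eCi2_k1_0 rfl
  have h := h.next (y := 2) rfl rfl
  have h := h.blk (b := 2) eCi2_k2_0 rfl
  have h := h.next (y := 3) rfl rfl
  have h := h.blk (b := 2) eCi2_k3_0 rfl
  have h := h.next (y := 4) rfl rfl
  have h := h.blk (b := 2) eCi2_k4_0 rfl
  have h := h.next (y := 5) rfl rfl
  have h := h.blk (b := 2) eCi2_k5_0 rfl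
  have h := h.next (y := 6) rfl rfl
  have h := h.blk (b := 2) eCi2_k6_0 rfl
  have h := h.next (y := 7) rfl rfl
  have h := h.blk (b := 2) eCi2_k7_0 rfl
  have h := h.next (y := 8) rfl rfl
  have h := h.blk (b := 2) eCi2_k8_0 rfl
  have h := h.next (y := 9) rfl rfl
  have h := h.blk (b := 2) eCi2_k9_0 rfl
  have h := h.next (y := 10) rfl rfl
  have h := h.blk (b := 2) eCi2_k10_0 rfl
  have h := h.next (y := 11) rfl rfl
  exact h

theorem eCi2 : Enum (RB ++ XI [1] [] [4, 5, 11, 3]) HB [[15]] 1 :=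
  ⟨eCi2_cols, eCi2_ch, eCi2_L, eCi2_H, eCi2_pb.1, eCi2_e.get, [(nat_lit 0), (nat_lit 1), (nat_lit 3), (nat_lit 4), (nat_lit 5), (nat_lit 7), (nat_lit 8), (nat_lit 9), (nat_lit 11), (nat_lit 13), (nat_lit 15)], (nat_lit 245), (nat_lit 8), eCi2_rots, eCi2_hcs,
    (nat_lit 2), (nat_lit 11), (nat_lit 64), (nat_lit 64), (nat_lit 4096), (nat_lit 4095), (nat_lit 7), (nat_lit 127), (nat_lit 17), (nat_lit 131071), (nat_lit 1), (nat_lit 2),
    fun _ _ => rfl, fun _ => rfl, fun _ _ => rfl, by decide +kernel, eCi2_all.1⟩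

theorem eCi3_all : Cov eCi3_F 2 11 0 := by
  have h := Cov.zero eCi3_F 2
  have h := h.blk (b := 2) eCi3_k0_0 rfl
  have h := h.next (y := 1) rfl rfl
  have h := h.blk (b := 2) eCi3_k1_0 rfl
  have h := h.next (y := 2) rfl rfl
  have h := h.blk (b := 2) eCi3_k2_0 rfl
  have h := h.next (y := 3) rfl rfl
  have h := h.blk (b := 2) eCi3_k3_0 rfl
  have h := h.next (y := 4) rfl rfl
  have h := h.blk (b := 2) eCi3_k4_0 rfl
  have h := h.next (y := 5) rfl rfl
  have h := h.blk (b := 2) eCi3_k5_0 rfl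
  have h := h.next (y := 6) rfl rfl
  have h := h.blk (b := 2) eCi3_k6_0 rfl
  have h := h.next (y := 7) rfl rfl
  have h := h.blk (b := 2) eCi3_k7_0 rfl
  have h := h.next (y := 8) rfl rfl
  have h := h.blk (b := 2) eCi3_k8_0 rfl
  have h := h.next (y := 9) rfl rfl
  have h := h.blk (b := 2) eCi3_k9_0 rfl
  have h := h.next (y := 10) rfl rfl
  have h := h.blk (b := 2) eCi3_k10_0 rfl
  have h := h.next (y := 11) rfl rfl
  exact h

theorem eCi3 : Enum (RB ++ XI [1] [] [1, 5, 1, 4, 11]) HB [[15]] 1 :=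
  ⟨eCi3_cols, eCi3_ch, eCi3_L, eCi3_H, eCi3_pb.1, eCi3_e.get, [(nat_lit 0), (nat_lit 1), (nat_lit 3), (nat_lit 4), (nat_lit 5), (nat_lit 7), (nat_lit 8), (nat_lit 9), (nat_lit 11), (nat_lit 13), (nat_lit 15)], (nat_lit 245), (nat_lit 8), eCi3_rots, eCi3_hcs,
    (nat_lit 2), (nat_lit 11), (nat_lit 64), (nat_lit 64), (nat_lit 4096), (nat_lit 4095), (nat_lit 7), (nat_lit 127), (nat_lit 17), (nat_lit 131071), (nat_lit 1), (nat_lit 2),
    fun _ _ => rfl, fun _ => rfl, fun _ _ => rfl, by decide +kernel, eCi3_all.1⟩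

theorem eCo0_all : Cov eCo0_F 8 11 0 := by
  have h := Cov.zero eCo0_F 8
  have h := h.blk (b := 8) eCo0_k0_0 rfl
  have h := h.next (y := 1) rfl rfl
  have h := h.blk (b := 8) eCo0_k1_0 rfl
  have h := h.next (y := 2) rfl rfl
  have h := h.blk (b := 8) eCo0_k2_0 rfl
  have h := h.next (y := 3) rfl rfl
  have h := h.blk (b := 8) eCo0_k3_0 rfl
  have h := h.next (y := 4) rfl rfl
  have h := h.blk (b := 8) eCo0_k4_0 rfl
  have h := h.next (y := 5) rfl rfl
  have h := h.blk (b := 8) eCo0_k5_0 rfl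
  have h := h.next (y := 6) rfl rfl
  have h := h.blk (b := 8) eCo0_k6_0 rfl
  have h := h.next (y := 7) rfl rfl
  have h := h.blk (b := 8) eCo0_k7_0 rfl
  have h := h.next (y := 8) rfl rfl
  have h := h.blk (b := 8) eCo0_k8_0 rfl
  have h := h.next (y := 9) rfl rfl
  have h := h.blk (b := 8) eCo0_k9_0 rfl
  have h := h.next (y := 10) rfl rfl
  have h := h.blk (b := 8) eCo0_k10_0 rfl
  have h := h.next (y := 11) rfl rfl
  exact h

theorem eCo0 : Enum (RB ++ XO [1] [([1], [3, 1, 4, 9]), ([3], [11, 4]), ([5], [1, 5, 1, 3, 11]), ([7], [3, 1, 5, 7, 4])]) HB [[15]] 1 :=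
  ⟨eCo0_cols, eCo0_ch, eCo0_L, eCo0_H, eCo0_pb.1, eCo0_e.get, [(nat_lit 0), (nat_lit 1), (nat_lit 3), (nat_lit 4), (nat_lit 5), (nat_lit 7), (nat_lit 8), (nat_lit 9), (nat_lit 11), (nat_lit 13), (nat_lit 15)], (nat_lit 245), (nat_lit 8), eCo0_rots, eCo0_hcs,
    (nat_lit 2), (nat_lit 11), (nat_lit 512), (nat_lit 128), (nat_lit 65536), (nat_lit 32767), (nat_lit 7), (nat_lit 127), (nat_lit 23), (nat_lit 8388607), (nat_lit 4), (nat_lit 8),
    fun _ _ => rfl, fun _ => rfl, fun _ _ => rfl, by decide +kernel, eCo0_all.1⟩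

theorem eCo1_all : Cov eCo1_F 8 11 0 := by
  have h := Cov.zero eCo1_F 8
  have h := h.blk (b := 8) eCo1_k0_0 rfl
  have h := h.next (y := 1) rfl rfl
  have h := h.blk (b := 8) eCo1_k1_0 rfl
  have h := h.next (y := 2) rfl rfl
  have h := h.blk (b := 8) eCo1_k2_0 rfl
  have h := h.next (y := 3) rfl rfl
  have h := h.blk (b := 8) eCo1_k3_0 rfl
  have h := h.next (y := 4) rfl rfl
  have h := h.blk (b := 8) eCo1_k4_0 rfl
  have h := h.next (y := 5) rfl rfl
  have h := h.blk (b := 8) eCo1_k5_0 rfl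
  have h := h.next (y := 6) rfl rfl
  have h := h.blk (b := 8) eCo1_k6_0 rfl
  have h := h.next (y := 7) rfl rfl
  have h := h.blk (b := 8) eCo1_k7_0 rfl
  have h := h.next (y := 8) rfl rfl
  have h := h.blk (b := 8) eCo1_k8_0 rfl
  have h := h.next (y := 9) rfl rfl
  have h := h.blk (b := 8) eCo1_k9_0 rfl
  have h := h.next (y := 10) rfl rfl
  have h := h.blk (b := 8) eCo1_k10_0 rfl
  have h := h.next (y := 11) rfl rfl
  exact h

theorem eCo1 : Enum (RB ++ XO [1] [([1], [3, 1, 4, 9]), ([3], [11, 4]), ([5], [1, 5, 1, 3, 11]), ([7], [3, 5, 1, 7, 4])]) HB [[15]] 1 :=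
  ⟨eCo1_cols, eCo1_ch, eCo1_L, eCo1_H, eCo1_pb.1, eCo1_e.get, [(nat_lit 0), (nat_lit 1), (nat_lit 3), (nat_lit 4), (nat_lit 5), (nat_lit 7), (nat_lit 8), (nat_lit 9), (nat_lit 11), (nat_lit 13), (nat_lit 15)], (nat_lit 245), (nat_lit 8), eCo1_rots, eCo1_hcs,
    (nat_lit 2), (nat_lit 11), (nat_lit 512), (nat_lit 128), (nat_lit 65536), (nat_lit 32767), (nat_lit 7), (nat_lit 127), (nat_lit 23), (nat_lit 8388607), (nat_lit 4), (nat_lit 8),
    fun _ _ => rfl, fun _ => rfl, fun _ _ => rfl, by decide +kernel, eCo1_all.1⟩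

theorem eCo2_all : Cov eCo2_F 8 11 0 := by
  have h := Cov.zero eCo2_F 8
  have h := h.blk (b := 8) eCo2_k0_0 rfl
  have h := h.next (y := 1) rfl rfl
  have h := h.blk (b := 8) eCo2_k1_0 rfl
  have h := h.next (y := 2) rfl rfl
  have h := h.blk (b := 8) eCo2_k2_0 rfl
  have h := h.next (y := 3) rfl rfl
  have h := h.blk (b := 8) eCo2_k3_0 rfl
  have h := h.next (y := 4) rfl rfl
  have h := h.blk (b := 8) eCo2_k4_0 rfl
  have h := h.next (y := 5) rfl rfl
  have h := h.blk (b := 8) eCo2_k5_0 rfl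
  have h := h.next (y := 6) rfl rfl
  have h := h.blk (b := 8) eCo2_k6_0 rfl
  have h := h.next (y := 7) rfl rfl
  have h := h.blk (b := 8) eCo2_k7_0 rfl
  have h := h.next (y := 8) rfl rfl
  have h := h.blk (b := 8) eCo2_k8_0 rfl
  have h := h.next (y := 9) rfl rfl
  have h := h.blk (b := 8) eCo2_k9_0 rfl
  have h := h.next (y := 10) rfl rfl
  have h := h.blk (b := 8) eCo2_k10_0 rfl
  have h := h.next (y := 11) rfl rfl
  exact h

theorem eCo2 : Enum (RB ++ XO [1] [([1], [3, 1, 4]), ([3], [4]), ([5], [4, 5, 9]), ([7], [3, 7, 11, 4])]) HB [[15]] 1 :=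
  ⟨eCo2_cols, eCo2_ch, eCo2_L, eCo2_H, eCo2_pb.1, eCo2_e.get, [(nat_lit 0), (nat_lit 1), (nat_lit 3), (nat_lit 4), (nat_lit 5), (nat_lit 7), (nat_lit 8), (nat_lit 9), (nat_lit 11), (nat_lit 13), (nat_lit 15)], (nat_lit 245), (nat_lit 8), eCo2_rots, eCo2_hcs,
    (nat_lit 2), (nat_lit 11), (nat_lit 512), (nat_lit 128), (nat_lit 65536), (nat_lit 32767), (nat_lit 7), (nat_lit 127), (nat_lit 23), (nat_lit 8388607), (nat_lit 4), (nat_lit 8),
    fun _ _ => rfl, fun _ => rfl, fun _ _ => rfl, by decide +kernel, eCo2_all.1⟩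

theorem eCo3_all : Cov eCo3_F 8 11 0 := by
  have h := Cov.zero eCo3_F 8
  have h := h.blk (b := 8) eCo3_k0_0 rfl
  have h := h.next (y := 1) rfl rfl
  have h := h.blk (b := 8) eCo3_k1_0 rfl
  have h := h.next (y := 2) rfl rfl
  have h := h.blk (b := 8) eCo3_k2_0 rfl
  have h := h.next (y := 3) rfl rfl
  have h := h.blk (b := 8) eCo3_k3_0 rfl
  have h := h.next (y := 4) rfl rfl
  have h := h.blk (b := 8) eCo3_k4_0 rfl
  have h := h.next (y := 5) rfl rfl
  have h := h.blk (b := 8) eCo3_k5_0 rfl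
  have h := h.next (y := 6) rfl rfl
  have h := h.blk (b := 8) eCo3_k6_0 rfl
  have h := h.next (y := 7) rfl rfl
  have h := h.blk (b := 8) eCo3_k7_0 rfl
  have h := h.next (y := 8) rfl rfl
  have h := h.blk (b := 8) eCo3_k8_0 rfl
  have h := h.next (y := 9) rfl rfl
  have h := h.blk (b := 8) eCo3_k9_0 rfl
  have h := h.next (y := 10) rfl rfl
  have h := h.blk (b := 8) eCo3_k10_0 rfl
  have h := h.next (y := 11) rfl rfl
  exact h

theorem eCo3 : Enum (RB ++ XO [1] [([1], [3, 1, 4]), ([3], [4]), ([5], [4, 5, 9]), ([7], [3, 7, 4])]) HB [[15]] 1 :=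
  ⟨eCo3_cols, eCo3_ch, eCo3_L, eCo3_H, eCo3_pb.1, eCo3_e.get, [(nat_lit 0), (nat_lit 1), (nat_lit 3), (nat_lit 4), (nat_lit 5), (nat_lit 7), (nat_lit 8), (nat_lit 9), (nat_lit 11), (nat_lit 13), (nat_lit 15)], (nat_lit 245), (nat_lit 8), eCo3_rots, eCo3_hcs,
    (nat_lit 2), (nat_lit 11), (nat_lit 512), (nat_lit 128), (nat_lit 65536), (nat_lit 32767), (nat_lit 7), (nat_lit 127), (nat_lit 23), (nat_lit 8388607), (nat_lit 4), (nat_lit 8),
    fun _ _ => rfl, fun _ => rfl, fun _ _ => rfl, by decide +kernel, eCo3_all.1⟩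

theorem eDi0_all : Cov eDi0_F 6 11 0 := by
  have h := Cov.zero eDi0_F 6
  have h := h.blk (b := 6) eDi0_k0_0 rfl
  have h := h.next (y := 1) rfl rfl
  have h := h.blk (b := 6) eDi0_k1_0 rfl
  have h := h.next (y := 2) rfl rfl
  have h := h.blk (b := 6) eDi0_k2_0 rfl
  have h := h.next (y := 3) rfl rfl
  have h := h.blk (b := 6) eDi0_k3_0 rfl
  have h := h.next (y := 4) rfl rfl
  have h := h.blk (b := 6) eDi0_k4_0 rfl
  have h := h.next (y := 5) rfl rfl
  have h := h.blk (b := 6) eDi0_k5_0 rfl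
  have h := h.next (y := 6) rfl rfl
  have h := h.blk (b := 6) eDi0_k6_0 rfl
  have h := h.next (y := 7) rfl rfl
  have h := h.blk (b := 6) eDi0_k7_0 rfl
  have h := h.next (y := 8) rfl rfl
  have h := h.blk (b := 6) eDi0_k8_0 rfl
  have h := h.next (y := 9) rfl rfl
  have h := h.blk (b := 6) eDi0_k9_0 rfl
  have h := h.next (y := 10) rfl rfl
  have h := h.blk (b := 6) eDi0_k10_0 rfl
  have h := h.next (y := 11) rfl rfl
  exact h

theorem eDi0 : Enum (RB ++ XI [13, 1, 11] [13] [3, 5]) HB [[15]] 1 :=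
  ⟨eDi0_cols, eDi0_ch, eDi0_L, eDi0_H, eDi0_pb.1, eDi0_e.get, [(nat_lit 0), (nat_lit 1), (nat_lit 3), (nat_lit 4), (nat_lit 5), (nat_lit 7), (nat_lit 8), (nat_lit 9), (nat_lit 11), (nat_lit 13), (nat_lit 15)], (nat_lit 245), (nat_lit 8), eDi0_rots, eDi0_hcs,
    (nat_lit 2), (nat_lit 11), (nat_lit 512), (nat_lit 128), (nat_lit 65536), (nat_lit 32767), (nat_lit 7), (nat_lit 127), (nat_lit 23), (nat_lit 8388607), (nat_lit 3), (nat_lit 6),
    fun _ _ => rfl, fun _ => rfl, fun _ _ => rfl, by decide +kernel, eDi0_all.1⟩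

theorem eDi1_all : Cov eDi1_F 6 11 0 := by
  have h := Cov.zero eDi1_F 6
  have h := h.blk (b := 6) eDi1_k0_0 rfl
  have h := h.next (y := 1) rfl rfl
  have h := h.blk (b := 6) eDi1_k1_0 rfl
  have h := h.next (y := 2) rfl rfl
  have h := h.blk (b := 6) eDi1_k2_0 rfl
  have h := h.next (y := 3) rfl rfl
  have h := h.blk (b := 6) eDi1_k3_0 rfl
  have h := h.next (y := 4) rfl rfl
  have h := h.blk (b := 6) eDi1_k4_0 rfl
  have h := h.next (y := 5) rfl rfl
  have h := h.blk (b := 6) eDi1_k5_0 rfl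
  have h := h.next (y := 6) rfl rfl
  have h := h.blk (b := 6) eDi1_k6_0 rfl
  have h := h.next (y := 7) rfl rfl
  have h := h.blk (b := 6) eDi1_k7_0 rfl
  have h := h.next (y := 8) rfl rfl
  have h := h.blk (b := 6) eDi1_k8_0 rfl
  have h := h.next (y := 9) rfl rfl
  have h := h.blk (b := 6) eDi1_k9_0 rfl
  have h := h.next (y := 10) rfl rfl
  have h := h.blk (b := 6) eDi1_k10_0 rfl
  have h := h.next (y := 11) rfl rfl
  exact h

theorem eDi1 : Enum (RB ++ XI [13, 1, 11] [13] [3, 5, 9]) HB [[15]] 1 :=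
  ⟨eDi1_cols, eDi1_ch, eDi1_L, eDi1_H, eDi1_pb.1, eDi1_e.get, [(nat_lit 0), (nat_lit 1), (nat_lit 3), (nat_lit 4), (nat_lit 5), (nat_lit 7), (nat_lit 8), (nat_lit 9), (nat_lit 11), (nat_lit 13), (nat_lit 15)], (nat_lit 245), (nat_lit 8), eDi1_rots, eDi1_hcs,
    (nat_lit 2), (nat_lit 11), (nat_lit 512), (nat_lit 128), (nat_lit 65536), (nat_lit 32767), (nat_lit 7), (nat_lit 127), (nat_lit 23), (nat_lit 8388607), (nat_lit 3), (nat_lit 6),
    fun _ _ => rfl, fun _ => rfl, fun _ _ => rfl, by decide +kernel, eDi1_all.1⟩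

theorem eDi2_all : Cov eDi2_F 2 11 0 := by
  have h := Cov.zero eDi2_F 2
  have h := h.blk (b := 2) eDi2_k0_0 rfl
  have h := h.next (y := 1) rfl rfl
  have h := h.blk (b := 2) eDi2_k1_0 rfl
  have h := h.next (y := 2) rfl rfl
  have h := h.blk (b := 2) eDi2_k2_0 rfl
  have h := h.next (y := 3) rfl rfl
  have h := h.blk (b := 2) eDi2_k3_0 rfl
  have h := h.next (y := 4) rfl rfl
  have h := h.blk (b := 2) eDi2_k4_0 rfl
  have h := h.next (y := 5) rfl rfl
  have h := h.blk (b := 2) eDi2_k5_0 rfl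
  have h := h.next (y := 6) rfl rfl
  have h := h.blk (b := 2) eDi2_k6_0 rfl
  have h := h.next (y := 7) rfl rfl
  have h := h.blk (b := 2) eDi2_k7_0 rfl
  have h := h.next (y := 8) rfl rfl
  have h := h.blk (b := 2) eDi2_k8_0 rfl
  have h := h.next (y := 9) rfl rfl
  have h := h.blk (b := 2) eDi2_k9_0 rfl
  have h := h.next (y := 10) rfl rfl
  have h := h.blk (b := 2) eDi2_k10_0 rfl
  have h := h.next (y := 11) rfl rfl
  exact h

theorem eDi2 : Enum (RB ++ XI [13, 1, 11] [13] [4, 5, 11, 3]) HB [[15]] 1 :=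
  ⟨eDi2_cols, eDi2_ch, eDi2_L, eDi2_H, eDi2_pb.1, eDi2_e.get, [(nat_lit 0), (nat_lit 1), (nat_lit 3), (nat_lit 4), (nat_lit 5), (nat_lit 7), (nat_lit 8), (nat_lit 9), (nat_lit 11), (nat_lit 13), (nat_lit 15)], (nat_lit 245), (nat_lit 8), eDi2_rots, eDi2_hcs,
    (nat_lit 2), (nat_lit 11), (nat_lit 128), (nat_lit 128), (nat_lit 16384), (nat_lit 8191), (nat_lit 7), (nat_lit 127), (nat_lit 20), (nat_lit 1048575), (nat_lit 1), (nat_lit 2),
    fun _ _ => rfl, fun _ => rfl, fun _ _ => rfl, by decide +kernel, eDi2_all.1⟩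

theorem eDi3_all : Cov eDi3_F 2 11 0 := by
  have h := Cov.zero eDi3_F 2
  have h := h.blk (b := 2) eDi3_k0_0 rfl
  have h := h.next (y := 1) rfl rfl
  have h := h.blk (b := 2) eDi3_k1_0 rfl
  have h := h.next (y := 2) rfl rfl
  have h := h.blk (b := 2) eDi3_k2_0 rfl
  have h := h.next (y := 3) rfl rfl
  have h := h.blk (b := 2) eDi3_k3_0 rfl
  have h := h.next (y := 4) rfl rfl
  have h := h.blk (b := 2) eDi3_k4_0 rfl
  have h := h.next (y := 5) rfl rfl
  have h := h.blk (b := 2) eDi3_k5_0 rfl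
  have h := h.next (y := 6) rfl rfl
  have h := h.blk (b := 2) eDi3_k6_0 rfl
  have h := h.next (y := 7) rfl rfl
  have h := h.blk (b := 2) eDi3_k7_0 rfl
  have h := h.next (y := 8) rfl rfl
  have h := h.blk (b := 2) eDi3_k8_0 rfl
  have h := h.next (y := 9) rfl rfl
  have h := h.blk (b := 2) eDi3_k9_0 rfl
  have h := h.next (y := 10) rfl rfl
  have h := h.blk (b := 2) eDi3_k10_0 rfl
  have h := h.next (y := 11) rfl rfl
  exact h

theorem eDi3 : Enum (RB ++ XI [13, 1, 11] [13] [1, 5, 1, 4, 11]) HB [[15]] 1 :=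
  ⟨eDi3_cols, eDi3_ch, eDi3_L, eDi3_H, eDi3_pb.1, eDi3_e.get, [(nat_lit 0), (nat_lit 1), (nat_lit 3), (nat_lit 4), (nat_lit 5), (nat_lit 7), (nat_lit 8), (nat_lit 9), (nat_lit 11), (nat_lit 13), (nat_lit 15)], (nat_lit 245), (nat_lit 8), eDi3_rots, eDi3_hcs,
    (nat_lit 2), (nat_lit 11), (nat_lit 128), (nat_lit 128), (nat_lit 16384), (nat_lit 8191), (nat_lit 7), (nat_lit 127), (nat_lit 20), (nat_lit 1048575), (nat_lit 1), (nat_lit 2),
    fun _ _ => rfl, fun _ => rfl, fun _ _ => rfl, by decide +kernel, eDi3_all.1⟩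

theorem eDo0_all : Cov eDo0_F 4 11 0 := by
  have h := Cov.zero eDo0_F 4
  have h := h.blk (b := 4) eDo0_k0_0 rfl
  have h := h.next (y := 1) rfl rfl
  have h := h.blk (b := 4) eDo0_k1_0 rfl
  have h := h.next (y := 2) rfl rfl
  have h := h.blk (b := 4) eDo0_k2_0 rfl
  have h := h.next (y := 3) rfl rfl
  have h := h.blk (b := 4) eDo0_k3_0 rfl
  have h := h.next (y := 4) rfl rfl
  have h := h.blk (b := 4) eDo0_k4_0 rfl
  have h := h.next (y := 5) rfl rfl
  have h := h.blk (b := 4) eDo0_k5_0 rfl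
  have h := h.next (y := 6) rfl rfl
  have h := h.blk (b := 4) eDo0_k6_0 rfl
  have h := h.next (y := 7) rfl rfl
  have h := h.blk (b := 4) eDo0_k7_0 rfl
  have h := h.next (y := 8) rfl rfl
  have h := h.blk (b := 4) eDo0_k8_0 rfl
  have h := h.next (y := 9) rfl rfl
  have h := h.blk (b := 4) eDo0_k9_0 rfl
  have h := h.next (y := 10) rfl rfl
  have h := h.blk (b := 4) eDo0_k10_0 rfl
  have h := h.next (y := 11) rfl rfl
  exact h

theorem eDo0 : Enum (RB ++ XO [13, 1, 11] [([1], [3, 1, 4, 9]), ([3], [11, 4]), ([5], [1, 5, 1, 3, 11]), ([7], [3, 1, 5, 7, 4])]) HB [[15]] 1 :=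
  ⟨eDo0_cols, eDo0_ch, eDo0_L, eDo0_H, eDo0_pb.1, eDo0_e.get, [(nat_lit 0), (nat_lit 1), (nat_lit 3), (nat_lit 4), (nat_lit 5), (nat_lit 7), (nat_lit 8), (nat_lit 9), (nat_lit 11), (nat_lit 13), (nat_lit 15)], (nat_lit 245), (nat_lit 8), eDo0_rots, eDo0_hcs,
    (nat_lit 2), (nat_lit 11), (nat_lit 256), (nat_lit 128), (nat_lit 32768), (nat_lit 16383), (nat_lit 7), (nat_lit 127), (nat_lit 21), (nat_lit 2097151), (nat_lit 2), (nat_lit 4),
    fun _ _ => rfl, fun _ => rfl, fun _ _ => rfl, by decide +kernel, eDo0_all.1⟩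

theorem eDo1_all : Cov eDo1_F 4 11 0 := by
  have h := Cov.zero eDo1_F 4
  have h := h.blk (b := 4) eDo1_k0_0 rfl
  have h := h.next (y := 1) rfl rfl
  have h := h.blk (b := 4) eDo1_k1_0 rfl
  have h := h.next (y := 2) rfl rfl
  have h := h.blk (b := 4) eDo1_k2_0 rfl
  have h := h.next (y := 3) rfl rfl
  have h := h.blk (b := 4) eDo1_k3_0 rfl
  have h := h.next (y := 4) rfl rfl
  have h := h.blk (b := 4) eDo1_k4_0 rfl
  have h := h.next (y := 5) rfl rfl
  have h := h.blk (b := 4) eDo1_k5_0 rfl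
  have h := h.next (y := 6) rfl rfl
  have h := h.blk (b := 4) eDo1_k6_0 rfl
  have h := h.next (y := 7) rfl rfl
  have h := h.blk (b := 4) eDo1_k7_0 rfl
  have h := h.next (y := 8) rfl rfl
  have h := h.blk (b := 4) eDo1_k8_0 rfl
  have h := h.next (y := 9) rfl rfl
  have h := h.blk (b := 4) eDo1_k9_0 rfl
  have h := h.next (y := 10) rfl rfl
  have h := h.blk (b := 4) eDo1_k10_0 rfl
  have h := h.next (y := 11) rfl rfl
  exact h

theorem eDo1 : Enum (RB ++ XO [13, 1, 11] [([1], [3, 1, 4, 9]), ([3], [11, 4]), ([5], [1, 5, 1, 3, 11]), ([7], [3, 5, 1, 7, 4])]) HB [[15]] 1 :=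
  ⟨eDo1_cols, eDo1_ch, eDo1_L, eDo1_H, eDo1_pb.1, eDo1_e.get, [(nat_lit 0), (nat_lit 1), (nat_lit 3), (nat_lit 4), (nat_lit 5), (nat_lit 7), (nat_lit 8), (nat_lit 9), (nat_lit 11), (nat_lit 13), (nat_lit 15)], (nat_lit 245), (nat_lit 8), eDo1_rots, eDo1_hcs,
    (nat_lit 2), (nat_lit 11), (nat_lit 256), (nat_lit 128), (nat_lit 32768), (nat_lit 16383), (nat_lit 7), (nat_lit 127), (nat_lit 21), (nat_lit 2097151), (nat_lit 2), (nat_lit 4),
    fun _ _ => rfl, fun _ => rfl, fun _ _ => rfl, by decide +kernel, eDo1_all.1⟩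

theorem eDo2_all : Cov eDo2_F 2 11 0 := by
  have h := Cov.zero eDo2_F 2
  have h := h.blk (b := 2) eDo2_k0_0 rfl
  have h := h.next (y := 1) rfl rfl
  have h := h.blk (b := 2) eDo2_k1_0 rfl
  have h := h.next (y := 2) rfl rfl
  have h := h.blk (b := 2) eDo2_k2_0 rfl
  have h := h.next (y := 3) rfl rfl
  have h := h.blk (b := 2) eDo2_k3_0 rfl
  have h := h.next (y := 4) rfl rfl
  have h := h.blk (b := 2) eDo2_k4_0 rfl
  have h := h.next (y := 5) rfl rfl
  have h := h.blk (b := 2) eDo2_k5_0 rfl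
  have h := h.next (y := 6) rfl rfl
  have h := h.blk (b := 2) eDo2_k6_0 rfl
  have h := h.next (y := 7) rfl rfl
  have h := h.blk (b := 2) eDo2_k7_0 rfl
  have h := h.next (y := 8) rfl rfl
  have h := h.blk (b := 2) eDo2_k8_0 rfl
  have h := h.next (y := 9) rfl rfl
  have h := h.blk (b := 2) eDo2_k9_0 rfl
  have h := h.next (y := 10) rfl rfl
  have h := h.blk (b := 2) eDo2_k10_0 rfl
  have h := h.next (y := 11) rfl rfl
  exact h

theorem eDo2 : Enum (RB ++ XO [13, 1, 11] [([1], [3, 1, 4]), ([3], [4]), ([5], [4, 5, 9]), ([7], [3, 7, 11, 4])]) HB [[15]] 1 :=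
  ⟨eDo2_cols, eDo2_ch, eDo2_L, eDo2_H, eDo2_pb.1, eDo2_e.get, [(nat_lit 0), (nat_lit 1), (nat_lit 3), (nat_lit 4), (nat_lit 5), (nat_lit 7), (nat_lit 8), (nat_lit 9), (nat_lit 11), (nat_lit 13), (nat_lit 15)], (nat_lit 245), (nat_lit 8), eDo2_rots, eDo2_hcs,
    (nat_lit 2), (nat_lit 11), (nat_lit 128), (nat_lit 128), (nat_lit 16384), (nat_lit 8191), (nat_lit 7), (nat_lit 127), (nat_lit 20), (nat_lit 1048575), (nat_lit 1), (nat_lit 2),
    fun _ _ => rfl, fun _ => rfl, fun _ _ => rfl, by decide +kernel, eDo2_all.1⟩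

theorem eDo3_all : Cov eDo3_F 2 11 0 := by
  have h := Cov.zero eDo3_F 2
  have h := h.blk (b := 2) eDo3_k0_0 rfl
  have h := h.next (y := 1) rfl rfl
  have h := h.blk (b := 2) eDo3_k1_0 rfl
  have h := h.next (y := 2) rfl rfl
  have h := h.blk (b := 2) eDo3_k2_0 rfl
  have h := h.next (y := 3) rfl rfl
  have h := h.blk (b := 2) eDo3_k3_0 rfl
  have h := h.next (y := 4) rfl rfl
  have h := h.blk (b := 2) eDo3_k4_0 rfl
  have h := h.next (y := 5) rfl rfl
  have h := h.blk (b := 2) eDo3_k5_0 rfl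
  have h := h.next (y := 6) rfl rfl
  have h := h.blk (b := 2) eDo3_k6_0 rfl
  have h := h.next (y := 7) rfl rfl
  have h := h.blk (b := 2) eDo3_k7_0 rfl
  have h := h.next (y := 8) rfl rfl
  have h := h.blk (b := 2) eDo3_k8_0 rfl
  have h := h.next (y := 9) rfl rfl
  have h := h.blk (b := 2) eDo3_k9_0 rfl
  have h := h.next (y := 10) rfl rfl
  have h := h.blk (b := 2) eDo3_k10_0 rfl
  have h := h.next (y := 11) rfl rfl
  exact h

theorem eDo3 : Enum (RB ++ XO [13, 1, 11] [([1], [3, 1, 4]), ([3], [4]), ([5], [4, 5, 9]), ([7], [3, 7, 4])]) HB [[15]] 1 :=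
  ⟨eDo3_cols, eDo3_ch, eDo3_L, eDo3_H, eDo3_pb.1, eDo3_e.get, [(nat_lit 0), (nat_lit 1), (nat_lit 3), (nat_lit 4), (nat_lit 5), (nat_lit 7), (nat_lit 8), (nat_lit 9), (nat_lit 11), (nat_lit 13), (nat_lit 15)], (nat_lit 245), (nat_lit 8), eDo3_rots, eDo3_hcs,
    (nat_lit 2), (nat_lit 11), (nat_lit 128), (nat_lit 128), (nat_lit 16384), (nat_lit 8191), (nat_lit 7), (nat_lit 127), (nat_lit 20), (nat_lit 1048575), (nat_lit 1), (nat_lit 2),
    fun _ _ => rfl, fun _ => rfl, fun _ _ => rfl, by decide +kernel, eDo3_all.1⟩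

theorem allI : ∀ m ∈ cdI, Enum (RB ++ XI [1] [] m) HB [[15]] 1 ∧ Enum (RB ++ XI [13, 1, 11] [13] m) HB [[15]] 1 :=
  List.forall_mem_cons.2 ⟨⟨eCi0, eDi0⟩, List.forall_mem_cons.2 ⟨⟨eCi1, eDi1⟩, List.forall_mem_cons.2 ⟨⟨eCi2, eDi2⟩, List.forall_mem_cons.2 ⟨⟨eCi3, eDi3⟩, List.forall_mem_nil _⟩⟩⟩⟩

theorem allO : ∀ L ∈ cdO, Enum (RB ++ XO [1] L) HB [[15]] 1 ∧ Enum (RB ++ XO [13, 1, 11] L) HB [[15]] 1 :=
  List.forall_mem_cons.2 ⟨⟨eCo0, eDo0⟩, List.forall_mem_cons.2 ⟨⟨eCo1, eDo1⟩, List.forall_mem_cons.2 ⟨⟨eCo2, eDo2⟩, List.forall_mem_cons.2 ⟨⟨eCo3, eDo3⟩, List.forall_mem_nil _⟩⟩⟩⟩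

end CF.Mo
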