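import Cfsg.Agent.Mo.A

/-! Finite checks in the model of `Aut M₁₂`. -/

set_option autoImplicit false
set_option maxRecDepth 100000
set_option maxHeartbeats 0
set_option Elab.async false
set_option synthInstance.maxSize 4000
set_option synthInstance.maxHeartbeats 400000

namespace CF.Mo.M0

open CF.Perm.SS CF.Comp CF.W2 CF.Yo CF.Yc CF.M12S

def CTT : List Perm.SS.Lvl := [
  ⟨0, [[0, 1, 2, 3, 5, 6, 10, 9, 11, 8, 4, 7, 13, 12, 16, 22, 23, 18, 17, 14, 21, 15, 20, 19], [0, 1, 3, 2, 4, 7, 6, 5, 10, 11, 8, 9, 17, 13, 14, 19, 20, 12, 18, 15, 16, 22, 21, 23], [2, 3, 0, 1, 4, 10, 6, 7, 8, 11, 5, 9, 18, 17, 23, 20, 16, 13, 12, 19, 15, 21, 22, 14]],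
   [(0, [], [0, 1, 2, 3, 4, 5, 6, 7, 8, 9, 10, 11, 12, 13, 14, 15, 16, 17, 18, 19, 20, 21, 22, 23]), (2, [2], [2, 3, 0, 1, 4, 10, 6, 7, 8, 11, 5, 9, 18, 17, 23, 20, 16, 13, 12, 19, 15, 21, 22, 14]), (3, [2, 1], [2, 3, 1, 0, 4, 7, 6, 10, 5, 9, 8, 11, 13, 17, 23, 19, 15, 18, 12, 20, 16, 22, 21, 14]), (1, [2, 1, 2], [1, 0, 2, 3, 4, 8, 6, 10, 5, 11, 7, 9, 12, 18, 14, 16, 15, 17, 13, 20, 19, 22, 21, 23])],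
   [[0], [1]]⟩,
  ⟨2, [[0, 1, 2, 3, 5, 6, 10, 9, 11, 8, 4, 7, 13, 12, 16, 22, 23, 18, 17, 14, 21, 15, 20, 19], [0, 1, 3, 2, 4, 7, 6, 5, 10, 11, 8, 9, 17, 13, 14, 19, 20, 12, 18, 15, 16, 22, 21, 23]],
   [(2, [], [0, 1, 2, 3, 4, 5, 6, 7, 8, 9, 10, 11, 12, 13, 14, 15, 16, 17, 18, 19, 20, 21, 22, 23]), (3, [1], [0, 1, 3, 2, 4, 7, 6, 5, 10, 11, 8, 9, 17, 13, 14, 19, 20, 12, 18, 15, 16, 22, 21, 23])],
   [[0], [1, 0, 1]]⟩,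
  ⟨4, [[0, 1, 2, 3, 5, 6, 10, 9, 11, 8, 4, 7, 13, 12, 16, 22, 23, 18, 17, 14, 21, 15, 20, 19], [0, 1, 2, 3, 7, 11, 8, 6, 4, 5, 9, 10, 18, 17, 20, 14, 22, 13, 12, 21, 23, 16, 19, 15]],
   [(4, [], [0, 1, 2, 3, 4, 5, 6, 7, 8, 9, 10, 11, 12, 13, 14, 15, 16, 17, 18, 19, 20, 21, 22, 23]), (10, [0], [0, 1, 2, 3, 5, 6, 10, 9, 11, 8, 4, 7, 13, 12, 16, 22, 23, 18, 17, 14, 21, 15, 20, 19]), (8, [1], [0, 1, 2, 3, 7, 11, 8, 6, 4, 5, 9, 10, 18, 17, 20, 14, 22, 13, 12, 21, 23, 16, 19, 15]), (6, [0, 0], [0, 1, 2, 3, 6, 10, 4, 8, 7, 11, 5, 9, 12, 13, 23, 20, 19, 17, 18, 16, 15, 22, 21, 14]), (11, [0, 1], [0, 1, 2, 3, 9, 7, 11, 10, 5, 6, 8, 4, 17, 18, 21, 16, 20, 12, 13, 15, 19, 23, 14, 22]), (9, [1, 0], [0, 1, 2, 3, 11, 8, 9, 5, 10, 4, 7, 6, 17, 18, 22, 19, 15, 12, 13, 20, 16, 14, 23, 21]), (5, [0, 0, 0],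 [0, 1, 2, 3, 10, 4, 5, 11, 9, 7, 6, 8, 13, 12, 19, 21, 14, 18, 17, 23, 22, 20, 15, 16]), (7, [0, 0, 1], [0, 1, 2, 3, 8, 9, 7, 4, 6, 10, 11, 5, 18, 17, 15, 23, 21, 13, 12, 22, 14, 19, 16, 20])],
   []⟩]
theorem CTT_ok : chainOK P24.n CTT = true := by decide +kernel
abbrev TT : Type := PE P24 (gens CTT)
noncomputable def mkTT (l : List ℕ) (h : (valb P24.n l && sift P24.n CTT l) = true := by decide +kernel) : TT :=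
  PE.mk' l (PE.ex_of CTT_ok rfl h)
noncomputable def TTT_0_0 : TT := mkTT [0, 1, 2, 3, 4, 5, 6, 7, 8, 9, 10, 11, 12, 13, 14, 15, 16, 17, 18, 19, 20, 21, 22, 23]
noncomputable def TTT_0_2 : TT := mkTT [2, 3, 0, 1, 4, 10, 6, 7, 8, 11, 5, 9, 18, 17, 23, 20, 16, 13, 12, 19, 15, 21, 22, 14]
noncomputable def TTT_0_3 : TT := mkTT [3, 2, 0, 1, 4, 8, 6, 5, 10, 9, 7, 11, 18, 12, 23, 16, 20, 13, 17, 15, 19, 22, 21, 14]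
noncomputable def TTT_0_1 : TT := mkTT [1, 0, 2, 3, 4, 8, 6, 10, 5, 11, 7, 9, 12, 18, 14, 16, 15, 17, 13, 20, 19, 22, 21, 23]
noncomputable def TTT_1_3 : TT := mkTT [0, 1, 3, 2, 4, 7, 6, 5, 10, 11, 8, 9, 17, 13, 14, 19, 20, 12, 18, 15, 16, 22, 21, 23]
noncomputable def TTT_2_10 : TT := mkTT [0, 1, 2, 3, 10, 4, 5, 11, 9, 7, 6, 8, 13, 12, 19, 21, 14, 18, 17, 23, 22, 20, 15, 16]
noncomputable def TTT_2_8 : TT := mkTT [0, 1, 2, 3, 8, 9, 7, 4, 6, 10, 11, 5, 18, 17, 15, 23, 21, 13, 12, 22, 14, 19, 16, 20]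
noncomputable def TTT_2_6 : TT := mkTT [0, 1, 2, 3, 6, 10, 4, 8, 7, 11, 5, 9, 12, 13, 23, 20, 19, 17, 18, 16, 15, 22, 21, 14]
noncomputable def TTT_2_11 : TT := mkTT [0, 1, 2, 3, 11, 8, 9, 5, 10, 4, 7, 6, 17, 18, 22, 19, 15, 12, 13, 20, 16, 14, 23, 21]
noncomputable def TTT_2_9 : TT := mkTT [0, 1, 2, 3, 9, 7, 11, 10, 5, 6, 8, 4, 17, 18, 21, 16, 20, 12, 13, 15, 19, 23, 14, 22]
noncomputable def TTT_2_5 : TT := mkTT [0, 1, 2, 3, 5, 6, 10, 9, 11, 8, 4, 7, 13, 12, 16, 22, 23, 18, 17, 14, 21, 15, 20, 19]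
noncomputable def TTT_2_7 : TT := mkTT [0, 1, 2, 3, 7, 11, 8, 6, 4, 5, 9, 10, 18, 17, 20, 14, 22, 13, 12, 21, 23, 16, 19, 15]
noncomputable def TTT : List (List TT) := [[TTT_0_0, TTT_0_2, TTT_0_3, TTT_0_1],
  [TTT_0_0, TTT_1_3],
  [TTT_0_0, TTT_2_10, TTT_2_8, TTT_2_6, TTT_2_11, TTT_2_9, TTT_2_5, TTT_2_7]]
theorem TTT_tr : PE.Tr TTT := PE.tr_of CTT_ok rfl (by decide +kernel)
noncomputable instance enTT : PE.Enm P24 (gens CTT) := ⟨TTT, TTT_tr⟩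
theorem hjT : grp P24.n (gens CTT) ≤ grp P24.n (gens CAM) := PE.grp_le CAM_ok rfl (by decide +kernel)
noncomputable def jT : TT →* AM := PE.incl hjT
theorem jT_inj : Function.Injective jT := PE.incl_inj _
def CDD : List Perm.SS.Lvl := [
  ⟨0, [[0, 1, 2, 3, 6, 10, 4, 8, 7, 11, 5, 9, 12, 13, 23, 20, 19, 17, 18, 16, 15, 22, 21, 14], [1, 4, 3, 9, 0, 10, 5, 11, 7, 2, 6, 8, 17, 18, 12, 23, 19, 14, 22, 21, 15, 16, 13, 20], [12, 17, 13, 18, 14, 20, 23, 19, 16, 22, 15, 21, 0, 2, 4, 10, 8, 1, 3, 7, 5, 11, 9, 6], [0, 1, 2, 3, 10, 4, 5, 11, 9, 7, 6, 8, 13, 12, 19, 21, 14, 18, 17, 23, 22, 20, 15, 16]],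
   [(0, [], [0, 1, 2, 3, 4, 5, 6, 7, 8, 9, 10, 11, 12, 13, 14, 15, 16, 17, 18, 19, 20, 21, 22, 23]), (4, [1], [1, 4, 3, 9, 0, 10, 5, 11, 7, 2, 6, 8, 17, 18, 12, 23, 19, 14, 22, 21, 15, 16, 13, 20]), (12, [2], [12, 17, 13, 18, 14, 20, 23, 19, 16, 22, 15, 21, 0, 2, 4, 10, 8, 1, 3, 7, 5, 11, 9, 6]), (6, [1, 0], [1, 4, 3, 9, 5, 6, 0, 7, 11, 8, 10, 2, 17, 18, 20, 15, 21, 14, 22, 19, 23, 13, 16, 12]), (1, [1, 1], [4, 0, 9, 2, 1, 6, 10, 8, 11, 3, 5, 7, 14, 22, 17, 20, 21, 12, 13, 16, 23, 19, 18, 15]), (14, [1, 2], [17, 14, 18, 22, 12, 15, 20, 21, 19, 13, 23, 16, 1, 3, 0, 6, 7, 4, 9, 11, 10, 8, 2, 5]), (5, [1, 3], [1, 4, 3, 9, 6, 0, 10, 8, 2, 11, 5, 7, 18, 17, 21, 16, 12, 22, 14, 20, 13, 15, 23, 19]), (13, [2, 3], [12, 17, 13, 18, 15, 14, 20, 21, 22, 19, 23, 16, 2, 0, 7, 11, 4, 3, 1, 6, 9, 5, 10, 8]),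 (10, [1, 0, 1], [4, 5, 9, 8, 1, 10, 6, 2, 7, 3, 0, 11, 14, 22, 17, 12, 19, 20, 16, 13, 15, 21, 18, 23]), (23, [1, 0, 2], [17, 14, 18, 22, 20, 23, 12, 19, 21, 16, 15, 13, 1, 3, 5, 10, 11, 4, 9, 7, 6, 2, 8, 0]), (17, [1, 1, 2], [14, 12, 22, 13, 17, 23, 15, 16, 21, 18, 20, 19, 4, 9, 1, 5, 11, 0, 2, 8, 6, 7, 3, 10]), (16, [1, 2, 3], [17, 14, 18, 22, 23, 12, 15, 16, 13, 21, 20, 19, 3, 1, 11, 8, 0, 9, 4, 5, 2, 10, 6, 7]), (20, [1, 3, 2], [18, 22, 17, 14, 21, 13, 19, 20, 12, 23, 16, 15, 1, 3, 6, 5, 2, 4, 9, 8, 0, 7, 11, 10]), (22, [2, 3, 1], [17, 15, 18, 19, 12, 23, 14, 16, 21, 13, 20, 22, 3, 1, 2, 8, 6, 7, 10, 5, 11, 4, 0, 9]), (2, [2, 3, 2], [2, 3, 0, 1, 7, 9, 8, 6, 4, 10, 11, 5, 12, 13, 15, 23, 22, 17, 18, 21, 14, 16, 19, 20]), (15, [1, 0, 1, 2], [14, 20, 22, 16, 17, 15, 23, 13, 19, 18, 12, 21,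 4, 9, 1, 0, 7, 5, 8, 2, 10, 11, 3, 6]), (19, [1, 0, 2, 3], [17, 14, 18, 22, 15, 20, 23, 13, 16, 19, 12, 21, 3, 1, 7, 2, 5, 9, 4, 0, 8, 6, 10, 11]), (18, [1, 1, 2, 3], [14, 12, 22, 13, 20, 17, 23, 19, 18, 16, 15, 21, 9, 4, 8, 7, 1, 2, 0, 10, 3, 6, 5, 11]), (21, [1, 2, 3, 1], [14, 23, 22, 21, 17, 20, 12, 19, 16, 18, 15, 13, 9, 4, 3, 7, 5, 11, 6, 10, 8, 0, 1, 2]), (8, [1, 2, 3, 2], [3, 9, 1, 4, 11, 2, 7, 5, 0, 6, 8, 10, 17, 18, 23, 20, 13, 14, 22, 16, 12, 19, 21, 15]), (9, [2, 3, 1, 2], [3, 7, 1, 10, 2, 11, 9, 5, 6, 0, 8, 4, 17, 18, 12, 20, 21, 15, 19, 16, 23, 22, 13, 14]), (7, [1, 0, 2, 3, 2], [3, 9, 1, 4, 7, 8, 11, 0, 5, 10, 2, 6, 17, 18, 15, 12, 16, 14, 22, 13, 20, 21, 19, 23]), (3, [1, 1, 2, 3, 2], [9, 2, 4, 0, 8, 3, 11, 10, 1, 5, 7, 6, 14, 22, 20, 15, 18, 12, 13, 19, 17, 21, 16, 23]), (11,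 [1, 2, 3, 1, 2], [9, 11, 4, 6, 3, 8, 2, 10, 5, 1, 7, 0, 14, 22, 17, 15, 16, 23, 21, 19, 20, 13, 18, 12])],
   [[3], [1, 1, 0, 1]]⟩,
  ⟨1, [[0, 1, 2, 3, 10, 4, 5, 11, 9, 7, 6, 8, 13, 12, 19, 21, 14, 18, 17, 23, 22, 20, 15, 16], [0, 10, 2, 7, 4, 6, 5, 3, 11, 9, 1, 8, 12, 13, 14, 17, 21, 15, 19, 18, 23, 16, 22, 20]],
   [(1, [], [0, 1, 2, 3, 4, 5, 6, 7, 8, 9, 10, 11, 12, 13, 14, 15, 16, 17, 18, 19, 20, 21, 22, 23]), (10, [1], [0, 10, 2, 7, 4, 6, 5, 3, 11, 9, 1, 8, 12, 13, 14, 17, 21, 15, 19, 18, 23, 16, 22, 20]), (4, [1, 0], [0, 10, 2, 7, 1, 4, 6, 8, 9, 3, 5, 11, 13, 12, 18, 16, 14, 19, 15, 20, 22, 23, 17, 21]), (5, [1, 0, 0], [0, 10, 2, 7, 5, 1, 4, 11, 3, 8, 6, 9, 12, 13, 20, 23, 18, 15, 19, 21, 17, 22, 16, 14]), (6, [1, 0, 0, 0], [0, 10, 2, 7, 6, 5, 1, 9, 8, 11, 4, 3, 13, 12, 21, 22, 20, 19,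 15, 14, 16, 17, 23, 18])],
   [[0]]⟩,
  ⟨4, [[0, 1, 2, 3, 10, 4, 5, 11, 9, 7, 6, 8, 13, 12, 19, 21, 14, 18, 17, 23, 22, 20, 15, 16]],
   [(4, [], [0, 1, 2, 3, 4, 5, 6, 7, 8, 9, 10, 11, 12, 13, 14, 15, 16, 17, 18, 19, 20, 21, 22, 23]), (5, [0], [0, 1, 2, 3, 10, 4, 5, 11, 9, 7, 6, 8, 13, 12, 19, 21, 14, 18, 17, 23, 22, 20, 15, 16]), (6, [0, 0], [0, 1, 2, 3, 6, 10, 4, 8, 7, 11, 5, 9, 12, 13, 23, 20, 19, 17, 18, 16, 15, 22, 21, 14]), (10, [0, 0, 0], [0, 1, 2, 3, 5, 6, 10, 9, 11, 8, 4, 7, 13, 12, 16, 22, 23, 18, 17, 14, 21, 15, 20, 19])],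
   []⟩]
theorem CDD_ok : chainOK P24.n CDD = true := by decide +kernel
abbrev DD : Type := PE P24 (gens CDD)
noncomputable def mkDD (l : List ℕ) (h : (valb P24.n l && sift P24.n CDD l) = true := by decide +kernel) : DD :=
  PE.mk' l (PE.ex_of CDD_ok rfl h)
noncomputable def TDD_0_0 : DD := mkDD [0, 1, 2, 3, 4, 5, 6, 7, 8, 9, 10, 11, 12, 13, 14, 15, 16, 17, 18, 19, 20, 21, 22, 23]
noncomputable def TDD_0_4 : DD := mkDD [4, 0, 9, 2, 1, 6, 10, 8, 11, 3, 5, 7, 14, 22, 17, 20, 21, 12, 13, 16, 23, 19, 18, 15]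
noncomputable def TDD_0_12 : DD := mkDD [12, 17, 13, 18, 14, 20, 23, 19, 16, 22, 15, 21, 0, 2, 4, 10, 8, 1, 3, 7, 5, 11, 9, 6]
noncomputable def TDD_0_6 : DD := mkDD [6, 0, 11, 2, 1, 4, 5, 7, 9, 3, 10, 8, 23, 21, 17, 15, 22, 12, 13, 19, 14, 16, 18, 20]
noncomputable def TDD_0_1 : DD := mkDD [1, 4, 3, 9, 0, 10, 5, 11, 7, 2, 6, 8, 17, 18, 12, 23, 19, 14, 22, 21, 15, 16, 13, 20]
noncomputable def TDD_0_14 : DD := mkDD [14, 12, 22, 13, 17, 23, 15, 16, 21, 18, 20, 19, 4, 9, 1, 5, 11, 0, 2, 8, 6, 7, 3, 10]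
noncomputable def TDD_0_5 : DD := mkDD [5, 0, 8, 2, 1, 10, 4, 11, 7, 3, 6, 9, 16, 20, 18, 21, 15, 13, 12, 23, 19, 14, 17, 22]
noncomputable def TDD_0_13 : DD := mkDD [13, 18, 12, 17, 16, 21, 19, 14, 23, 20, 22, 15, 0, 2, 5, 4, 11, 1, 3, 9, 6, 7, 8, 10]
noncomputable def TDD_0_10 : DD := mkDD [10, 4, 7, 9, 0, 1, 6, 8, 3, 2, 5, 11, 15, 19, 12, 20, 18, 14, 22, 16, 17, 21, 13, 23]
noncomputable def TDD_0_23 : DD := mkDD [23, 12, 21, 13, 17, 14, 20, 19, 22, 18, 15, 16, 6, 11, 1, 10, 9, 0, 2, 7, 4, 8, 3, 5]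
noncomputable def TDD_0_17 : DD := mkDD [17, 14, 18, 22, 12, 15, 20, 21, 19, 13, 23, 16, 1, 3, 0, 6, 7, 4, 9, 11, 10, 8, 2, 5]
noncomputable def TDD_0_16 : DD := mkDD [16, 13, 20, 12, 18, 19, 22, 23, 15, 17, 21, 14, 5, 8, 1, 6, 7, 0, 2, 11, 10, 9, 3, 4]
noncomputable def TDD_0_20 : DD := mkDD [20, 12, 16, 13, 17, 15, 14, 21, 19, 18, 23, 22, 8, 5, 3, 11, 10, 2, 0, 6, 7, 4, 1, 9]
noncomputable def TDD_0_22 : DD := mkDD [22, 13, 14, 12, 21, 19, 16, 17, 15, 23, 18, 20, 4, 9, 6, 1, 7, 0, 2, 3, 10, 8, 11, 5]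
noncomputable def TDD_0_2 : DD := mkDD [2, 3, 0, 1, 8, 11, 7, 4, 6, 5, 9, 10, 12, 13, 20, 14, 21, 17, 18, 22, 23, 19, 16, 15]
noncomputable def TDD_0_15 : DD := mkDD [15, 14, 19, 22, 12, 17, 23, 16, 18, 13, 20, 21, 10, 7, 0, 5, 3, 4, 9, 8, 1, 11, 2, 6]
noncomputable def TDD_0_19 : DD := mkDD [19, 13, 15, 12, 18, 16, 21, 14, 20, 17, 22, 23, 10, 7, 1, 4, 8, 0, 2, 9, 5, 11, 3, 6]
noncomputable def TDD_0_18 : DD := mkDD [18, 16, 17, 20, 13, 22, 21, 15, 14, 12, 19, 23, 1, 3, 0, 10, 9, 5, 8, 7, 4, 11, 2, 6]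
noncomputable def TDD_0_21 : DD := mkDD [21, 22, 23, 14, 13, 16, 18, 15, 20, 12, 19, 17, 6, 11, 0, 10, 8, 4, 9, 7, 5, 3, 2, 1]
noncomputable def TDD_0_8 : DD := mkDD [8, 2, 5, 0, 3, 7, 9, 6, 10, 1, 11, 4, 20, 16, 17, 23, 19, 12, 13, 21, 15, 22, 18, 14]
noncomputable def TDD_0_9 : DD := mkDD [9, 2, 4, 0, 11, 7, 8, 1, 10, 6, 3, 5, 14, 22, 23, 17, 19, 12, 13, 18, 15, 16, 21, 20]
noncomputable def TDD_0_7 : DD := mkDD [7, 2, 10, 0, 3, 8, 11, 4, 5, 1, 9, 6, 15, 19, 17, 14, 16, 12, 13, 22, 20, 21, 18, 23]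
noncomputable def TDD_0_3 : DD := mkDD [3, 8, 1, 5, 2, 9, 11, 10, 4, 0, 7, 6, 17, 18, 12, 15, 22, 20, 16, 19, 14, 21, 13, 23]
noncomputable def TDD_0_11 : DD := mkDD [11, 9, 6, 4, 2, 8, 3, 10, 5, 0, 7, 1, 23, 21, 12, 15, 16, 14, 22, 19, 20, 18, 13, 17]
noncomputable def TDD_1_10 : DD := mkDD [0, 10, 2, 7, 4, 6, 5, 3, 11, 9, 1, 8, 12, 13, 14, 17, 21, 15, 19, 18, 23, 16, 22, 20]
noncomputable def TDD_1_4 : DD := mkDD [0, 4, 2, 9, 5, 10, 6, 3, 7, 8, 1, 11, 13, 12, 16, 18, 15, 22, 14, 17, 19, 23, 20, 21]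
noncomputable def TDD_1_5 : DD := mkDD [0, 5, 2, 8, 6, 4, 10, 3, 9, 11, 1, 7, 12, 13, 23, 17, 22, 20, 16, 18, 14, 19, 21, 15]
noncomputable def TDD_1_6 : DD := mkDD [0, 6, 2, 11, 10, 5, 4, 3, 8, 7, 1, 9, 13, 12, 19, 18, 20, 21, 23, 17, 16, 14, 15, 22]
noncomputable def TDD_2_5 : DD := mkDD [0, 1, 2, 3, 5, 6, 10, 9, 11, 8, 4, 7, 13, 12, 16, 22, 23, 18, 17, 14, 21, 15, 20, 19]
noncomputable def TDD_2_6 : DD := mkDD [0, 1, 2, 3, 6, 10, 4, 8, 7, 11, 5, 9, 12, 13, 23, 20, 19, 17, 18, 16, 15, 22, 21, 14]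
noncomputable def TDD_2_10 : DD := mkDD [0, 1, 2, 3, 10, 4, 5, 11, 9, 7, 6, 8, 13, 12, 19, 21, 14, 18, 17, 23, 22, 20, 15, 16]
noncomputable def TDD : List (List DD) := [[TDD_0_0, TDD_0_4, TDD_0_12, TDD_0_6, TDD_0_1, TDD_0_14, TDD_0_5, TDD_0_13, TDD_0_10, TDD_0_23, TDD_0_17, TDD_0_16, TDD_0_20, TDD_0_22, TDD_0_2, TDD_0_15, TDD_0_19, TDD_0_18, TDD_0_21, TDD_0_8, TDD_0_9, TDD_0_7, TDD_0_3, TDD_0_11],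
  [TDD_0_0, TDD_1_10, TDD_1_4, TDD_1_5, TDD_1_6],
  [TDD_0_0, TDD_2_5, TDD_2_6, TDD_2_10]]
theorem TDD_tr : PE.Tr TDD := PE.tr_of CDD_ok rfl (by decide +kernel)
noncomputable instance enDD : PE.Enm P24 (gens CDD) := ⟨TDD, TDD_tr⟩
theorem hjD : grp P24.n (gens CDD) ≤ grp P24.n (gens CAM) := PE.grp_le CAM_ok rfl (by decide +kernel)
noncomputable def jD : DD →* AM := PE.incl hjD
theorem jD_inj : Function.Injective jD := PE.incl_inj _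
def CBB : List Perm.SS.Lvl := [
  ⟨0, [[0, 1, 2, 3, 6, 10, 4, 8, 7, 11, 5, 9, 12, 13, 23, 20, 19, 17, 18, 16, 15, 22, 21, 14], [1, 4, 3, 9, 0, 10, 5, 11, 7, 2, 6, 8, 17, 18, 12, 23, 19, 14, 22, 21, 15, 16, 13, 20]],
   [(0, [], [0, 1, 2, 3, 4, 5, 6, 7, 8, 9, 10, 11, 12, 13, 14, 15, 16, 17, 18, 19, 20, 21, 22, 23]), (4, [1], [1, 4, 3, 9, 0, 10, 5, 11, 7, 2, 6, 8, 17, 18, 12, 23, 19, 14, 22, 21, 15, 16, 13, 20]), (6, [1, 0], [1, 4, 3, 9, 5, 6, 0, 7, 11, 8, 10, 2, 17, 18, 20, 15, 21, 14, 22, 19, 23, 13, 16, 12]), (1, [1, 1], [4, 0, 9, 2, 1, 6, 10, 8, 11, 3, 5, 7, 14, 22, 17, 20, 21, 12, 13, 16, 23, 19, 18, 15]), (10, [1, 0, 1], [4, 5, 9, 8, 1, 10, 6, 2, 7, 3, 0, 11, 14, 22, 17, 12, 19, 20, 16, 13, 15, 21, 18, 23]), (5, [1, 0, 1, 0], [4, 5, 9, 8, 6, 0, 1, 7, 2, 11, 10, 3, 14, 22, 23, 15, 13, 20,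 16, 19, 12, 18, 21, 17])],
   [[0], [1, 1, 0, 1]]⟩,
  ⟨1, [[0, 1, 2, 3, 6, 10, 4, 8, 7, 11, 5, 9, 12, 13, 23, 20, 19, 17, 18, 16, 15, 22, 21, 14], [0, 10, 2, 7, 4, 6, 5, 3, 11, 9, 1, 8, 12, 13, 14, 17, 21, 15, 19, 18, 23, 16, 22, 20]],
   [(1, [], [0, 1, 2, 3, 4, 5, 6, 7, 8, 9, 10, 11, 12, 13, 14, 15, 16, 17, 18, 19, 20, 21, 22, 23]), (10, [1], [0, 10, 2, 7, 4, 6, 5, 3, 11, 9, 1, 8, 12, 13, 14, 17, 21, 15, 19, 18, 23, 16, 22, 20]), (5, [1, 0], [0, 10, 2, 7, 5, 1, 4, 11, 3, 8, 6, 9, 12, 13, 20, 23, 18, 15, 19, 21, 17, 22, 16, 14]), (6, [1, 0, 1], [0, 6, 2, 11, 5, 4, 1, 7, 9, 8, 10, 3, 12, 13, 20, 15, 22, 23, 21, 19, 14, 18, 16, 17]), (4, [1, 0, 1, 0], [0, 6, 2, 11, 1, 10, 5, 9, 7, 3, 4, 8, 12, 13, 17, 14, 19, 23, 21, 22, 15, 16, 18, 20])],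
   [[0]]⟩,
  ⟨4, [[0, 1, 2, 3, 6, 10, 4, 8, 7, 11, 5, 9, 12, 13, 23, 20, 19, 17, 18, 16, 15, 22, 21, 14]],
   [(4, [], [0, 1, 2, 3, 4, 5, 6, 7, 8, 9, 10, 11, 12, 13, 14, 15, 16, 17, 18, 19, 20, 21, 22, 23]), (6, [0], [0, 1, 2, 3, 6, 10, 4, 8, 7, 11, 5, 9, 12, 13, 23, 20, 19, 17, 18, 16, 15, 22, 21, 14])],
   []⟩]
theorem CBB_ok : chainOK P24.n CBB = true := by decide +kernel
abbrev BB : Type := PE P24 (gens CBB)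
noncomputable def mkBB (l : List ℕ) (h : (valb P24.n l && sift P24.n CBB l) = true := by decide +kernel) : BB :=
  PE.mk' l (PE.ex_of CBB_ok rfl h)
noncomputable def TBB_0_0 : BB := mkBB [0, 1, 2, 3, 4, 5, 6, 7, 8, 9, 10, 11, 12, 13, 14, 15, 16, 17, 18, 19, 20, 21, 22, 23]
noncomputable def TBB_0_4 : BB := mkBB [4, 0, 9, 2, 1, 6, 10, 8, 11, 3, 5, 7, 14, 22, 17, 20, 21, 12, 13, 16, 23, 19, 18, 15]
noncomputable def TBB_0_6 : BB := mkBB [6, 0, 11, 2, 1, 4, 5, 7, 9, 3, 10, 8, 23, 21, 17, 15, 22, 12, 13, 19, 14, 16, 18, 20]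
noncomputable def TBB_0_1 : BB := mkBB [1, 4, 3, 9, 0, 10, 5, 11, 7, 2, 6, 8, 17, 18, 12, 23, 19, 14, 22, 21, 15, 16, 13, 20]
noncomputable def TBB_0_10 : BB := mkBB [10, 4, 7, 9, 0, 1, 6, 8, 3, 2, 5, 11, 15, 19, 12, 20, 18, 14, 22, 16, 17, 21, 13, 23]
noncomputable def TBB_0_5 : BB := mkBB [5, 6, 8, 11, 0, 1, 4, 7, 3, 2, 10, 9, 20, 16, 12, 15, 18, 23, 21, 19, 17, 22, 13, 14]
noncomputable def TBB_1_10 : BB := mkBB [0, 10, 2, 7, 4, 6, 5, 3, 11, 9, 1, 8, 12, 13, 14, 17, 21, 15, 19, 18, 23, 16, 22, 20]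
noncomputable def TBB_1_5 : BB := mkBB [0, 5, 2, 8, 6, 4, 10, 3, 9, 11, 1, 7, 12, 13, 23, 17, 22, 20, 16, 18, 14, 19, 21, 15]
noncomputable def TBB_1_6 : BB := mkBB [0, 6, 2, 11, 5, 4, 1, 7, 9, 8, 10, 3, 12, 13, 20, 15, 22, 23, 21, 19, 14, 18, 16, 17]
noncomputable def TBB_1_4 : BB := mkBB [0, 4, 2, 9, 10, 6, 1, 8, 11, 7, 5, 3, 12, 13, 15, 20, 21, 14, 22, 16, 23, 18, 19, 17]
noncomputable def TBB_2_6 : BB := mkBB [0, 1, 2, 3, 6, 10, 4, 8, 7, 11, 5, 9, 12, 13, 23, 20, 19, 17, 18, 16, 15, 22, 21, 14]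
noncomputable def TBB : List (List BB) := [[TBB_0_0, TBB_0_4, TBB_0_6, TBB_0_1, TBB_0_10, TBB_0_5],
  [TBB_0_0, TBB_1_10, TBB_1_5, TBB_1_6, TBB_1_4],
  [TBB_0_0, TBB_2_6]]
theorem TBB_tr : PE.Tr TBB := PE.tr_of CBB_ok rfl (by decide +kernel)
noncomputable instance enBB : PE.Enm P24 (gens CBB) := ⟨TBB, TBB_tr⟩
theorem hjB : grp P24.n (gens CBB) ≤ grp P24.n (gens CAM) := PE.grp_le CAM_ok rfl (by decide +kernel)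
noncomputable def jB : BB →* AM := PE.incl hjB
theorem jB_inj : Function.Injective jB := PE.incl_inj _
def CXX : List Perm.SS.Lvl := [
  ⟨0, [[0, 1, 2, 3, 6, 10, 4, 8, 7, 11, 5, 9, 12, 13, 23, 20, 19, 17, 18, 16, 15, 22, 21, 14], [1, 4, 3, 9, 0, 10, 5, 11, 7, 2, 6, 8, 17, 18, 12, 23, 19, 14, 22, 21, 15, 16, 13, 20], [2, 3, 0, 1, 9, 8, 11, 10, 5, 4, 7, 6, 13, 12, 22, 19, 20, 18, 17, 15, 16, 23, 14, 21]],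
   [(0, [], [0, 1, 2, 3, 4, 5, 6, 7, 8, 9, 10, 11, 12, 13, 14, 15, 16, 17, 18, 19, 20, 21, 22, 23]), (4, [1], [1, 4, 3, 9, 0, 10, 5, 11, 7, 2, 6, 8, 17, 18, 12, 23, 19, 14, 22, 21, 15, 16, 13, 20]), (2, [2], [2, 3, 0, 1, 9, 8, 11, 10, 5, 4, 7, 6, 13, 12, 22, 19, 20, 18, 17, 15, 16, 23, 14, 21]), (6, [1, 0], [1, 4, 3, 9, 5, 6, 0, 7, 11, 8, 10, 2, 17, 18, 20, 15, 21, 14, 22, 19, 23, 13, 16, 12]), (1, [1, 1], [4, 0, 9, 2, 1, 6, 10, 8, 11, 3, 5, 7, 14, 22, 17, 20, 21, 12, 13, 16, 23, 19, 18, 15]), (9, [1, 2], [3, 9, 1, 4, 2, 7, 8, 6, 10, 0, 11, 5, 18, 17, 13, 21, 15, 22, 14, 23, 19, 20, 12, 16]), (10, [1, 0, 1], [4, 5, 9, 8, 1, 10, 6, 2, 7, 3, 0, 11, 14, 22, 17, 12, 19, 20, 16, 13, 15, 21, 18, 23]), (11, [1, 0, 2], [3, 9, 1, 4, 8, 11, 2, 10, 6, 5, 7, 0, 18, 17, 16, 19, 23, 22, 14, 15, 21, 12, 20,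 13]), (3, [1, 1, 2], [9, 2, 4, 0, 3, 11, 7, 5, 6, 1, 8, 10, 22, 14, 18, 16, 23, 13, 12, 20, 21, 15, 17, 19]), (5, [1, 0, 1, 0], [4, 5, 9, 8, 6, 0, 1, 7, 2, 11, 10, 3, 14, 22, 23, 15, 13, 20, 16, 19, 12, 18, 21, 17]), (7, [1, 0, 1, 2], [9, 8, 4, 5, 3, 7, 11, 0, 10, 1, 2, 6, 22, 14, 18, 13, 15, 16, 20, 12, 19, 23, 17, 21]), (8, [1, 0, 1, 0, 2], [9, 8, 4, 5, 11, 2, 3, 10, 0, 6, 7, 1, 22, 14, 21, 19, 12, 16, 20, 15, 13, 17, 23, 18])],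
   [[0], [1, 1, 0, 1]]⟩,
  ⟨1, [[0, 1, 2, 3, 6, 10, 4, 8, 7, 11, 5, 9, 12, 13, 23, 20, 19, 17, 18, 16, 15, 22, 21, 14], [0, 10, 2, 7, 4, 6, 5, 3, 11, 9, 1, 8, 12, 13, 14, 17, 21, 15, 19, 18, 23, 16, 22, 20]],
   [(1, [], [0, 1, 2, 3, 4, 5, 6, 7, 8, 9, 10, 11, 12, 13, 14, 15, 16, 17, 18, 19, 20, 21, 22, 23]), (10, [1], [0, 10, 2, 7, 4, 6, 5, 3, 11, 9, 1, 8, 12, 13, 14, 17, 21, 15, 19, 18, 23, 16, 22, 20]), (5, [1, 0], [0, 10, 2, 7, 5, 1, 4, 11, 3, 8, 6, 9, 12, 13, 20, 23, 18, 15, 19, 21, 17, 22, 16, 14]), (6, [1, 0, 1], [0, 6, 2, 11, 5, 4, 1, 7, 9, 8, 10, 3, 12, 13, 20, 15, 22, 23, 21, 19, 14, 18, 16, 17]), (4, [1, 0, 1, 0], [0, 6, 2, 11, 1, 10, 5, 9, 7, 3, 4, 8, 12, 13, 17, 14, 19, 23, 21, 22, 15, 16, 18, 20])],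
   [[0]]⟩,
  ⟨4, [[0, 1, 2, 3, 6, 10, 4, 8, 7, 11, 5, 9, 12, 13, 23, 20, 19, 17, 18, 16, 15, 22, 21, 14]],
   [(4, [], [0, 1, 2, 3, 4, 5, 6, 7, 8, 9, 10, 11, 12, 13, 14, 15, 16, 17, 18, 19, 20, 21, 22, 23]), (6, [0], [0, 1, 2, 3, 6, 10, 4, 8, 7, 11, 5, 9, 12, 13, 23, 20, 19, 17, 18, 16, 15, 22, 21, 14])],
   []⟩]
theorem CXX_ok : chainOK P24.n CXX = true := by decide +kernel
abbrev XX : Type := PE P24 (gens CXX)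
noncomputable def mkXX (l : List ℕ) (h : (valb P24.n l && sift P24.n CXX l) = true := by decide +kernel) : XX :=
  PE.mk' l (PE.ex_of CXX_ok rfl h)
noncomputable def TXX_0_0 : XX := mkXX [0, 1, 2, 3, 4, 5, 6, 7, 8, 9, 10, 11, 12, 13, 14, 15, 16, 17, 18, 19, 20, 21, 22, 23]
noncomputable def TXX_0_4 : XX := mkXX [4, 0, 9, 2, 1, 6, 10, 8, 11, 3, 5, 7, 14, 22, 17, 20, 21, 12, 13, 16, 23, 19, 18, 15]
noncomputable def TXX_0_2 : XX := mkXX [2, 3, 0, 1, 9, 8, 11, 10, 5, 4, 7, 6, 13, 12, 22, 19, 20, 18, 17, 15, 16, 23, 14, 21]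
noncomputable def TXX_0_6 : XX := mkXX [6, 0, 11, 2, 1, 4, 5, 7, 9, 3, 10, 8, 23, 21, 17, 15, 22, 12, 13, 19, 14, 16, 18, 20]
noncomputable def TXX_0_1 : XX := mkXX [1, 4, 3, 9, 0, 10, 5, 11, 7, 2, 6, 8, 17, 18, 12, 23, 19, 14, 22, 21, 15, 16, 13, 20]
noncomputable def TXX_0_9 : XX := mkXX [9, 2, 4, 0, 3, 11, 7, 5, 6, 1, 8, 10, 22, 14, 18, 16, 23, 13, 12, 20, 21, 15, 17, 19]
noncomputable def TXX_0_10 : XX := mkXX [10, 4, 7, 9, 0, 1, 6, 8, 3, 2, 5, 11, 15, 19, 12, 20, 18, 14, 22, 16, 17, 21, 13, 23]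
noncomputable def TXX_0_11 : XX := mkXX [11, 2, 6, 0, 3, 9, 8, 10, 4, 1, 7, 5, 21, 23, 18, 19, 14, 13, 12, 15, 22, 20, 17, 16]
noncomputable def TXX_0_3 : XX := mkXX [3, 9, 1, 4, 2, 7, 8, 6, 10, 0, 11, 5, 18, 17, 13, 21, 15, 22, 14, 23, 19, 20, 12, 16]
noncomputable def TXX_0_5 : XX := mkXX [5, 6, 8, 11, 0, 1, 4, 7, 3, 2, 10, 9, 20, 16, 12, 15, 18, 23, 21, 19, 17, 22, 13, 14]
noncomputable def TXX_0_7 : XX := mkXX [7, 9, 10, 4, 2, 3, 11, 5, 1, 0, 8, 6, 19, 15, 13, 16, 17, 22, 14, 20, 18, 23, 12, 21]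
noncomputable def TXX_0_8 : XX := mkXX [8, 11, 5, 6, 2, 3, 9, 10, 1, 0, 7, 4, 16, 20, 13, 19, 17, 21, 23, 15, 18, 14, 12, 22]
noncomputable def TXX_1_10 : XX := mkXX [0, 10, 2, 7, 4, 6, 5, 3, 11, 9, 1, 8, 12, 13, 14, 17, 21, 15, 19, 18, 23, 16, 22, 20]
noncomputable def TXX_1_5 : XX := mkXX [0, 5, 2, 8, 6, 4, 10, 3, 9, 11, 1, 7, 12, 13, 23, 17, 22, 20, 16, 18, 14, 19, 21, 15]
noncomputable def TXX_1_6 : XX := mkXX [0, 6, 2, 11, 5, 4, 1, 7, 9, 8, 10, 3, 12, 13, 20, 15, 22, 23, 21, 19, 14, 18, 16, 17]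
noncomputable def TXX_1_4 : XX := mkXX [0, 4, 2, 9, 10, 6, 1, 8, 11, 7, 5, 3, 12, 13, 15, 20, 21, 14, 22, 16, 23, 18, 19, 17]
noncomputable def TXX_2_6 : XX := mkXX [0, 1, 2, 3, 6, 10, 4, 8, 7, 11, 5, 9, 12, 13, 23, 20, 19, 17, 18, 16, 15, 22, 21, 14]
noncomputable def TXX : List (List XX) := [[TXX_0_0, TXX_0_4, TXX_0_2, TXX_0_6, TXX_0_1, TXX_0_9, TXX_0_10, TXX_0_11, TXX_0_3, TXX_0_5, TXX_0_7, TXX_0_8],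
  [TXX_0_0, TXX_1_10, TXX_1_5, TXX_1_6, TXX_1_4],
  [TXX_0_0, TXX_2_6]]
theorem TXX_tr : PE.Tr TXX := PE.tr_of CXX_ok rfl (by decide +kernel)
noncomputable instance enXX : PE.Enm P24 (gens CXX) := ⟨TXX, TXX_tr⟩
theorem hjX : grp P24.n (gens CXX) ≤ grp P24.n (gens CAM) := PE.grp_le CAM_ok rfl (by decide +kernel)
noncomputable def jX : XX →* AM := PE.incl hjX
theorem jX_inj : Function.Injective jX := PE.incl_inj _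
def CPP : List Perm.SS.Lvl := [
  ⟨0, [[0, 1, 2, 3, 5, 6, 10, 9, 11, 8, 4, 7, 13, 12, 16, 22, 23, 18, 17, 14, 21, 15, 20, 19], [2, 3, 0, 1, 7, 9, 8, 6, 4, 10, 11, 5, 12, 13, 15, 23, 22, 17, 18, 21, 14, 16, 19, 20], [1, 0, 3, 2, 4, 10, 6, 8, 7, 9, 5, 11, 17, 18, 14, 20, 19, 12, 13, 16, 15, 21, 22, 23]],
   [(0, [], [0, 1, 2, 3, 4, 5, 6, 7, 8, 9, 10, 11, 12, 13, 14, 15, 16, 17, 18, 19, 20, 21, 22, 23]), (2, [1], [2, 3, 0, 1, 7, 9, 8, 6, 4, 10, 11, 5, 12, 13, 15, 23, 22, 17, 18, 21, 14, 16, 19, 20]), (1, [2], [1, 0, 3, 2, 4, 10, 6, 8, 7, 9, 5, 11, 17, 18, 14, 20, 19, 12, 13, 16, 15, 21, 22, 23]), (3, [1, 2], [3, 2, 1, 0, 7, 11, 8, 4, 6, 10, 9, 5, 17, 18, 15, 14, 21, 12, 13, 22, 23, 16, 19, 20])],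
   [[0]]⟩,
  ⟨4, [[0, 1, 2, 3, 5, 6, 10, 9, 11, 8, 4, 7, 13, 12, 16, 22, 23, 18, 17, 14, 21, 15, 20, 19]],
   [(4, [], [0, 1, 2, 3, 4, 5, 6, 7, 8, 9, 10, 11, 12, 13, 14, 15, 16, 17, 18, 19, 20, 21, 22, 23]), (10, [0], [0, 1, 2, 3, 5, 6, 10, 9, 11, 8, 4, 7, 13, 12, 16, 22, 23, 18, 17, 14, 21, 15, 20, 19]), (6, [0, 0], [0, 1, 2, 3, 6, 10, 4, 8, 7, 11, 5, 9, 12, 13, 23, 20, 19, 17, 18, 16, 15, 22, 21, 14]), (5, [0, 0, 0], [0, 1, 2, 3, 10, 4, 5, 11, 9, 7, 6, 8, 13, 12, 19, 21, 14, 18, 17, 23, 22, 20, 15, 16])],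
   []⟩]
theorem CPP_ok : chainOK P24.n CPP = true := by decide +kernel
abbrev PP : Type := PE P24 (gens CPP)
noncomputable def mkPP (l : List ℕ) (h : (valb P24.n l && sift P24.n CPP l) = true := by decide +kernel) : PP :=
  PE.mk' l (PE.ex_of CPP_ok rfl h)
noncomputable def TPP_0_0 : PP := mkPP [0, 1, 2, 3, 4, 5, 6, 7, 8, 9, 10, 11, 12, 13, 14, 15, 16, 17, 18, 19, 20, 21, 22, 23]
noncomputable def TPP_0_2 : PP := mkPP [2, 3, 0, 1, 8, 11, 7, 4, 6, 5, 9, 10, 12, 13, 20, 14, 21, 17, 18, 22, 23, 19, 16, 15]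
noncomputable def TPP_0_1 : PP := mkPP [1, 0, 3, 2, 4, 10, 6, 8, 7, 9, 5, 11, 17, 18, 14, 20, 19, 12, 13, 16, 15, 21, 22, 23]
noncomputable def TPP_0_3 : PP := mkPP [3, 2, 1, 0, 7, 11, 8, 4, 6, 10, 9, 5, 17, 18, 15, 14, 21, 12, 13, 22, 23, 16, 19, 20]
noncomputable def TPP_1_10 : PP := mkPP [0, 1, 2, 3, 10, 4, 5, 11, 9, 7, 6, 8, 13, 12, 19, 21, 14, 18, 17, 23, 22, 20, 15, 16]
noncomputable def TPP_1_6 : PP := mkPP [0, 1, 2, 3, 6, 10, 4, 8, 7, 11, 5, 9, 12, 13, 23, 20, 19, 17, 18, 16, 15, 22, 21, 14]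
noncomputable def TPP_1_5 : PP := mkPP [0, 1, 2, 3, 5, 6, 10, 9, 11, 8, 4, 7, 13, 12, 16, 22, 23, 18, 17, 14, 21, 15, 20, 19]
noncomputable def TPP : List (List PP) := [[TPP_0_0, TPP_0_2, TPP_0_1, TPP_0_3],
  [TPP_0_0, TPP_1_10, TPP_1_6, TPP_1_5]]
theorem TPP_tr : PE.Tr TPP := PE.tr_of CPP_ok rfl (by decide +kernel)
noncomputable instance enPP : PE.Enm P24 (gens CPP) := ⟨TPP, TPP_tr⟩
theorem hjP : grp P24.n (gens CPP) ≤ grp P24.n (gens CAM) := PE.grp_le CAM_ok rfl (by decide +kernel)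
noncomputable def jP : PP →* AM := PE.incl hjP
theorem jP_inj : Function.Injective jP := PE.incl_inj _
def CRR : List Perm.SS.Lvl := [
  ⟨0, [[0, 1, 2, 3, 6, 10, 4, 8, 7, 11, 5, 9, 12, 13, 23, 20, 19, 17, 18, 16, 15, 22, 21, 14], [1, 0, 3, 2, 4, 10, 6, 8, 7, 9, 5, 11, 17, 18, 14, 20, 19, 12, 13, 16, 15, 21, 22, 23], [2, 3, 0, 1, 9, 8, 11, 10, 5, 4, 7, 6, 13, 12, 22, 19, 20, 18, 17, 15, 16, 23, 14, 21]],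
   [(0, [], [0, 1, 2, 3, 4, 5, 6, 7, 8, 9, 10, 11, 12, 13, 14, 15, 16, 17, 18, 19, 20, 21, 22, 23]), (1, [1], [1, 0, 3, 2, 4, 10, 6, 8, 7, 9, 5, 11, 17, 18, 14, 20, 19, 12, 13, 16, 15, 21, 22, 23]), (2, [2], [2, 3, 0, 1, 9, 8, 11, 10, 5, 4, 7, 6, 13, 12, 22, 19, 20, 18, 17, 15, 16, 23, 14, 21]), (3, [1, 2], [3, 2, 1, 0, 9, 7, 11, 5, 10, 4, 8, 6, 18, 17, 22, 16, 15, 13, 12, 20, 19, 23, 14, 21])],
   [[0]]⟩,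
  ⟨4, [[0, 1, 2, 3, 6, 10, 4, 8, 7, 11, 5, 9, 12, 13, 23, 20, 19, 17, 18, 16, 15, 22, 21, 14]],
   [(4, [], [0, 1, 2, 3, 4, 5, 6, 7, 8, 9, 10, 11, 12, 13, 14, 15, 16, 17, 18, 19, 20, 21, 22, 23]), (6, [0], [0, 1, 2, 3, 6, 10, 4, 8, 7, 11, 5, 9, 12, 13, 23, 20, 19, 17, 18, 16, 15, 22, 21, 14])],
   []⟩]
theorem CRR_ok : chainOK P24.n CRR = true := by decide +kernel
abbrev RR : Type := PE P24 (gens CRR)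
noncomputable def mkRR (l : List ℕ) (h : (valb P24.n l && sift P24.n CRR l) = true := by decide +kernel) : RR :=
  PE.mk' l (PE.ex_of CRR_ok rfl h)
noncomputable def TRR_0_0 : RR := mkRR [0, 1, 2, 3, 4, 5, 6, 7, 8, 9, 10, 11, 12, 13, 14, 15, 16, 17, 18, 19, 20, 21, 22, 23]
noncomputable def TRR_0_1 : RR := mkRR [1, 0, 3, 2, 4, 10, 6, 8, 7, 9, 5, 11, 17, 18, 14, 20, 19, 12, 13, 16, 15, 21, 22, 23]
noncomputable def TRR_0_2 : RR := mkRR [2, 3, 0, 1, 9, 8, 11, 10, 5, 4, 7, 6, 13, 12, 22, 19, 20, 18, 17, 15, 16, 23, 14, 21]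
noncomputable def TRR_0_3 : RR := mkRR [3, 2, 1, 0, 9, 7, 11, 5, 10, 4, 8, 6, 18, 17, 22, 16, 15, 13, 12, 20, 19, 23, 14, 21]
noncomputable def TRR_1_6 : RR := mkRR [0, 1, 2, 3, 6, 10, 4, 8, 7, 11, 5, 9, 12, 13, 23, 20, 19, 17, 18, 16, 15, 22, 21, 14]
noncomputable def TRR : List (List RR) := [[TRR_0_0, TRR_0_1, TRR_0_2, TRR_0_3],
  [TRR_0_0, TRR_1_6]]
theorem TRR_tr : PE.Tr TRR := PE.tr_of CRR_ok rfl (by decide +kernel)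
noncomputable instance enRR : PE.Enm P24 (gens CRR) := ⟨TRR, TRR_tr⟩
theorem hjR : grp P24.n (gens CRR) ≤ grp P24.n (gens CAM) := PE.grp_le CAM_ok rfl (by decide +kernel)
noncomputable def jR : RR →* AM := PE.incl hjR
theorem jR_inj : Function.Injective jR := PE.incl_inj _
noncomputable def g1 : TT := mkTT [0, 1, 2, 3, 5, 6, 10, 9, 11, 8, 4, 7, 13, 12, 16, 22, 23, 18, 17, 14, 21, 15, 20, 19]
noncomputable def g2 : TT := mkTT [0, 1, 3, 2, 4, 7, 6, 5, 10, 11, 8, 9, 17, 13, 14, 19, 20, 12, 18, 15, 16, 22, 21, 23]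
noncomputable def g3 : TT := mkTT [2, 3, 0, 1, 4, 10, 6, 7, 8, 11, 5, 9, 18, 17, 23, 20, 16, 13, 12, 19, 15, 21, 22, 14]
noncomputable def zT : TT := mkTT [0, 1, 2, 3, 6, 10, 4, 8, 7, 11, 5, 9, 12, 13, 23, 20, 19, 17, 18, 16, 15, 22, 21, 14]
noncomputable def zB : BB := mkBB [0, 1, 2, 3, 6, 10, 4, 8, 7, 11, 5, 9, 12, 13, 23, 20, 19, 17, 18, 16, 15, 22, 21, 14]
noncomputable def bB : BB := mkBB [1, 4, 3, 9, 0, 10, 5, 11, 7, 2, 6, 8, 17, 18, 12, 23, 19, 14, 22, 21, 15, 16, 13, 20]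
noncomputable def yB : BB := mkBB [0, 4, 2, 9, 10, 6, 1, 8, 11, 7, 5, 3, 12, 13, 15, 20, 21, 14, 22, 16, 23, 18, 19, 17]
noncomputable def tt_12 : TT := mkTT [1, 0, 3, 2, 4, 10, 6, 8, 7, 9, 5, 11, 17, 18, 14, 20, 19, 12, 13, 16, 15, 21, 22, 23]
noncomputable def tt_13 : TT := mkTT [1, 0, 3, 2, 6, 5, 4, 7, 8, 11, 10, 9, 17, 18, 23, 15, 16, 12, 13, 19, 20, 22, 21, 14]
noncomputable def tt_14 : TT := mkTT [1, 0, 3, 2, 9, 8, 11, 5, 10, 6, 7, 4, 12, 13, 21, 19, 15, 17, 18, 20, 16, 23, 14, 22]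
noncomputable def tt_15 : TT := mkTT [1, 0, 3, 2, 11, 7, 9, 10, 5, 4, 8, 6, 12, 13, 22, 16, 20, 17, 18, 15, 19, 14, 23, 21]
noncomputable def LD : List TT := [1, zT, TTT_2_9, TTT_2_11, tt_12, tt_13, tt_14, tt_15]
noncomputable def ma_0 : AM := mkAM [1, 0, 3, 2, 4, 10, 6, 8, 7, 9, 5, 11, 17, 18, 14, 20, 19, 12, 13, 16, 15, 21, 22, 23]
noncomputable def dd_31 : DD := mkDD [1, 0, 3, 2, 4, 10, 6, 8, 7, 9, 5, 11, 17, 18, 14, 20, 19, 12, 13, 16, 15, 21, 22, 23]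
noncomputable def ma_1 : AM := mkAM [2, 3, 0, 1, 7, 9, 8, 6, 4, 10, 11, 5, 12, 13, 15, 23, 22, 17, 18, 21, 14, 16, 19, 20]
noncomputable def dd_32 : DD := mkDD [2, 3, 0, 1, 7, 9, 8, 6, 4, 10, 11, 5, 12, 13, 15, 23, 22, 17, 18, 21, 14, 16, 19, 20]
noncomputable def ma_2 : AM := mkAM [3, 2, 1, 0, 7, 11, 8, 4, 6, 10, 9, 5, 17, 18, 15, 14, 21, 12, 13, 22, 23, 16, 19, 20]
noncomputable def dd_33 : DD := mkDD [3, 2, 1, 0, 7, 11, 8, 4, 6, 10, 9, 5, 17, 18, 15, 14, 21, 12, 13, 22, 23, 16, 19, 20]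
noncomputable def ma_3 : AM := mkAM [4, 0, 9, 2, 1, 6, 10, 8, 11, 3, 5, 7, 14, 22, 17, 20, 21, 12, 13, 16, 23, 19, 18, 15]
noncomputable def ma_4 : AM := mkAM [5, 0, 8, 2, 1, 10, 4, 11, 7, 3, 6, 9, 16, 20, 18, 21, 15, 13, 12, 23, 19, 14, 17, 22]
noncomputable def ma_5 : AM := mkAM [6, 0, 11, 2, 1, 4, 5, 7, 9, 3, 10, 8, 23, 21, 17, 15, 22, 12, 13, 19, 14, 16, 18, 20]
noncomputable def ma_6 : AM := mkAM [7, 2, 10, 0, 3, 8, 11, 4, 5, 1, 9, 6, 15, 19, 17, 14, 16, 12, 13, 22, 20, 21, 18, 23]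
noncomputable def ma_7 : AM := mkAM [8, 2, 5, 0, 3, 7, 9, 6, 10, 1, 11, 4, 20, 16, 17, 23, 19, 12, 13, 21, 15, 22, 18, 14]
noncomputable def ma_8 : AM := mkAM [9, 2, 4, 0, 3, 11, 7, 5, 6, 1, 8, 10, 22, 14, 18, 16, 23, 13, 12, 20, 21, 15, 17, 19]
noncomputable def dd_34 : DD := mkDD [9, 2, 4, 0, 3, 11, 7, 5, 6, 1, 8, 10, 22, 14, 18, 16, 23, 13, 12, 20, 21, 15, 17, 19]
noncomputable def ma_9 : AM := mkAM [10, 0, 7, 2, 1, 5, 6, 9, 8, 3, 4, 11, 19, 15, 18, 22, 20, 13, 12, 14, 16, 23, 17, 21]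
noncomputable def dd_35 : DD := mkDD [10, 0, 7, 2, 1, 5, 6, 9, 8, 3, 4, 11, 19, 15, 18, 22, 20, 13, 12, 14, 16, 23, 17, 21]
noncomputable def ma_10 : AM := mkAM [11, 2, 6, 0, 3, 9, 8, 10, 4, 1, 7, 5, 21, 23, 18, 19, 14, 13, 12, 15, 22, 20, 17, 16]
noncomputable def dd_36 : DD := mkDD [11, 2, 6, 0, 3, 9, 8, 10, 4, 1, 7, 5, 21, 23, 18, 19, 14, 13, 12, 15, 22, 20, 17, 16]
noncomputable def ma_11 : AM := mkAM [12, 14, 13, 22, 15, 23, 17, 16, 21, 19, 20, 18, 0, 2, 10, 5, 11, 4, 9, 8, 6, 3, 7, 1]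
noncomputable def dd_37 : DD := mkDD [12, 14, 13, 22, 15, 23, 17, 16, 21, 19, 20, 18, 0, 2, 10, 5, 11, 4, 9, 8, 6, 3, 7, 1]
noncomputable def ma_12 : AM := mkAM [13, 16, 12, 20, 18, 21, 22, 15, 23, 17, 19, 14, 0, 2, 1, 10, 11, 5, 8, 7, 6, 9, 3, 4]
noncomputable def dd_38 : DD := mkDD [13, 16, 12, 20, 18, 21, 22, 15, 23, 17, 19, 14, 0, 2, 1, 10, 11, 5, 8, 7, 6, 9, 3, 4]
noncomputable def ma_13 : AM := mkAM [14, 12, 22, 13, 15, 20, 17, 21, 16, 19, 23, 18, 4, 9, 10, 6, 8, 0, 2, 11, 5, 3, 7, 1]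
noncomputable def dd_39 : DD := mkDD [14, 12, 22, 13, 15, 20, 17, 21, 16, 19, 23, 18, 4, 9, 10, 6, 8, 0, 2, 11, 5, 3, 7, 1]
noncomputable def ma_14 : AM := mkAM [15, 12, 19, 13, 14, 17, 20, 21, 18, 22, 23, 16, 10, 7, 4, 6, 3, 0, 2, 11, 1, 8, 9, 5]
noncomputable def dd_40 : DD := mkDD [15, 12, 19, 13, 14, 17, 20, 21, 18, 22, 23, 16, 10, 7, 4, 6, 3, 0, 2, 11, 1, 8, 9, 5]
noncomputable def ma_15 : AM := mkAM [16, 13, 20, 12, 18, 19, 22, 23, 15, 17, 21, 14, 5, 8, 1, 6, 7, 0, 2, 11, 10, 9, 3, 4]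
noncomputable def ma_16 : AM := mkAM [17, 12, 18, 13, 14, 15, 23, 16, 19, 22, 20, 21, 1, 3, 4, 5, 7, 0, 2, 8, 10, 11, 9, 6]
noncomputable def dd_41 : DD := mkDD [17, 12, 18, 13, 14, 15, 23, 16, 19, 22, 20, 21, 1, 3, 4, 5, 7, 0, 2, 8, 10, 11, 9, 6]
noncomputable def ma_17 : AM := mkAM [18, 13, 17, 12, 16, 22, 19, 23, 14, 20, 21, 15, 1, 3, 5, 6, 9, 0, 2, 11, 4, 7, 8, 10]
noncomputable def dd_42 : DD := mkDD [18, 13, 17, 12, 16, 22, 19, 23, 14, 20, 21, 15, 1, 3, 5, 6, 9, 0, 2, 11, 4, 7, 8, 10]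
noncomputable def ma_18 : AM := mkAM [19, 13, 15, 12, 16, 21, 22, 17, 23, 20, 18, 14, 7, 10, 8, 3, 6, 2, 0, 1, 11, 4, 5, 9]
noncomputable def dd_43 : DD := mkDD [19, 13, 15, 12, 16, 21, 22, 17, 23, 20, 18, 14, 7, 10, 8, 3, 6, 2, 0, 1, 11, 4, 5, 9]
noncomputable def ma_19 : AM := mkAM [20, 12, 16, 13, 14, 23, 17, 19, 21, 22, 15, 18, 8, 5, 9, 7, 6, 2, 0, 10, 11, 1, 4, 3]
noncomputable def dd_44 : DD := mkDD [20, 12, 16, 13, 14, 23, 17, 19, 21, 22, 15, 18, 8, 5, 9, 7, 6, 2, 0, 10, 11, 1, 4, 3]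
noncomputable def ma_20 : AM := mkAM [21, 13, 23, 12, 16, 19, 18, 14, 15, 20, 22, 17, 11, 6, 8, 9, 10, 2, 0, 4, 7, 1, 5, 3]
noncomputable def dd_45 : DD := mkDD [21, 13, 23, 12, 16, 19, 18, 14, 15, 20, 22, 17, 11, 6, 8, 9, 10, 2, 0, 4, 7, 1, 5, 3]
noncomputable def ma_21 : AM := mkAM [22, 13, 14, 12, 16, 18, 21, 15, 17, 20, 19, 23, 4, 9, 5, 10, 3, 0, 2, 7, 1, 11, 8, 6]
noncomputable def dd_46 : DD := mkDD [22, 13, 14, 12, 16, 18, 21, 15, 17, 20, 19, 23, 4, 9, 5, 10, 3, 0, 2, 7, 1, 11, 8, 6]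
noncomputable def ma_22 : AM := mkAM [23, 12, 21, 13, 14, 20, 15, 18, 16, 22, 17, 19, 11, 6, 9, 3, 5, 2, 0, 1, 8, 10, 4, 7]
noncomputable def dd_47 : DD := mkDD [23, 12, 21, 13, 14, 20, 15, 18, 16, 22, 17, 19, 11, 6, 9, 3, 5, 2, 0, 1, 8, 10, 4, 7]
noncomputable def ma_23 : AM := mkAM [0, 4, 2, 9, 1, 5, 10, 11, 8, 3, 6, 7, 12, 13, 17, 23, 16, 14, 22, 21, 20, 19, 18, 15]
noncomputable def dd_48 : DD := mkDD [0, 4, 2, 9, 1, 5, 10, 11, 8, 3, 6, 7, 12, 13, 17, 23, 16, 14, 22, 21, 20, 19, 18, 15]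
noncomputable def ma_24 : AM := mkAM [0, 5, 2, 8, 1, 6, 4, 7, 11, 3, 10, 9, 13, 12, 18, 19, 23, 16, 20, 15, 21, 14, 17, 22]
noncomputable def dd_49 : DD := mkDD [0, 5, 2, 8, 1, 6, 4, 7, 11, 3, 10, 9, 13, 12, 18, 19, 23, 16, 20, 15, 21, 14, 17, 22]
noncomputable def ma_25 : AM := mkAM [0, 6, 2, 11, 1, 10, 5, 9, 7, 3, 4, 8, 12, 13, 17, 14, 19, 23, 21, 22, 15, 16, 18, 20]
noncomputable def dd_50 : DD := mkDD [0, 6, 2, 11, 1, 10, 5, 9, 7, 3, 4, 8, 12, 13, 17, 14, 19, 23, 21, 22, 15, 16, 18, 20]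
noncomputable def ma_26 : AM := mkAM [0, 10, 2, 7, 1, 4, 6, 8, 9, 3, 5, 11, 13, 12, 18, 16, 14, 19, 15, 20, 22, 23, 17, 21]
noncomputable def dd_51 : DD := mkDD [0, 10, 2, 7, 1, 4, 6, 8, 9, 3, 5, 11, 13, 12, 18, 16, 14, 19, 15, 20, 22, 23, 17, 21]
noncomputable def ma_27 : AM := mkAM [0, 1, 2, 3, 5, 6, 10, 9, 11, 8, 4, 7, 13, 12, 16, 22, 23, 18, 17, 14, 21, 15, 20, 19]
noncomputable def ma_28 : AM := mkAM [0, 1, 2, 3, 6, 10, 4, 8, 7, 11, 5, 9, 12, 13, 23, 20, 19, 17, 18, 16, 15, 22, 21, 14]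
noncomputable def ma_29 : AM := mkAM [0, 1, 2, 3, 10, 4, 5, 11, 9, 7, 6, 8, 13, 12, 19, 21, 14, 18, 17, 23, 22, 20, 15, 16]
noncomputable def LI : Tb AM DD := [(ma_0, dd_31, tq 0 1),
  (ma_1, dd_32, tq 0 2),
  (ma_2, dd_33, tq 0 3),
  (ma_3, TDD_0_4, tq 0 4),
  (ma_4, TDD_0_5, tq 0 5),
  (ma_5, TDD_0_6, tq 0 6),
  (ma_6, TDD_0_7, tq 0 7),
  (ma_7, TDD_0_8, tq 0 8),
  (ma_8, dd_34, tq 0 9),
  (ma_9, dd_35, tq 0 10),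
  (ma_10, dd_36, tq 0 11),
  (ma_11, dd_37, tq 0 12),
  (ma_12, dd_38, tq 0 13),
  (ma_13, dd_39, tq 0 14),
  (ma_14, dd_40, tq 0 15),
  (ma_15, TDD_0_16, tq 0 16),
  (ma_16, dd_41, tq 0 17),
  (ma_17, dd_42, tq 0 18),
  (ma_18, dd_43, tq 0 19),
  (ma_19, dd_44, tq 0 20),
  (ma_20, dd_45, tq 0 21),
  (ma_21, dd_46, tq 0 22),
  (ma_22, dd_47, tq 0 23),
  (ma_23, dd_48, tq 1 4),
  (ma_24, dd_49, tq 1 5),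
  (ma_25, dd_50, tq 1 6),
  (ma_26, dd_51, tq 1 10),
  (ma_27, TDD_2_5, tq 4 5),
  (ma_28, TDD_2_6, tq 4 6),
  (ma_29, TDD_2_10, tq 4 10)]
noncomputable def mz_0 : AZ := mkAZ [0, 1, 2, 3, 7, 11, 8, 6, 4, 5, 9, 10, 18, 17, 20, 14, 22, 13, 12, 21, 23, 16, 19, 15]
noncomputable def ma_30 : AM := mkAM [0, 1, 3, 2, 9, 10, 11, 7, 8, 4, 5, 6, 12, 18, 21, 15, 19, 17, 13, 16, 20, 14, 23, 22]
/-- the point `0` stays among the first twelve points -/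
noncomputable def inn (a : AM) : Bool := (List.range 12).any (a.mp 0)
theorem card_TT : Nat.card TT = 64 :=
  (PE.card CTT_ok rfl).trans (by decide +kernel)

theorem card_DD : Nat.card DD = 480 :=
  (PE.card CDD_ok rfl).trans (by decide +kernel)

theorem card_BB : Nat.card BB = 60 :=
  (PE.card CBB_ok rfl).trans (by decide +kernel)

theorem card_XX : Nat.card XX = 120 :=
  (PE.card CXX_ok rfl).trans (by decide +kernel)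

theorem card_PP : Nat.card PP = 16 :=
  (PE.card CPP_ok rfl).trans (by decide +kernel)

theorem card_RR : Nat.card RR = 8 :=
  (PE.card CRR_ok rfl).trans (by decide +kernel)

theorem topTT : ∀ {M : Subgroup TT}, (∀ a ∈ [g1, g2, g3], a ∈ M) → M = ⊤ :=
  PE.top_of (by decide +kernel)

theorem topBB : ∀ {M : Subgroup BB}, (∀ a ∈ [zB, bB], a ∈ M) → M = ⊤ :=
  PE.top_of (by decide +kernel)

theorem LI_ok : ∀ t ∈ LI, t.1 = jD t.2.1 :=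
  by decide +kernel

theorem cenI : ∀ x : AM, (∀ u ∈ [jZ ιA], x * u = u * x) → (ap LI x).isSome = true :=
  TAM_tr.cen _ [[], [], [], [], [(0, [(0, 2), (1, 3), (2, 0), (3, 1), (4, 9), (5, 8), (6, 11), (7, 10), (8, 5), (9, 4), (10, 7), (11, 6), (12, 13), (13, 12), (14, 22), (15, 19), (16, 20), (17, 18), (18, 17), (19, 15), (20, 16), (21, 23), (22, 14), (23, 21)])]] (by decide +kernel)

theorem cenO : ∀ x : AM, (∀ u ∈ [jZ oA], x * u = u * x) → jZ ιA * x = x * jZ ιA :=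
  TAM_tr.cen _ [[], [], [], [], [(0, [(0, 12), (1, 17), (2, 13), (3, 18), (4, 14), (5, 20), (6, 23), (7, 19), (8, 16), (9, 22), (10, 15), (11, 21), (12, 0), (13, 2), (14, 4), (15, 10), (16, 8), (17, 1), (18, 3), (19, 7), (20, 5), (21, 11), (22, 9), (23, 6)])]] (by decide +kernel)

theorem fo : ∀ i ∈ List.range 12, ∀ j ∈ List.range 12, (jZ oA).mp i j = false :=
  by decide +kernel

theorem fT : ∀ x : TT, inn (jT x) = true ∧ jZ zA * jT x = jT x * jZ zA :=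
  by decide +kernel

theorem fT1 : jT zT = jZ zA ∧ zT ∈ LD ∧ zT ≠ 1 ∧ (1 : TT) ∈ LD ∧ ∀ a ∈ LD, a⁻¹ ∈ LD ∧ (∃ x y : TT, x * y * x⁻¹ * y⁻¹ = a) ∧ ∀ b ∈ LD, a * b ∈ LD :=
  by decide +kernel

theorem fT2 : ∀ x y : TT, x * y * x⁻¹ * y⁻¹ ∈ LD :=
  by decide +kernel

theorem fT3 : ∀ a : TT, (∀ d ∈ LD, d * a = a * d) → (∀ v ∈ LD, a * a = v * v → a ∈ LD) ∧
    ∀ b : TT, (∀ d ∈ LD, d * b = b * d) → a ∈ LD ∨ b ∈ LD ∨ a * b ∈ LD :=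
  by decide +kernel

theorem fT4 : ∀ y : AZ, (∀ g ∈ [g1, g2, g3], jT g * jZ y = jZ y * jT g) → y = 1 ∨ y = zA :=
  by decide +kernel

/-- the elements generate `TT` together with the centre, and give the centre -/
abbrev Gn (a b c : TT) : Prop := a * b * a⁻¹ * b⁻¹ * (a * b * a⁻¹ * b⁻¹) = zT ∧ (a = g1 ∨ zT * a = g1) ∧ (b = g2 ∨ zT * b = g2) ∧
  (c = g3 ∨ zT * c = g3)
theorem fT5 : ∀ a : TT, a * g1 = g1 * a → ∀ b : TT, b * g2 = g2 * b → (a⁻¹ * g1) * b = b * (a⁻¹ * g1) → (b⁻¹ * g2) * a = a * (b⁻¹ * g2) →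
    ∀ c : TT, c * g3 = g3 * c → (a⁻¹ * g1) * c = c * (a⁻¹ * g1) → (b⁻¹ * g2) * c = c * (b⁻¹ * g2) →
    (c⁻¹ * g3) * a = a * (c⁻¹ * g3) → (c⁻¹ * g3) * b = b * (c⁻¹ * g3) → Gn a b c ∨ Gn (a⁻¹ * g1) (b⁻¹ * g2) (c⁻¹ * g3) :=
  by decide +kernel

theorem fB : ∀ x : BB, inn (jB x) = true ∧ jB x * jZ ιA = jZ ιA * jB x ∧ jB x * jZ oA = jZ oA * jB x ∧
    (x * x = 1 → x = 1 ∨ ∃ b, b * zB * b⁻¹ = x) :=
  by decide +kernel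

theorem fB1 : jB zB = jZ zA ∧ jB yB = yA ∧ zB * zB = 1 ∧ zB ≠ 1 ∧ bB * bB * bB = 1 ∧ bB ≠ 1 ∧
    zB * bB * (zB * bB) * (zB * bB) * (zB * bB) * (zB * bB) = 1 ∧ zB * bB ≠ 1 :=
  by decide +kernel

theorem fB2 : ∀ x ∈ R.CY, jZ zA * x = x * jZ zA → x = 1 ∨ x = jZ ιA ∨ x = jZ oA ∨ x = jZ ιA * jZ oA :=
  by decide +kernel

theorem fD : ∀ d : DD, jZ ιA * jD d = jD d * jZ ιA ∧ (jZ oA * jD d = jD d * jZ oA ∨ jD d * jZ oA * (jD d)⁻¹ = jZ ιA * jZ oA) :=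
  by decide +kernel

theorem fD1 : ∀ d : DD, inn (jD d) = true → jZ oA * jD d = jD d * jZ oA → ∃ x, jX x = jD d :=
  by decide +kernel

theorem fX : ∀ x : XX, ∃ b, jB b = jX x ∨ jB b = jZ ιA * jX x :=
  by decide +kernel

theorem fP : ∀ x : PP, inn (jP x) = true ∧ jZ ιA * jP x = jP x * jZ ιA ∧ jZ zA * jP x = jP x * jZ zA :=
  by decide +kernel

theorem fP1 : ∀ y : AZ, inn (jZ y) = true → ιA * y = y * ιA → ∃ x, jP x = jZ y :=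
  by decide +kernel

theorem fR : ∀ x : RR, inn (jR x) = true ∧ jZ oA * jR x = jR x * jZ oA :=
  by decide +kernel

theorem fj : ∃ j : AZ, ∃ k : AM, inn (jZ j) = true ∧ j * ιA * j⁻¹ = ιA * zA ∧ inn k = true ∧ k * jZ oA * k⁻¹ = jZ oA * jZ zA ∧
    jZ oA * jZ ιA = jZ ιA * jZ oA :=
  ⟨mz_0, ma_30, by decide +kernel⟩

end CF.Mo.M0
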